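import Cfsg.Agent.Spec.Perm
import Cfsg.Agent.Schur.Cl
import Cfsg.Agent.S0243
import Cfsg.Agent.S0280

set_option autoImplicit false
set_option maxRecDepth 1000000
set_option maxHeartbeats 0
set_option Elab.async false

namespace CF.Spec.L33

open CF.Comp CF.Bt Cfsg Matrix

noncomputable def U0_0 : Net := (Net.cons (nat_lit 1) (nat_lit 1344) (Net.cons (nat_lit 2) (nat_lit 545) (Net.cons (nat_lit 4) (nat_lit 12) (Net.cons (nat_lit 8) (nat_lit 28) (Net.cons (nat_lit 4) (nat_lit 261) (Net.cons (nat_lit 2) (nat_lit 515) (Net.cons (nat_lit 1) (nat_lit 273) Net.nil)))))))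
noncomputable def U0_1 : Net := (Net.cons (nat_lit 1) (nat_lit 1040) (Net.cons (nat_lit 2) (nat_lit 272) (Net.cons (nat_lit 4) (nat_lit 2) (Net.cons (nat_lit 8) (nat_lit 26) (Net.cons (nat_lit 4) (nat_lit 268) (Net.cons (nat_lit 2) (nat_lit 515) (Net.cons (nat_lit 1) (nat_lit 1297) Net.nil)))))))
noncomputable def U0 : List Net := [U0_0, U0_1]
noncomputable def U1_0 : Net := (Net.cons (nat_lit 1) (nat_lit 1285) (Net.cons (nat_lit 2) (nat_lit 272) (Net.cons (nat_lit 4) (nat_lit 10) (Net.cons (nat_lit 8) (nat_lit 11) (Net.cons (nat_lit 4) (nat_lit 259) (Net.cons (nat_lit 2) (nat_lit 17) (Net.cons (nat_lit 1) (nat_lit 17) Net.nil)))))))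
noncomputable def U1_1 : Net := (Net.cons (nat_lit 1) (nat_lit 1284) (Net.cons (nat_lit 2) (nat_lit 32) (Net.cons (nat_lit 4) (nat_lit 262) (Net.cons (nat_lit 8) (nat_lit 30) (Net.cons (nat_lit 4) (nat_lit 262) (Net.cons (nat_lit 2) (nat_lit 274) (Net.cons (nat_lit 1) (nat_lit 256) Net.nil)))))))
noncomputable def U1_2 : Net := (Net.cons (nat_lit 1) (nat_lit 336) (Net.cons (nat_lit 2) (nat_lit 816) (Net.cons (nat_lit 4) (nat_lit 6) (Net.cons (nat_lit 8) (nat_lit 6) (Net.cons (nat_lit 4) (nat_lit 266) (Net.cons (nat_lit 2) (nat_lit 512) (Net.cons (nat_lit 1) (nat_lit 1024) Net.nil)))))))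
noncomputable def U1_3 : Net := (Net.cons (nat_lit 1) (nat_lit 340) (Net.cons (nat_lit 2) (nat_lit 769) (Net.cons (nat_lit 4) (nat_lit 260) (Net.cons (nat_lit 8) (nat_lit 13) (Net.cons (nat_lit 4) (nat_lit 260) (Net.cons (nat_lit 2) (nat_lit 801) (Net.cons (nat_lit 1) (nat_lit 340) Net.nil)))))))
noncomputable def U1_4 : Net := (Net.cons (nat_lit 1) (nat_lit 320) (Net.cons (nat_lit 2) (nat_lit 768) (Net.cons (nat_lit 4) (nat_lit 6) (Net.cons (nat_lit 8) (nat_lit 22) (Net.cons (nat_lit 4) (nat_lit 14) (Net.cons (nat_lit 2) (nat_lit 768) (Net.cons (nat_lit 1) (nat_lit 320) Net.nil)))))))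
noncomputable def U1_5 : Net := (Net.cons (nat_lit 2) (nat_lit 512) (Net.cons (nat_lit 8) (nat_lit 24) (Net.cons (nat_lit 2) (nat_lit 768) (Net.cons (nat_lit 1) (nat_lit 64) Net.nil))))
noncomputable def U1 : List Net := [U1_0, U1_1, U1_2, U1_3, U1_4, U1_5]
noncomputable def UW : List (List Nat) := [[(nat_lit 4), (nat_lit 4), (nat_lit 2), (nat_lit 4), (nat_lit 1), (nat_lit 4)],
  [(nat_lit 2), (nat_lit 4), (nat_lit 1), (nat_lit 4), (nat_lit 2), (nat_lit 2), (nat_lit 3)],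
  [(nat_lit 5), (nat_lit 7)],
  [(nat_lit 5), (nat_lit 7), (nat_lit 6), (nat_lit 7), (nat_lit 5)],
  [(nat_lit 9), (nat_lit 11), (nat_lit 10), (nat_lit 11), (nat_lit 9)],
  [(nat_lit 9), (nat_lit 9), (nat_lit 11), (nat_lit 11), (nat_lit 11)]]
noncomputable def UC : List Lvl := [⟨(nat_lit 0), [[(nat_lit 1)],
  [(nat_lit 3)]], (nat_lit 3)⟩,
  ⟨(nat_lit 1), [[(nat_lit 5)],
  [(nat_lit 7)]], (nat_lit 4)⟩,
  ⟨(nat_lit 2), [[(nat_lit 9)],
  [(nat_lit 11)]], (nat_lit 3)⟩,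
  ⟨(nat_lit 3), [[(nat_lit 13)],
  [(nat_lit 15)]], (nat_lit 1)⟩]
noncomputable def UV : List (List Nat) := [[(nat_lit 2832), (nat_lit 5359), (nat_lit 0)],
  [(nat_lit 2083), (nat_lit 5912), (nat_lit 196)],
  [(nat_lit 1285), (nat_lit 2138), (nat_lit 4768)]]
noncomputable def Uσ : Net := (Net.cons (nat_lit 1) (nat_lit 1044) (Net.cons (nat_lit 2) (nat_lit 288) (Net.cons (nat_lit 4) (nat_lit 264) (Net.cons (nat_lit 8) (nat_lit 9) (Net.cons (nat_lit 4) (nat_lit 14) (Net.cons (nat_lit 2) (nat_lit 49) (Net.cons (nat_lit 1) (nat_lit 1029) Net.nil)))))))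
noncomputable def UCs : List (List Nat) := [[(nat_lit 0), (nat_lit 3753), (nat_lit 4438)],
  [(nat_lit 0), (nat_lit 1615), (nat_lit 6576)]]
noncomputable def UA : List (List (List Nat)) := [[[1, 2, 1], [0, 0, 2], [1, 0, 1]],
  [[1, 0, 2], [2, 0, 2], [0, 2, 1]]]
noncomputable def UD : List (List (List (List Nat))) := [[[[1, 0, 0], [0, 1, 2], [0, 0, 1]],
  [[1, 0, 0], [1, 1, 0], [1, 1, 1]],
  [[1, 2, 1], [0, 1, 2], [0, 0, 1]]],
 [[[1, 0, 0], [0, 1, 2], [0, 0, 1]],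
  [[1, 0, 0], [2, 1, 0], [0, 1, 1]],
  [[1, 0, 2], [0, 2, 2], [0, 0, 2]]]]
noncomputable def Ts : List (List (List Nat)) := [[[], [2], [4], [3], [1], [2, 2], [2, 4], [2, 3], [4, 4], [4, 9], [2, 7], [4, 8], [2, 6]], [[], [1], [3], [2], [1, 4], [1, 5], [1, 10], [1, 6], [3, 12], [1, 12], [1, 5, 2], [1, 4, 4]], [[], [2], [4], [1], [2, 6], [2, 4], [2, 8], [2, 2], [4, 1]], [[], [2], [4], [2, 4]]]
noncomputable def Wo : List (List Nat) := [[(nat_lit 1), (nat_lit 1), (nat_lit 4)],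
  [(nat_lit 3), (nat_lit 3), (nat_lit 1), (nat_lit 1)],
  [(nat_lit 2)]]

theorem linU_a : linAll (tabP 3) 13 3 UV UA U0 UCs 2 = true := by decide +kernel
theorem linU : LinOK (tabP 3) 13 3 2 UV UA U0 :=
  ⟨⟨Uσ, by decide +kernel⟩, by decide +kernel, by decide +kernel, rfl,
    UCs, by decide +kernel, rfl, linAll_iff.1 linU_a⟩
theorem chU : ChainGe U0 U1 13 4 2 UW UC 5616 :=
  ⟨rfl, by decide, by decide, slp_of_slpOK (by decide +kernel), by decide +kernel, by decide +kernel,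
    by decide +kernel⟩
theorem memU : allFrom (slAt (tabP 3) 3 UA UD) 0 2 = true := by decide +kernel
theorem lab : LabOK 13 4 (repl 13 4) (full 12) := labOK_spec (by decide +kernel)
theorem en : enumOK (lapp U0 U1) 13 4 (ordP (repl 13 4) (full 12) 13 [6, 8, 13]) UC Ts = true := by decide +kernel
theorem wo : ordWs (lapp U0 U1) 13 4 (repl 13 4) (full 12) Wo [6, 8, 13] = true := by decide +kernel

variable {F : Type*} [Field F] [Fintype F] (hF : Fintype.card F = 3)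
include hF

theorem card : Nat.card (ProjectiveSpecialLinearGroup (Fin 3) F) = 5616 := by
  have h := Cfsg.Agent.S0243.result hF 3 (by norm_num)
  simp [Fin.prod_univ_three] at h
  omega

theorem sp : Sp (ProjectiveSpecialLinearGroup (Fin 3) F) [6, 8, 13] :=
  have : Finite (ProjectiveSpecialLinearGroup (Fin 3) F) := Nat.finite_of_card_ne_zero (by rw [card hF]; decide)
  let ⟨_, _, _, _, hE⟩ := exists_exact (linU.hasReps_PSL (CF.Schur.Pc.exists_ok_prime Nat.prime_three hF) memU) chU (card hF)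
  sp_enum hE lab en wo

end CF.Spec.L33
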