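import Cfsg.Agent.Spec.Cen
import Cfsg.Agent.Comp.J1.Main

set_option autoImplicit false
set_option maxRecDepth 1000000
set_option maxHeartbeats 0
set_option Elab.async false

namespace CF.Spec.J1

open CF.Comp CF.Bt CF.Comp.J1 Cfsg.Spor

noncomputable def N2_0 : Net := (Net.cons (nat_lit 1) (nat_lit 0x100445100104104011544555004104511145414404054115555411111145554444) (Net.cons (nat_lit 2) (nat_lit 0x120313021320301101111031232233110002121030021030012210210023303230) (Net.cons (nat_lit 4) (nat_lit 0xb070f0d03090606050c040d07080d0203000107080a05020e020600030d0c0e02) (Net.cons (nat_lit 8) (nat_lit 0xaa000f008e00a2003900ec003c00f3003b00160036009f00c8008b00ec0088) (Net.cons (nat_lit 16) (nat_lit 0x7ad0000a87d000018e4000071ed000084a50000c1510000018600000020) (Net.cons (nat_lit 32) (nat_lit 0xf7a3519000000003244c05800000000b06891100000000000000045) (Net.cons (nat_lit 64) (nat_lit 0xf18234938b120762000000000000000000000000000002d2) (Net.cons (nat_lit 128) (nat_lit 95) (Net.cons (nat_lit 256) (nat_lit 767) (Net.cons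 (nat_lit 128) (nat_lit 0x655002b9c2f7df9a98a27d623d45c0b3) (Net.cons (nat_lit 64) (nat_lit 0xdcc167d4052aa1f40000000000000000a66f2789bea761c0) (Net.cons (nat_lit 32) (nat_lit 0x20ad77d00000000a60140af0000000019ddbc82000000001893a509) (Net.cons (nat_lit 16) (nat_lit 0x68b9000080770000ddf400003715000020530000afca0000b11d000097b7) (Net.cons (nat_lit 8) (nat_lit 0x3001a00b9005d00a300e8009400520060003d007300900056007f00170081000c) (Net.cons (nat_lit 4) (nat_lit 0x801030b08030403060f080b0d0709040d06040e01080c09020908080906030000) (Net.cons (nat_lit 2) (nat_lit 0x10212302003022102022332030003320323233033311333210320130101010033) (Net.cons (nat_lit 1) (nat_lit 0x110514055454105111151511445551551100400450111154401141404401111114) Net.nil)))))))))))))))))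
noncomputable def N2_1 : Net := (Net.cons (nat_lit 1) (nat_lit 0x105410550401140555545540155414151411141414555114414100010114100414) (Net.cons (nat_lit 2) (nat_lit 0x302032013233311210212110231223333030111200031032201223021300332121) (Net.cons (nat_lit 4) (nat_lit 0x3040c0a0f03070306030207090204000d070e0f040b020b060e0f0e080a0c0601) (Net.cons (nat_lit 8) (nat_lit 0xbd001b0020005600380068003800f100a800ba009c009e000600e6006b008c) (Net.cons (nat_lit 16) (nat_lit 0x577c000088590000335c00005fa30000baa10000ad800000151600000033) (Net.cons (nat_lit 32) (nat_lit 0x123c696700000000185e912600000000094f18e60000000000000380) (Net.cons (nat_lit 64) (nat_lit 0x416800100433a26000000000000000000000000000002f8) (Net.cons (nat_lit 128) (nat_lit 307) (Net.cons (nat_lit 256) (nat_lit 1023) (Net.cons (nat_lit 128) (nat_lit 0x975817092fb2dff5936e89820ceda1b9) (Net.cons (nat_lit 64) (nat_lit 0x28fdce83b910ddc80000000000000000e5ce6a76ab11f7b0) (Net.cons (nat_lit 32) (nat_lit 0x2e018bff0000000005fd8dc9000000001f3751a600000000c5f6351a)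 (Net.cons (nat_lit 16) (nat_lit 0xe5ee0000f3370000e1d700009b74000092ea0000c37700002d0400007377) (Net.cons (nat_lit 8) (nat_lit 0x100c300b5009f007200d20003008100ae006b00f7003d0037007700b00049004c) (Net.cons (nat_lit 4) (nat_lit 0x70f0d070c0d0903060f010203080507090b050302060f0d080c0f090a040f0c04) (Net.cons (nat_lit 2) (nat_lit 0x220133322103301011300222220130232131112202232130103012113102321330) (Net.cons (nat_lit 1) (nat_lit 0x1555501115105451010550100141451101055500444405455140411400044044445) Net.nil)))))))))))))))))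
noncomputable def N2_2 : Net := (Net.cons (nat_lit 1) (nat_lit 0x1014051554440401041441005505140400400044154151504500011055540040400) (Net.cons (nat_lit 2) (nat_lit 0x113302023311223310213013201213022021100220101031230312033300000000) (Net.cons (nat_lit 4) (nat_lit 0x9030203060d05040c040a02060100020b020009080c03040307000008000c0900) (Net.cons (nat_lit 8) (nat_lit 0xbb00500025001f0002004900aa00bc00230079001d0058002a008000490020) (Net.cons (nat_lit 16) (nat_lit 0xa28000089e8000090120000297d000003bb0000a4250000844100000000) (Net.cons (nat_lit 32) (nat_lit 0x5039a87100000000280184120000000024934cdd0000000000000000) (Net.cons (nat_lit 64) (nat_lit 0x184000000007200000000000000000000000000000000) (Net.cons (nat_lit 128) (nat_lit 895) (Net.cons (nat_lit 256) (nat_lit 895) (Net.cons (nat_lit 128) (nat_lit 0x1840000000000280000000000037f) (Net.cons (nat_lit 64) (nat_lit 0x975bdd7bef27a0ba0000000000000000d2fe5ddfb6410000) (Net.cons (nat_lit 32) (nat_lit 0xb582827b000000007f7bed6f000000001e3593c00000000002490000)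 (Net.cons (nat_lit 16) (nat_lit 0xc2b80000d9ee0000e9b0000069b900006ee00000058c000026e900004920) (Net.cons (nat_lit 8) (nat_lit 0x30028000c005700d50036002a00a000fc007200920016004600e300a7004900b0) (Net.cons (nat_lit 4) (nat_lit 0x80d060907010a080709060f0205000e0b0e070a0208080d0608020e06070a0900) (Net.cons (nat_lit 2) (nat_lit 0x30230100221311022322121221213332301203300233232331111221221120332) (Net.cons (nat_lit 1) (nat_lit 0x1411114044514540014105411110150404041150105405055544444440155515104) Net.nil)))))))))))))))))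
noncomputable def N2_3 : Net := (Net.cons (nat_lit 1) (nat_lit 0x451444441110415500511045000101101504054544040141004014141154000000) (Net.cons (nat_lit 2) (nat_lit 0x110030121201012233031000303020001031010021101001212123031110300000) (Net.cons (nat_lit 4) (nat_lit 0x10d020500090d090403020b040e05000000060a010d020f060902080100000000) (Net.cons (nat_lit 8) (nat_lit 0x2006500ca0014009e00640082005000000065003400a80010000a001000000000) (Net.cons (nat_lit 16) (nat_lit 0xad40000000c0000825000000001000094200000404a0000100000000000) (Net.cons (nat_lit 32) (nat_lit 0xc82d4000000000001000000000000404a10000000000000000000) (Net.cons (nat_lit 64) (nat_lit 0x100000000029400000000000000000000000000000000) (Net.cons (nat_lit 128) (nat_lit 660) (Net.cons (nat_lit 256) (nat_lit 660) (Net.cons (nat_lit 128) (nat_lit 0x10000000000000000000000000294) (Net.cons (nat_lit 64) (nat_lit 0xd8250000002940000000000000000404a100000000000) (Net.cons (nat_lit 32) (nat_lit 0xa5c82d4000000008251000000000000d46a10480000000010000000) (Net.cons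 (nat_lit 16) (nat_lit 0xdffe000035af0000d6f2000050010000f53400006ada00001a1000000000) (Net.cons (nat_lit 8) (nat_lit 0x200d20027005c0040001f00af007d000000a900be006500b500af00b100000000) (Net.cons (nat_lit 4) (nat_lit 0xd010e050f090009050c060c0e040f0a040403070d010e070c03080605040c0000) (Net.cons (nat_lit 2) (nat_lit 0x220000212102021133022220211202011231010021101203030301213332300130) (Net.cons (nat_lit 1) (nat_lit 0x1114141104445040015044510554501105554454544040141004014141154415004) Net.nil)))))))))))))))))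
noncomputable def N2_4 : Net := (Net.cons (nat_lit 1) (nat_lit 0x1044055140505154451151415040555141545510514051550105540145500000000) (Net.cons (nat_lit 2) (nat_lit 0x112303331203130301113110310310223010112320311220301300030221330000) (Net.cons (nat_lit 4) (nat_lit 0xe0f0f02050b0207070a0405040e01000302020f000e0b03010c040b06020c0000) (Net.cons (nat_lit 8) (nat_lit 0x9500ba003d007d004a003900d20014000c00350027003000f1006300700080) (Net.cons (nat_lit 16) (nat_lit 0xf5a20000f29000008800000010340000c21d0000a4870000000800000020) (Net.cons (nat_lit 32) (nat_lit 0x2551800200000000002004ff0000000083d030070000000000000000) (Net.cons (nat_lit 64) (nat_lit 0x80100000da00000000000000000000000000000000) (Net.cons (nat_lit 128) (nat_lit 1023) (Net.cons (nat_lit 256) (nat_lit 1023) (Net.cons (nat_lit 128) (nat_lit 0x801000000000200448000003ff) (Net.cons (nat_lit 64) (nat_lit 0x5e8729a473d8d8e500000000000000007d83b0278e500020) (Net.cons (nat_lit 32) (nat_lit 0x5e385619000000000ca0ccfb00000000a62a9a010000000001100000)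 (Net.cons (nat_lit 16) (nat_lit 0xd1110000572700009b210000f8230000b20b000040150000e28e000070a0) (Net.cons (nat_lit 8) (nat_lit 0x9000a3006300c400f800d60009001400dc002500a300b1007400eb00700080) (Net.cons (nat_lit 4) (nat_lit 0x501030b0a0b0d0f0e0904020c0107080307060a040e0b03050d010b03070c0000) (Net.cons (nat_lit 2) (nat_lit 0x221303332123230302223220330320113011112320310321301300030231330330) (Net.cons (nat_lit 1) (nat_lit 0x511500415050401104404140515000415545510514051550105540145500555050) Net.nil)))))))))))))))))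
noncomputable def N2_5 : Net := (Net.cons (nat_lit 1) (nat_lit 0x451444441110415500511045000101101504054544040141004014141154000000) (Net.cons (nat_lit 2) (nat_lit 0x110030121201012233031000303020001031010021101001212123031110300000) (Net.cons (nat_lit 4) (nat_lit 0x10d020500090d090403020b040e05000000060a010d020f060902080100000000) (Net.cons (nat_lit 8) (nat_lit 0x2006500ca0014009e00640082005000000065003400a80010000a001000000000) (Net.cons (nat_lit 16) (nat_lit 0xad40000000c0000825000000001000094200000404a0000100000000000) (Net.cons (nat_lit 32) (nat_lit 0xc82d4000000000001000000000000404a10000000000000000000) (Net.cons (nat_lit 64) (nat_lit 0x100000000029400000000000000000000000000000000) (Net.cons (nat_lit 128) (nat_lit 660) (Net.cons (nat_lit 256) (nat_lit 660) (Net.cons (nat_lit 128) (nat_lit 0x10000000000000000000000000294) (Net.cons (nat_lit 64) (nat_lit 0xd8250000002940000000000000000404a100000000000) (Net.cons (nat_lit 32) (nat_lit 0xa5c82d4000000008251000000000000d46a10480000000010000000) (Net.cons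 (nat_lit 16) (nat_lit 0xdffe000035af0000d6f2000050010000f53400006ada00001a1000000000) (Net.cons (nat_lit 8) (nat_lit 0x200d20027005c0040001f00af007d000000a900be006500b500af00b100000000) (Net.cons (nat_lit 4) (nat_lit 0xd010e050f090009050c060c0e040f0a040403070d010e070c03080605040c0000) (Net.cons (nat_lit 2) (nat_lit 0x220000212102021133022220211202011231010021101203030301213332300130) (Net.cons (nat_lit 1) (nat_lit 0x1114141104445040015044510554501105554454544040141004014141154415004) Net.nil)))))))))))))))))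
noncomputable def N2_6 : Net := (Net.cons (nat_lit 1) (nat_lit 0x1044055140505154451151415040555141545510514051550105540145500000000) (Net.cons (nat_lit 2) (nat_lit 0x112303331203130301113110310310223010112320311220301300030221330000) (Net.cons (nat_lit 4) (nat_lit 0xe0f0f02050b0207070a0405040e01000302020f000e0b03010c040b06020c0000) (Net.cons (nat_lit 8) (nat_lit 0x9500ba003d007d004a003900d20014000c00350027003000f1006300700080) (Net.cons (nat_lit 16) (nat_lit 0xf5a20000f29000008800000010340000c21d0000a4870000000800000020) (Net.cons (nat_lit 32) (nat_lit 0x2551800200000000002004ff0000000083d030070000000000000000) (Net.cons (nat_lit 64) (nat_lit 0x80100000da00000000000000000000000000000000) (Net.cons (nat_lit 128) (nat_lit 1023) (Net.cons (nat_lit 256) (nat_lit 1023) (Net.cons (nat_lit 128) (nat_lit 0x801000000000200448000003ff) (Net.cons (nat_lit 64) (nat_lit 0x5e8729a473d8d8e500000000000000007d83b0278e500020) (Net.cons (nat_lit 32) (nat_lit 0x5e385619000000000ca0ccfb00000000a62a9a010000000001100000)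 (Net.cons (nat_lit 16) (nat_lit 0xd1110000572700009b210000f8230000b20b000040150000e28e000070a0) (Net.cons (nat_lit 8) (nat_lit 0x9000a3006300c400f800d60009001400dc002500a300b1007400eb00700080) (Net.cons (nat_lit 4) (nat_lit 0x501030b0a0b0d0f0e0904020c0107080307060a040e0b03050d010b03070c0000) (Net.cons (nat_lit 2) (nat_lit 0x221303332123230302223220330320113011112320310321301300030231330330) (Net.cons (nat_lit 1) (nat_lit 0x511500415050401104404140515000415545510514051550105540145500555050) Net.nil)))))))))))))))))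
noncomputable def N2_7 : Net := (Net.cons (nat_lit 1) (nat_lit 0x14015050405541055011105014041454415551015455550510500404440454004) (Net.cons (nat_lit 2) (nat_lit 0x323110230321313332132310111331220002220323031012332323203021331300) (Net.cons (nat_lit 4) (nat_lit 0xe000505090b05080e090b020b0d040a0f0b0d010003090a000b0c040c01010300) (Net.cons (nat_lit 8) (nat_lit 0x1009f0070002f00ec00dc0051004b005500ff00900085007c009d001b00880088) (Net.cons (nat_lit 16) (nat_lit 0x40a10000a3190000ca950000411c0000f19d000001c100000024000000cc) (Net.cons (nat_lit 32) (nat_lit 0xa1a111ab000000006aa35a8f0000000080c033040000000000000102) (Net.cons (nat_lit 64) (nat_lit 0x9268ca9278215930000000000000000000000000000010c) (Net.cons (nat_lit 128) (nat_lit 147) (Net.cons (nat_lit 256) (nat_lit 479) (Net.cons (nat_lit 128) (nat_lit 0x335cef1b858f4eebe5a211cdfb34351) (Net.cons (nat_lit 64) (nat_lit 0x341f3348e84db97d00000000000000004e0791ae129aa85e) (Net.cons (nat_lit 32) (nat_lit 0xb57d31db0000000015bace6f00000000bda9f5a20000000056ee833c)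 (Net.cons (nat_lit 16) (nat_lit 0x6d160000f4a800000e750000455c0000c76100009f6c00002b1e000064e0) (Net.cons (nat_lit 8) (nat_lit 0x3009600b4002800ab00ba00e100ed0049009d0052007d002a007e005a006b007b) (Net.cons (nat_lit 4) (nat_lit 0xd030f0a0e01090b03010d020304000a0a0f07010f070d00010e0702080e070203) (Net.cons (nat_lit 2) (nat_lit 0x210333213220103211332123121002111013022003200002102301013300221102) (Net.cons (nat_lit 1) (nat_lit 0x1405001401051445454550145515055544404014514001415104414405501044140) Net.nil)))))))))))))))))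
noncomputable def N2_8 : Net := (Net.cons (nat_lit 1) (nat_lit 0x550040115111401141500551104041054114411415151045015114100145041000) (Net.cons (nat_lit 2) (nat_lit 0x310312001031221313000213122030211230203003333233330212311100120012) (Net.cons (nat_lit 4) (nat_lit 0x805000c060503000c000d0700010d0401080007040a0b0b0e040e06070e040801) (Net.cons (nat_lit 8) (nat_lit 0xaf00b400190077002200c6001100c2005a0028003a00b000ce00a800e000a4) (Net.cons (nat_lit 16) (nat_lit 0x23130000c4240000fc08000099510000d13b000069530000c01e00000041) (Net.cons (nat_lit 32) (nat_lit 0x91070f9600000000488dec2700000000ab3a8e900000000000000192) (Net.cons (nat_lit 64) (nat_lit 0x203c61d0ab51940600000000000000000000000000000099) (Net.cons (nat_lit 128) (nat_lit 846) (Net.cons (nat_lit 256) (nat_lit 1023) (Net.cons (nat_lit 128) (nat_lit 0xb4f73ff74ae8c5d11749d024f5bf5ba5) (Net.cons (nat_lit 64) (nat_lit 0x2a9a1e9515a259c000000000000000006ae2ca842550c761) (Net.cons (nat_lit 32) (nat_lit 0x23eafc1d0000000005729d80000000007f108111000000001223e859)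 (Net.cons (nat_lit 16) (nat_lit 0xcce00000b37d0000ead50000a0170000a00d00008e660000a76c00002b82) (Net.cons (nat_lit 8) (nat_lit 0x11004a0032008f0060004f001c007c0087007e00e8003f0036006a00d100cb) (Net.cons (nat_lit 4) (nat_lit 0x10d0403010a0a0a0100070f06030e0f0d050e04040508090903090e0a0c0e060a) (Net.cons (nat_lit 2) (nat_lit 0x332211320012212103002330222332333232001122210321001020313300113) (Net.cons (nat_lit 1) (nat_lit 0x1144141551444450454554050404551541001501040450510444154505044410514) Net.nil)))))))))))))))))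
noncomputable def N2_9 : Net := (Net.cons (nat_lit 1) (nat_lit 0x44040401545401545500515055401100500101555040004404011101550504010) (Net.cons (nat_lit 2) (nat_lit 0x120231102300112223111110202032300022022223113301132001303100000330) (Net.cons (nat_lit 4) (nat_lit 0x9000b04030d04010806030f0c0e02000901010401060900010400010000000600) (Net.cons (nat_lit 8) (nat_lit 0xfe0017000000e9000d001000b00080006d0000009100480081009000040000) (Net.cons (nat_lit 16) (nat_lit 0x677d0000200100000c3c00008005000048900000b8000000900000000000) (Net.cons (nat_lit 32) (nat_lit 0x3082037c000000008005000000000000284090000000000000000000) (Net.cons (nat_lit 64) (nat_lit 0x800500000000037c00000000000000000000000000000000) (Net.cons (nat_lit 128) (nat_lit 892) (Net.cons (nat_lit 256) (nat_lit 892) (Net.cons (nat_lit 128) (nat_lit 0x8005000000000000000000000000037c) (Net.cons (nat_lit 64) (nat_lit 0xb087001c0001037c00000000000000002840900000000000) (Net.cons (nat_lit 32) (nat_lit 0x7f9e237d000000008c3500000000000069d0b8000000000090000000)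 (Net.cons (nat_lit 16) (nat_lit 0x4fbe000077a30000ef300000b085000047f000002ee900009f8000000400) (Net.cons (nat_lit 8) (nat_lit 0x30004004200e1002c00a000cf007200c8009f00f90046009e006f00f100040060) (Net.cons (nat_lit 4) (nat_lit 0x8020f0602090002010c0208060f0d060801070d08070e020e08010c0f0408060c) (Net.cons (nat_lit 2) (nat_lit 0x210222300020210232010311003003030302203010301020312030100232132132) (Net.cons (nat_lit 1) (nat_lit 0x1514014444550005155144150414155044011505145140451050011401001405004) Net.nil)))))))))))))))))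
noncomputable def N2_10 : Net := (Net.cons (nat_lit 1) (nat_lit 0x151400510055454404011044550110501501414455541140044454545410010110) (Net.cons (nat_lit 2) (nat_lit 0x122011212200023311022120030221300020032223122221222011222300110000) (Net.cons (nat_lit 4) (nat_lit 0xd0105060f0a07030e0f04090e08010c0b07080d090009070a09070c0700020500) (Net.cons (nat_lit 8) (nat_lit 0x2005a00eb004c00e2009700e8003200fd005f00c80043002200a000b400050020) (Net.cons (nat_lit 16) (nat_lit 0xbae00006f0e0000b8e60000834b000007a30000e2620000990000000000) (Net.cons (nat_lit 32) (nat_lit 0xb398004800000000810234920000000008a0c1400000000000000000) (Net.cons (nat_lit 64) (nat_lit 0x10200000000014000000000000000000000000000000000) (Net.cons (nat_lit 128) (nat_lit 1023) (Net.cons (nat_lit 256) (nat_lit 1023) (Net.cons (nat_lit 128) (nat_lit 0x10200000000000080003400000003ff) (Net.cons (nat_lit 64) (nat_lit 0x61330b4293cc0e08000000000000000037fcdbf5ba010000) (Net.cons (nat_lit 32) (nat_lit 0xb667d3900000000ff0bf724000000001a71c1820000000052050000)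 (Net.cons (nat_lit 16) (nat_lit 0x8db6000017d20000b9d60000cb43000087720000abaa000088c200000120) (Net.cons (nat_lit 8) (nat_lit 0x3006b007f0098001500e6005c003800fd005f00e9007a002a00a000fc00050070) (Net.cons (nat_lit 4) (nat_lit 0x20e06050309070f0103040a01080e000a030c0c080108020b08060806000e0508) (Net.cons (nat_lit 2) (nat_lit 0x211022121100013322011210030112300031032222123230222001332201220200) (Net.cons (nat_lit 1) (nat_lit 0x1404155045500101151544511005445055501414455541540044454545410545110) Net.nil)))))))))))))))))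
noncomputable def N2_11 : Net := (Net.cons (nat_lit 1) (nat_lit 0x1004040545550105444500551554404515454044054015144515014155004055010) (Net.cons (nat_lit 2) (nat_lit 0x311011321302302102100023320120201022101022003310131133322011102030) (Net.cons (nat_lit 4) (nat_lit 0xf0004040c070904070a04090b0c020e0d0b0c010c000200030802020b08080100) (Net.cons (nat_lit 8) (nat_lit 0xa60008002d001200c40075009a003a0086004000c7003c00f000a000590044) (Net.cons (nat_lit 16) (nat_lit 0xc541000006f10000a1bd00004c480000312a0000148800000029000000e4) (Net.cons (nat_lit 32) (nat_lit 0xf17b4393000000001a9c19cf00000000a62b90810000000000000363) (Net.cons (nat_lit 64) (nat_lit 0x68880d0032192c600000000000000000000000000000058) (Net.cons (nat_lit 128) (nat_lit 960) (Net.cons (nat_lit 256) (nat_lit 1023) (Net.cons (nat_lit 128) (nat_lit 0xd7c3fd8e8416405c681e6b7adfefdd43) (Net.cons (nat_lit 64) (nat_lit 0x3271f5bd864e9ba4000000000000000086b79fac2c994109) (Net.cons (nat_lit 32) (nat_lit 0x23ba7599000000001d1a2e990000000082c99d7a00000000ec895847)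 (Net.cons (nat_lit 16) (nat_lit 0xe63e0000c6f50000f842000037930000eb0a0000c72f00003f1000001bb4) (Net.cons (nat_lit 8) (nat_lit 0x100660024007600d900d300fa003800eb001700aa001f002700c900c500e8003f) (Net.cons (nat_lit 4) (nat_lit 0x5020302040f0a090f040206060001010d0f0c0b050d0e000c040706010d0103) (Net.cons (nat_lit 2) (nat_lit 0x1013021010313323230131012330132020011321133323332100010311101320) (Net.cons (nat_lit 1) (nat_lit 0x504445104540444105055505541504440551150041451455014514401514510145) Net.nil)))))))))))))))))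
noncomputable def N2_12 : Net := (Net.cons (nat_lit 1) (nat_lit 0x1440444451414411451404510444010101405105051544105055054444054155100) (Net.cons (nat_lit 2) (nat_lit 0x231030111323230233200100301001121222122132213223003110211223223332) (Net.cons (nat_lit 4) (nat_lit 0x3040e0304070c090a090c0c0e05030d0306050b0a090c02000200020b0b010000) (Net.cons (nat_lit 8) (nat_lit 0x1500aa0082001f00540080003100760081001a008f002e006b0072007000a0) (Net.cons (nat_lit 16) (nat_lit 0xcced0000d57e0000103b00003bc600004c750000124b0000297b00000201) (Net.cons (nat_lit 32) (nat_lit 0xe2a0498e000000000290190f0000000021956b060000000000000008) (Net.cons (nat_lit 64) (nat_lit 0xcc868378382a8980000000000000000000000000000001e2) (Net.cons (nat_lit 128) (nat_lit 661) (Net.cons (nat_lit 256) (nat_lit 1023) (Net.cons (nat_lit 128) (nat_lit 0x355d12792edd5a9ee8c385815537a7b9) (Net.cons (nat_lit 64) (nat_lit 0xaa523af5d06f2d4b0000000000000000263a9e85793461f2) (Net.cons (nat_lit 32) (nat_lit 0x7062102f0000000008a420cc00000000528a624200000000036d291d)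 (Net.cons (nat_lit 16) (nat_lit 0xb5200000aabf00003e720000979600000a0d0000ca4c0000b16600004553) (Net.cons (nat_lit 8) (nat_lit 0x1003f0038007300f500c1009e00a700b5003f008a0007005c0068006d00c1000e) (Net.cons (nat_lit 4) (nat_lit 0xe090c0609000c0f000d0100020e070b010c040c080f0e04020b03070d0a090a0e) (Net.cons (nat_lit 2) (nat_lit 0x10022220032200122313201101211232321332230311323003101131230211321) (Net.cons (nat_lit 1) (nat_lit 0x454541455150140050040054454455445011400010555544055051454005550054) Net.nil)))))))))))))))))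
noncomputable def N2_13 : Net := (Net.cons (nat_lit 1) (nat_lit 0x411545514011004415050005545105000400000111501441511001414144140100) (Net.cons (nat_lit 2) (nat_lit 0x211303111122200320032301203002302220223011223332101201113020210100) (Net.cons (nat_lit 4) (nat_lit 0x7080b030b07050c02050e090b0602000d00070f0d0b0603060800010100000500) (Net.cons (nat_lit 8) (nat_lit 0xe8008e0042001600c6007a00e0000800a200b20023009c00a100e000210000) (Net.cons (nat_lit 16) (nat_lit 0x5ae0000068d5000056f20000081c0000cf080000816b0000ca9000000000) (Net.cons (nat_lit 32) (nat_lit 0x18110c3a00000000081000f000000000c900dcd20000000000000000) (Net.cons (nat_lit 64) (nat_lit 0x80000c00000009f00000000000000000000000000000000) (Net.cons (nat_lit 128) (nat_lit 1023) (Net.cons (nat_lit 256) (nat_lit 1023) (Net.cons (nat_lit 128) (nat_lit 0x80000c00000000300100000000003ff) (Net.cons (nat_lit 64) (nat_lit 0x9ac08fddce79b2fb00000000000000000750dcfacc010000) (Net.cons (nat_lit 32) (nat_lit 0x19f67b2200000000bf92e0d00000000010b0ee5d000000005a200000)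 (Net.cons (nat_lit 16) (nat_lit 0xc732000085b20000d7e500000c1000007e6c000091c10000798300002100) (Net.cons (nat_lit 8) (nat_lit 0x200a8000200fa00740098002d002c002c00210046007500610002009500210058) (Net.cons (nat_lit 4) (nat_lit 0xf010f050b060308020701030e000e060c0300010503040f0b090809000a05050c) (Net.cons (nat_lit 2) (nat_lit 0x132311201310202330110102331031132123332330121131032212033003120230) (Net.cons (nat_lit 1) (nat_lit 0x1054540101404544110045055110051011455550154154011400510451044000410) Net.nil)))))))))))))))))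
noncomputable def N2 : List Net := [N2_0, N2_1, N2_2, N2_3, N2_4, N2_5, N2_6, N2_7, N2_8, N2_9, N2_10, N2_11, N2_12, N2_13]
noncomputable def W2 : List (List Nat) := [[(nat_lit 12), (nat_lit 5), (nat_lit 3), (nat_lit 1), (nat_lit 9), (nat_lit 13), (nat_lit 17)],
  [(nat_lit 6), (nat_lit 13), (nat_lit 1), (nat_lit 9), (nat_lit 13)],
  [(nat_lit 21), (nat_lit 20)],
  [(nat_lit 20), (nat_lit 21), (nat_lit 20), (nat_lit 22), (nat_lit 20), (nat_lit 20)],
  [(nat_lit 25), (nat_lit 23), (nat_lit 23), (nat_lit 23), (nat_lit 25)],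
  [(nat_lit 24), (nat_lit 25), (nat_lit 24)],
  [(nat_lit 27), (nat_lit 27), (nat_lit 29), (nat_lit 27), (nat_lit 29)],
  [(nat_lit 5), (nat_lit 9), (nat_lit 1), (nat_lit 17), (nat_lit 1), (nat_lit 12), (nat_lit 8), (nat_lit 17), (nat_lit 12), (nat_lit 17)],
  [(nat_lit 13), (nat_lit 1), (nat_lit 17), (nat_lit 1), (nat_lit 6), (nat_lit 7), (nat_lit 17), (nat_lit 12)],
  [(nat_lit 36), (nat_lit 36), (nat_lit 34), (nat_lit 36), (nat_lit 36), (nat_lit 33)],
  [(nat_lit 35), (nat_lit 34)],
  [(nat_lit 4), (nat_lit 12), (nat_lit 1), (nat_lit 15), (nat_lit 1), (nat_lit 10), (nat_lit 8), (nat_lit 17), (nat_lit 12), (nat_lit 17)],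
  [(nat_lit 1), (nat_lit 9), (nat_lit 1), (nat_lit 12), (nat_lit 7), (nat_lit 9), (nat_lit 12), (nat_lit 14)],
  [(nat_lit 44), (nat_lit 44), (nat_lit 42), (nat_lit 43), (nat_lit 42)]]
noncomputable def y7 : List Nat := [(nat_lit 3), (nat_lit 1)]
noncomputable def T7 : Tr := (.sym [[1]] (.cons [] 6 1 (.base (nat_lit 4094) (.focus 0 (.base (nat_lit 0x3fffffffffffffffffffffffffff000000) (.op 7 0 (.focus 0 (.op 7 0 (.op 7 0 (.focus 0 (.op 2 0 (.xor 0 2 (.focus 0 (.cons [] 0 1 (.focus 7 (.focus 5 (.focus 1 (.xor 2 0 (.focus 0 (.cons [] 0 1 (.focus 9 (.focus 7 (.focus 6 (.focus 5 (.cons [] 0 1 (.focus 10 (.focus 4 (.base (nat_lit 144) (.focus 0 (.cons [] 0 1 .triv .nil))))) .nil))))) .nil)))))) .nil)))))))))))) (.cons [4, 1] 6 0 (.base (nat_lit 4094) (.op 4 1 (.op 4 0 (.op 4 0 (.and 3 0 (.dead0 0)))))) (.cons [6, 1] 6 0 (.base (nat_lit 16773120) (.op 4 1 (.op 4 0 (.op 4 0 (.and 3 0 (.dead0 0)))))) (.cons [5, 1] 6 0 (.base (nat_lit 0x3fffffffffffffffffffffffffff000000) (.op 4 1 (.and 1 0 (.dead0 0)))) (.cons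 [14, 1] 6 0 (.base (nat_lit 16773120) (.op 4 1 (.and 1 0 (.dead0 0)))) (.cons [13, 1] 6 0 (.base (nat_lit 4094) (.op 4 1 (.and 1 0 (.dead0 0)))) (.cons [12, 1] 6 0 (.base (nat_lit 0x3fffffffffffffffffffffffffff000000) (.op 4 1 (.op 4 0 (.op 4 0 (.and 3 0 (.dead0 0)))))) (.cons [11, 1] 6 0 (.base (nat_lit 0x3fffffffffffffffffffffffffff000000) (.op 4 1 (.and 1 0 (.dead0 0)))) (.cons [10, 1] 6 0 (.base (nat_lit 0x3fffffffffffffffffffffffffff000000) (.op 4 1 (.and 1 0 (.dead0 0)))) (.cons [17, 1] 6 0 (.base (nat_lit 0x3fffffffffffffffffffffffffff000000) (.op 4 1 (.op 4 0 (.op 4 0 (.and 3 0 (.dead0 0)))))) (.cons [9, 1] 6 0 (.base (nat_lit 0x3fffffffffffffffffffffffffff000000) (.op 4 1 (.and 1 0 (.dead0 0)))) (.cons [15, 1] 6 0 (.base (nat_lit 0x3fffffffffffffffffffffffffff000000) (.op 4 1 (.op 4 0 (.and 2 0 (.dead0 0))))) (.cons [1, 17, 1] 6 0 (.base (nat_lit 0x3fffffffffffffffffffffffffff000000) (.op 4 1 (.and 1 0 (.dead0 0)))) (.cons [1, 15, 1] 6 0 (.base (nat_lit 0x3fffffffffffffffffffffffffff000000)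 (.op 4 1 (.op 4 0 (.and 2 0 (.dead0 0))))) (.cons [6, 4, 1] 6 0 (.base (nat_lit 0x3fffffffffffffffffffffffffff000000) (.op 4 1 (.and 1 0 (.dead0 0)))) (.cons [12, 5, 1] 6 0 (.base (nat_lit 16773120) (.op 4 1 (.op 4 0 (.op 4 0 (.and 3 0 (.dead0 0)))))) (.cons [6, 3, 1] 6 0 (.base (nat_lit 16773120) (.op 4 1 (.and 1 0 (.dead0 0)))) (.cons [10, 14, 1] 6 0 (.base (nat_lit 0x3fffffffffffffffffffffffffff000000) (.op 4 1 (.op 4 0 (.op 4 0 (.and 3 0 (.dead0 0)))))) (.cons [4, 6, 1] 6 0 (.base (nat_lit 0x3fffffffffffffffffffffffffff000000) (.op 4 1 (.and 1 0 (.dead0 0)))) (.cons [11, 6, 1] 6 0 (.base (nat_lit 16773120) (.op 4 1 (.op 4 0 (.and 2 0 (.dead0 0))))) (.cons [12, 13, 1] 6 0 (.base (nat_lit 0x3fffffffffffffffffffffffffff000000) (.op 4 1 (.and 1 0 (.dead0 0)))) (.cons [14, 4, 1] 6 0 (.base (nat_lit 16773120) (.op 4 1 (.op 4 0 (.and 2 0 (.dead0 0))))) (.cons [6, 6, 1] 6 0 (.base (nat_lit 0x3fffffffffffffffffffffffffff000000) (.op 4 1 (.op 4 0 (.and 2 0 (.dead0 0))))) (.cons [6, 17, 1] 6 0 (.base (nat_lit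 4094) (.op 4 1 (.op 4 0 (.and 2 0 (.dead0 0))))) (.cons [12, 6, 1] 6 0 (.base (nat_lit 0x3fffffffffffffffffffffffffff000000) (.op 4 1 (.op 4 0 (.op 4 0 (.and 3 0 (.dead0 0)))))) (.cons [14, 3, 1] 6 0 (.base (nat_lit 0x3fffffffffffffffffffffffffff000000) (.op 4 1 (.and 1 0 (.dead0 0)))) (.cons [5, 9, 1] 6 0 (.base (nat_lit 0x3fffffffffffffffffffffffffff000000) (.op 4 1 (.op 4 0 (.and 2 0 (.dead0 0))))) (.cons [17, 6, 1] 6 0 (.base (nat_lit 0x3fffffffffffffffffffffffffff000000) (.op 4 1 (.op 4 0 (.and 2 0 (.dead0 0))))) (.cons [11, 17, 1] 6 0 (.base (nat_lit 0x3fffffffffffffffffffffffffff000000) (.op 4 1 (.op 4 0 (.and 2 0 (.dead0 0))))) (.cons [3, 10, 1] 6 0 (.base (nat_lit 0x3fffffffffffffffffffffffffff000000) (.op 4 1 (.and 1 0 (.dead0 0)))) (.cons [15, 4, 1] 6 0 (.base (nat_lit 0x3fffffffffffffffffffffffffff000000) (.op 4 1 (.and 1 0 (.dead0 0)))) (.cons [11, 11, 1] 6 0 (.base (nat_lit 0x3fffffffffffffffffffffffffff000000) (.op 4 1 (.and 1 0 (.dead0 0)))) (.cons [3, 9, 1] 6 0 (.base (nat_lit 0x3fffffffffffffffffffffffffff000000)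 (.op 4 1 (.and 1 0 (.dead0 0)))) (.cons [4, 9, 1] 6 0 (.base (nat_lit 0x3fffffffffffffffffffffffffff000000) (.op 4 1 (.and 1 0 (.dead0 0)))) (.cons [10, 1, 17, 1] 6 0 (.base (nat_lit 4094) (.base (nat_lit 0x3fffffffffffffffffffffffffff000000) (.op 4 0 (.and 2 0 (.op 7 3 (.and 1 0 (.dead0 0))))))) (.cons [3, 14, 3, 1] 6 0 (.base (nat_lit 0x3fffffffffffffffffffffffffff000000) (.op 4 1 (.op 4 0 (.and 2 0 (.dead0 0))))) (.cons [12, 17, 5, 1] 6 0 (.base (nat_lit 0x3fffffffffffffffffffffffffff000000) (.op 4 1 (.and 1 0 (.dead0 0)))) (.cons [10, 1, 13, 1] 6 0 (.base (nat_lit 0x3fffffffffffffffffffffffffff000000) (.op 4 1 (.and 1 0 (.dead0 0)))) .nil)))))))))))))))))))))))))))))))))))))))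
noncomputable def T7K : List (List Nat) := [[1, 7]]
noncomputable def T7F : List (List Nat) := [[], [1]]
noncomputable def y11 : List Nat := [(nat_lit 6)]
noncomputable def T11 : Tr := (.op 5 0 (.focus 0 (.cons [] 0 11 (.base (nat_lit 4094) (.focus 0 (.sym [[1]] (.cons [] 10 1 (.focus 1 (.op 4 0 (.op 4 0 (.op 4 0 (.op 4 0 (.focus 0 (.cons [] 0 1 (.focus 6 (.op 4 0 (.op 4 0 (.focus 0 (.cons [] 0 1 (.focus 2 (.cons [] 0 1 .triv .nil)) .nil))))) .nil))))))) .nil)))) (.cons [12, 1, 15, 1] 0 0 (.base (nat_lit 4094) (.focus 0 (.sym [[1]] (.cons [] 10 0 (.base (nat_lit 0x1000000094108000882200000000000000) (.base (nat_lit 0x28e070230324104802010151a229000000) (.op 7 0 (.and 2 0 (.base (nat_lit 0x6040000082c01000020200000000000) (.op 4 0 (.op 4 0 (.and 3 0 (.dead0 0))))))))) .nil)))) .nil))))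
noncomputable def T11K : List (List Nat) := [[8, 9, 12, 14, 17]]
noncomputable def T11F : List (List Nat) := [[], [1]]
noncomputable def y19 : List Nat := [(nat_lit 2), (nat_lit 15)]
noncomputable def T19 : Tr := (.sym [[1]] (.cons [] 18 1 (.base (nat_lit 4094) (.focus 0 (.base (nat_lit 0x3fffffffffffffffffffffffffff000000) (.op 4 0 (.focus 0 (.op 7 1 (.focus 0 (.op 4 1 (.op 4 0 (.focus 0 (.cons [] 0 1 (.focus 6 (.focus 4 (.focus 3 (.op 2 0 (.xor 0 1 (.focus 0 (.cons [] 0 1 (.focus 9 (.focus 7 (.xor 2 6 (.focus 0 (.xor 3 5 (.focus 0 (.cons [] 0 1 (.focus 12 (.focus 1 (.base (nat_lit 144) (.focus 0 (.focus 3 (.cons [] 0 1 .triv .nil)))))) .nil))))))) .nil))))))) .nil))))))))))) (.cons [3, 1] 18 0 (.base (nat_lit 4094) (.op 4 1 (.op 4 0 (.and 2 0 (.dead0 0))))) (.cons [4, 1] 18 0 (.base (nat_lit 4094) (.op 4 1 (.op 4 0 (.op 4 0 (.op 4 0 (.op 4 0 (.and 5 0 (.dead0 0)))))))) (.cons [6, 1] 18 0 (.base (nat_lit 4094) (.op 4 1 (.op 4 0 (.op 4 0 (.op 4 0 (.op 4 0 (.op 4 0 (.op 4 0 (.op 4 0 (.and 8 0 (.dead0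 0))))))))))) (.cons [5, 1] 18 0 (.base (nat_lit 4094) (.op 4 1 (.op 4 0 (.op 4 0 (.op 4 0 (.op 4 0 (.op 4 0 (.op 4 0 (.op 4 0 (.op 4 0 (.and 9 0 (.dead0 0)))))))))))) (.cons [14, 1] 18 0 (.base (nat_lit 4094) (.op 4 1 (.op 4 0 (.op 4 0 (.op 4 0 (.op 4 0 (.op 4 0 (.op 4 0 (.and 7 0 (.dead0 0)))))))))) (.cons [13, 1] 18 0 (.base (nat_lit 4094) (.op 4 1 (.op 4 0 (.op 4 0 (.op 4 0 (.op 4 0 (.op 4 0 (.op 4 0 (.op 4 0 (.op 4 0 (.and 9 0 (.dead0 0)))))))))))) (.cons [12, 1] 18 0 (.base (nat_lit 4094) (.op 4 1 (.op 4 0 (.op 4 0 (.op 4 0 (.and 4 0 (.dead0 0))))))) (.cons [11, 1] 18 0 (.base (nat_lit 4094) (.op 4 1 (.op 4 0 (.op 4 0 (.and 3 0 (.dead0 0)))))) (.cons [9, 1] 18 0 (.base (nat_lit 4094) (.op 4 1 (.op 4 0 (.op 4 0 (.op 4 0 (.op 4 0 (.op 4 0 (.and 6 0 (.dead0 0))))))))) (.cons [3, 6, 1] 18 0 (.base (nat_lit 4094) (.op 4 1 (.op 4 0 (.op 4 0 (.op 4 0 (.op 4 0 (.op 4 0 (.op 4 0 (.op 4 0 (.op 4 0 (.and 9 0 (.dead0 0)))))))))))) (.cons [6, 3, 1] 18 0 (.base (nat_lit 4094) (.op 4 1 (.op 4 0 (.op 4 0 (.op 4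 0 (.op 4 0 (.op 4 0 (.op 4 0 (.op 4 0 (.op 4 0 (.and 9 0 (.dead0 0)))))))))))) (.cons [12, 14, 1] 18 0 (.base (nat_lit 4094) (.op 4 1 (.op 4 0 (.op 4 0 (.op 4 0 (.op 4 0 (.op 4 0 (.op 4 0 (.op 4 0 (.op 4 0 (.and 9 0 (.dead0 0)))))))))))) (.cons [11, 6, 1] 18 0 (.base (nat_lit 4094) (.op 4 1 (.and 1 0 (.dead0 0)))) .nil)))))))))))))))
noncomputable def T19K : List (List Nat) := [[1, 14, 17]]
noncomputable def T19F : List (List Nat) := [[], [1]]
noncomputable def a2 : List Nat := [(nat_lit 17)]
noncomputable def T2 : Tr := (.op 5 0 (.focus 0 (.sym [[1], [3], [5], [7]] (.cons [] 2 12 (.focus 1 (.base (nat_lit 4094) (.focus 0 (.sym [[1], [3], [5]] (.cons [] 1 4 (.focus 3 (.focus 1 (.op 2 0 (.xor 0 1 (.focus 0 (.sym [[1], [3]] (.cons [] 1 2 (.focus 6 (.focus 4 (.focus 1 (.xor 2 0 (.focus 0 (.cons [] 0 2 .triv .nil)))))) .nil))))))) .nil))))) .nil))))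
noncomputable def T2K : List (List Nat) := [[31], [29, 31], [23, 29], [20, 21]]
noncomputable def T2F : List (List Nat) := [[], [1]]
noncomputable def C2 : List Lvl := [⟨(nat_lit 0), [[(nat_lit 19)],
  [(nat_lit 21)]], (nat_lit 3)⟩,
  ⟨(nat_lit 1), [[(nat_lit 23)],
  [(nat_lit 25)]], (nat_lit 2)⟩,
  ⟨(nat_lit 2), [[(nat_lit 27)],
  [(nat_lit 29)]], (nat_lit 1)⟩,
  ⟨(nat_lit 4), [[(nat_lit 31)]], (nat_lit 1)⟩]
noncomputable def S2 : List (List (List Nat)) := [[[], [4], [1], [2], [1, 1], [2, 2], [2, 4], [4, 1], [4, 6], [4, 2]], [[], [2], [1]], [[], [4]], [[], [2]]]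
noncomputable def a3 : List Nat := [(nat_lit 7)]
noncomputable def T3 : Tr := (.op 5 0 (.focus 0 (.sym [[1], [3], [5]] (.cons [] 2 6 (.base (nat_lit 4094) (.focus 0 (.op 2 0 (.xor 0 3 (.focus 0 (.sym [[1], [3]] (.cons [] 2 2 (.focus 3 (.op 7 0 (.focus 0 (.cons [] 0 2 (.focus 5 (.focus 3 (.base (nat_lit 152) (.focus 0 (.op 4 3 (.xor 6 0 (.focus 0 (.sym [[1]] (.cons [] 1 1 (.focus 2 (.cons [] 0 1 .triv .nil)) .nil))))))))) .nil)))) (.cons [2] 2 0 (.base (nat_lit 0x28e070230324104802010151a229000000) (.and 0 6 (.dead0 0))) .nil)))))))) .nil))))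
noncomputable def T3K : List (List Nat) := [[39], [37], [33, 35, 39, 37]]
noncomputable def T3F : List (List Nat) := [[], [1]]
noncomputable def C3 : List Lvl := [⟨(nat_lit 0), [[(nat_lit 33)],
  [(nat_lit 35)]], (nat_lit 2)⟩,
  ⟨(nat_lit 3), [[(nat_lit 37)],
  [(nat_lit 39)]], (nat_lit 2)⟩]
noncomputable def S3 : List (List (List Nat)) := [[[], [4], [2], [4, 2], [4, 4]], [[], [2], [4], [1], [2, 4], [4, 1]]]
noncomputable def a5 : List Nat := [(nat_lit 12)]
noncomputable def T5 : Tr := (.op 5 0 (.focus 0 (.sym [[1], [3], [5]] (.cons [] 2 5 (.focus 1 (.base (nat_lit 4094) (.focus 0 (.cons [] 0 5 (.focus 1 (.op 2 0 (.xor 0 4 (.focus 0 (.sym [[1]] (.cons [] 4 1 (.focus 4 (.op 7 0 (.op 7 0 (.focus 0 (.cons [] 0 1 (.focus 7 (.base (nat_lit 144) (.focus 0 (.op 7 1 (.xor 7 0 (.focus 0 (.cons [] 0 1 .triv .nil))))))) .nil))))) (.cons [1] 4 0 (.base (nat_lit 152) (.op 4 1 (.and 1 0 (.dead0 0)))) .nil))))))) .nil)))) .nil))))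
noncomputable def T5K : List (List Nat) := [[45], [43, 45, 45], [43, 41, 46]]
noncomputable def T5F : List (List Nat) := [[], [1]]
noncomputable def C5 : List Lvl := [⟨(nat_lit 0), [[(nat_lit 41)],
  [(nat_lit 43)]], (nat_lit 2)⟩,
  ⟨(nat_lit 2), [[(nat_lit 45)]], (nat_lit 4)⟩]
noncomputable def S5 : List (List (List Nat)) := [[[], [2], [3], [4], [2, 4], [2, 3]], [[], [2], [1], [1, 1], [2, 2]]]
noncomputable def Wo : List (List Nat) := [[(nat_lit 1), (nat_lit 13)],
  [(nat_lit 3), (nat_lit 1)],
  [(nat_lit 18), (nat_lit 2)],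
  [(nat_lit 5)],
  [(nat_lit 5), (nat_lit 2)],
  [(nat_lit 16), (nat_lit 2)]]

theorem lab : LabOK 266 9 (repl 266 9) (full 265) := labOK_spec (by decide +kernel)
theorem slp2 : Slp (lapp N N2) 266 9 W2 9 := slp_of_slpOK (by decide +kernel)
theorem ok2 : (Bool.rec false (Nat.ble 175560 (chainProd (lapp N N2) 266 C)) (chainOK (lapp N N2) 266 C) : Bool) = true := by decide +kernel
theorem c7 : cycOK (lapp N N2) 266 9 (repl 266 9) (full 265) C y7 7 1 T7F T7K T7 = true := by decide +kernel
theorem c11 : cycOK (lapp N N2) 266 9 (repl 266 9) (full 265) C y11 11 1 T11F T11K T11 = true := by decide +kernel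
theorem c19 : cycOK (lapp N N2) 266 9 (repl 266 9) (full 265) C y19 19 1 T19F T19K T19 = true := by decide +kernel
theorem z2 : cenOK (lapp N N2) 266 9 C a2 T2F T2K T2 120 C2 = true := by decide +kernel
theorem u2 : enumOK (lapp N N2) 266 9 (ordP (repl 266 9) (full 265) 266 [6, 7, 10, 11, 15, 19]) C2 S2 = true := by decide +kernel
theorem z3 : cenOK (lapp N N2) 266 9 C a3 T3F T3K T3 30 C3 = true := by decide +kernel
theorem u3 : enumOK (lapp N N2) 266 9 (ordP (repl 266 9) (full 265) 266 [6, 7, 10, 11, 15, 19]) C3 S3 = true := by decide +kernel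
theorem z5 : cenOK (lapp N N2) 266 9 C a5 T5F T5K T5 30 C5 = true := by decide +kernel
theorem u5 : enumOK (lapp N N2) 266 9 (ordP (repl 266 9) (full 265) 266 [6, 7, 10, 11, 15, 19]) C5 S5 = true := by decide +kernel
theorem o3 : ordW (lapp N N2) 266 9 (repl 266 9) (full 265) a3 3 = true := by decide +kernel
theorem o5 : ordW (lapp N N2) 266 9 (repl 266 9) (full 265) a5 5 = true := by decide +kernel
theorem wo : ordWs (lapp N N2) 266 9 (repl 266 9) (full 265) Wo [6, 7, 10, 11, 15, 19] = true := by decide +kernel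

theorem sp : Sp J1 [6, 7, 10, 11, 15, 19] := by
  have : Finite J1 := Nat.finite_of_card_ne_zero (by rw [card]; decide)
  have hE := exact_extend (c' := C) exact (k := 9) (by decide) rfl slp2 card ok2
  refine ⟨fun g => ?_, lb_ordWs hE lab wo⟩
  obtain ⟨q, h, hq⟩ | h := dvd_or_pow (p := 2) (a := 3) (π := [3, 5, 7, 11, 19]) (e := 1) (by rw [card]; decide) g
    (by decide)
  · simp only [List.mem_cons, List.not_mem_nil, or_false] at h
    obtain rfl | rfl | rfl | rfl | rfl := h
    · exact ub_of_cent_prime (m := 58520) (by decide) card (by decide) (ordW_spec hE.reps lab hE.faithful trivial o3)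
        (ub_enum (exact_cenOK hE (by decide) (by decide) z3).1 lab u3) hq
    · exact ub_of_cent_prime (m := 35112) (by decide) card (by decide) (ordW_spec hE.reps lab hE.faithful trivial o5)
        (ub_enum (exact_cenOK hE (by decide) (by decide) z5).1 lab u5) hq
    · exact ub_of_cyc hE lab (by decide) (m := 25080) (by decide) card (by decide) c7 (by decide) hq
    · exact ub_of_cyc hE lab (by decide) (m := 15960) (by decide) card (by decide) c11 (by decide) hq
    · exact ub_of_cyc hE lab (by decide) (m := 9240) (by decide) card (by decide) c19 (by decide) hq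
  · obtain ⟨h1, h2⟩ := exact_cenOK hE (by decide) (by decide) z2
    exact ub_of_syl (m := 1463) Nat.prime_two (by rw [h2, card]) (by decide) (ub_enum h1 lab u2) h

end CF.Spec.J1
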