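import Cfsg.Agent.Spec.Perm
import Cfsg.Agent.Schur.Cl
import Cfsg.Agent.S0243
import Cfsg.Agent.S0280

set_option autoImplicit false
set_option maxRecDepth 1000000
set_option maxHeartbeats 0
set_option Elab.async false

namespace CF.Spec.U33

open CF.Comp CF.Bt Cfsg Matrix

noncomputable def U0_0 : Net := (Net.cons (nat_lit 1) (nat_lit 83955792) (Net.cons (nat_lit 2) (nat_lit 1114112) (Net.cons (nat_lit 4) (nat_lit 920840) (Net.cons (nat_lit 8) (nat_lit 224) (Net.cons (nat_lit 16) (nat_lit 224) (Net.cons (nat_lit 8) (nat_lit 524440) (Net.cons (nat_lit 4) (nat_lit 983812) (Net.cons (nat_lit 2) (nat_lit 19992850) (Net.cons (nat_lit 1) (nat_lit 71569745) Net.nil)))))))))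
noncomputable def U0_1 : Net := (Net.cons (nat_lit 1) (nat_lit 22086912) (Net.cons (nat_lit 2) (nat_lit 33558528) (Net.cons (nat_lit 4) (nat_lit 1032) (Net.cons (nat_lit 8) (nat_lit 176) (Net.cons (nat_lit 16) (nat_lit 2224) (Net.cons (nat_lit 8) (nat_lit 786664) (Net.cons (nat_lit 4) (nat_lit 396038) (Net.cons (nat_lit 2) (nat_lit 52563985) (Net.cons (nat_lit 1) (nat_lit 4210961) Net.nil)))))))))
noncomputable def U0 : List Net := [U0_0, U0_1]
noncomputable def U1_0 : Net := (Net.cons (nat_lit 1) (nat_lit 83887124) (Net.cons (nat_lit 2) (nat_lit 16978704) (Net.cons (nat_lit 4) (nat_lit 590595) (Net.cons (nat_lit 8) (nat_lit 131072) (Net.cons (nat_lit 16) (nat_lit 1005) (Net.cons (nat_lit 8) (nat_lit 167) (Net.cons (nat_lit 4) (nat_lit 657679) (Net.cons (nat_lit 2) (nat_lit 33689648) (Net.cons (nat_lit 1) (nat_lit 1393684) Net.nil)))))))))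
noncomputable def U1_1 : Net := (Net.cons (nat_lit 1) (nat_lit 84214804) (Net.cons (nat_lit 2) (nat_lit 17826080) (Net.cons (nat_lit 4) (nat_lit 2312) (Net.cons (nat_lit 8) (nat_lit 131200) (Net.cons (nat_lit 16) (nat_lit 1920) (Net.cons (nat_lit 8) (nat_lit 983056) (Net.cons (nat_lit 4) (nat_lit 590602) (Net.cons (nat_lit 2) (nat_lit 18874416) (Net.cons (nat_lit 1) (nat_lit 67441664) Net.nil)))))))))
noncomputable def U1_2 : Net := (Net.cons (nat_lit 1) (nat_lit 67437584) (Net.cons (nat_lit 2) (nat_lit 53674496) (Net.cons (nat_lit 4) (nat_lit 395788) (Net.cons (nat_lit 8) (nat_lit 393248) (Net.cons (nat_lit 16) (nat_lit 3824) (Net.cons (nat_lit 8) (nat_lit 92) (Net.cons (nat_lit 4) (nat_lit 855808) (Net.cons (nat_lit 2) (nat_lit 33620000) (Net.cons (nat_lit 1) (nat_lit 68173888) Net.nil)))))))))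
noncomputable def U1 : List Net := [U1_0, U1_1, U1_2]
noncomputable def UW : List (List Nat) := [[(nat_lit 2), (nat_lit 2), (nat_lit 2), (nat_lit 4), (nat_lit 4), (nat_lit 1), (nat_lit 3), (nat_lit 3)],
  [(nat_lit 1), (nat_lit 3), (nat_lit 1), (nat_lit 3), (nat_lit 1), (nat_lit 1), (nat_lit 3), (nat_lit 1)],
  [(nat_lit 6), (nat_lit 6), (nat_lit 8), (nat_lit 5), (nat_lit 8), (nat_lit 8), (nat_lit 6)]]
noncomputable def UC : List Lvl := [⟨(nat_lit 0), [[(nat_lit 1)],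
  [(nat_lit 3)]], (nat_lit 6)⟩,
  ⟨(nat_lit 1), [[(nat_lit 5)],
  [(nat_lit 7)]], (nat_lit 5)⟩,
  ⟨(nat_lit 2), [[(nat_lit 9)]], (nat_lit 7)⟩]
noncomputable def UV : List (List Nat) := [[(nat_lit 3147777), (nat_lit 265287678), (nat_lit 0), (nat_lit 0), (nat_lit 0), (nat_lit 0), (nat_lit 0), (nat_lit 0), (nat_lit 0)],
  [(nat_lit 17436672), (nat_lit 3419201), (nat_lit 66180), (nat_lit 201326856), (nat_lit 16384), (nat_lit 4194304), (nat_lit 41943058), (nat_lit 32), (nat_lit 32768)],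
  [(nat_lit 4243488), (nat_lit 8714), (nat_lit 33816960), (nat_lit 134283344), (nat_lit 4097), (nat_lit 1572864), (nat_lit 75498500), (nat_lit 16779264), (nat_lit 2228224)]]
noncomputable def Uσ : Net := (Net.cons (nat_lit 1) (nat_lit 17907776) (Net.cons (nat_lit 2) (nat_lit 51515664) (Net.cons (nat_lit 4) (nat_lit 984576) (Net.cons (nat_lit 8) (nat_lit 524288) (Net.cons (nat_lit 16) (nat_lit 3969) (Net.cons (nat_lit 8) (nat_lit 458908) (Net.cons (nat_lit 4) (nat_lit 787463) (Net.cons (nat_lit 2) (nat_lit 52572176) (Net.cons (nat_lit 1) (nat_lit 71303172) Net.nil)))))))))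
noncomputable def UCs : List (List Nat) := [[(nat_lit 0), (nat_lit 16404), (nat_lit 67108865), (nat_lit 185597952), (nat_lit 2848), (nat_lit 8912904), (nat_lit 2135168), (nat_lit 4456450), (nat_lit 204864)],
  [(nat_lit 0), (nat_lit 41482), (nat_lit 33816960), (nat_lit 75498500), (nat_lit 1572896), (nat_lit 4097), (nat_lit 138477648), (nat_lit 2228224), (nat_lit 16795648)]]
noncomputable def UA : List (List (List Nat)) := [[[2, 7, 1], [7, 1, 3], [6, 1, 5]],
  [[0, 0, 1], [4, 8, 0], [7, 7, 0]]]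
noncomputable def UD : List (List (List (List Nat))) := [[[[1, 0, 0], [5, 1, 0], [3, 4, 1]],
  [[2, 7, 1], [0, 4, 1], [0, 0, 7]]],
 [[[1, 2, 1], [0, 1, 2], [0, 0, 1]],
  [[1, 0, 0], [7, 1, 0], [6, 1, 1]],
  [[4, 8, 1], [0, 5, 5], [0, 0, 1]]]]
noncomputable def Ts : List (List (List Nat)) := [[[], [2], [4], [3], [1], [2, 2], [2, 4], [1, 9], [2, 8], [3, 5], [1, 3], [2, 5], [2, 3], [4, 10], [4, 1], [2, 6], [1, 1], [4, 9], [3, 9], [3, 6], [4, 6], [1, 10], [2, 4, 9], [2, 8, 2], [2, 8, 4], [2, 2, 3], [4, 1, 9], [1, 9, 5]], [[], [4], [1], [2], [2, 5], [2, 6], [4, 6], [1, 3], [4, 2], [1, 1], [4, 1], [1, 6], [2, 2], [2, 4], [1, 3, 2], [4, 1, 1], [2, 5, 3], [2, 5, 1], [4, 6, 1], [2, 6, 3], [4, 2, 4], [2, 2, 2], [2, 5, 2], [4, 2, 6], [4, 6, 2], [1, 3, 6], [2, 6, 1]], [[], [2], [1], [1, 1], [2, 2], [2, 2, 2], [1, 1, 1], [2, 2, 2, 2]]]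
noncomputable def Wo : List (List Nat) := [[(nat_lit 2), (nat_lit 4), (nat_lit 2)],
  [(nat_lit 2), (nat_lit 4)],
  [(nat_lit 3)]]

theorem linU_a : linAll (tabQ 3 2 0) 28 3 UV UA U0 UCs 2 = true := by decide +kernel
theorem linU : LinOK (tabQ 3 2 0) 28 3 2 UV UA U0 :=
  ⟨⟨Uσ, by decide +kernel⟩, by decide +kernel, by decide +kernel, rfl,
    UCs, by decide +kernel, rfl, linAll_iff.1 linU_a⟩
theorem chU : ChainGe U0 U1 28 5 2 UW UC 6048 :=
  ⟨rfl, by decide, by decide, slp_of_slpOK (by decide +kernel), by decide +kernel, by decide +kernel,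
    by decide +kernel⟩
theorem memU : allFrom (suAt (tabQ 3 2 0) 3 3 UA UD) 0 2 = true := by decide +kernel
theorem lab : LabOK 28 5 (repl 28 5) (full 27) := labOK_spec (by decide +kernel)
theorem en : enumOK (lapp U0 U1) 28 5 (ordP (repl 28 5) (full 27) 28 [7, 8, 12]) UC Ts = true := by decide +kernel
theorem wo : ordWs (lapp U0 U1) 28 5 (repl 28 5) (full 27) Wo [7, 8, 12] = true := by decide +kernel

variable {F : Type*} [Field F] [Fintype F] (hF : Fintype.card F = 9)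
include hF

theorem card : Nat.card (PSU 3 F 3) = 6048 := by
  have h := Cfsg.Agent.S0280.result (q := 3) hF 3 (by norm_num)
  simp [Finset.prod_range_succ] at h
  norm_num at h
  omega

theorem sp : Sp (PSU 3 F 3) [7, 8, 12] :=
  have : Finite (PSU 3 F 3) := Nat.finite_of_card_ne_zero (by rw [card hF]; decide)
  let ⟨_, _, _, _, hE⟩ := exists_exact (let ⟨_, hT⟩ := CF.Schur.Pc.exists_ok_nine hF; linU.hasReps_PSU hT (q := 3) hF (by norm_num) memU) chU (card hF)
  sp_enum hE lab en wo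

end CF.Spec.U33
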