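import Cfsg.Agent.Spec.Cen
import Cfsg.Agent.Comp.J2.Main
import Cfsg.Agent.J23.P2F

set_option autoImplicit false
set_option maxRecDepth 1000000
set_option maxHeartbeats 0
set_option Elab.async false

namespace CF.Spec.J2

open CF.Comp CF.Bt CF.J23.P2
open CF.Comp.J2 (g0)

noncomputable def N2_0 : Net := (Net.cons (nat_lit 1) (nat_lit 0x500041104010455454004550) (Net.cons (nat_lit 2) (nat_lit 0x1030110223122230333033330) (Net.cons (nat_lit 4) (nat_lit 0xd060d09050202020e0a090e) (Net.cons (nat_lit 8) (nat_lit 0xe6000800cd007400290006) (Net.cons (nat_lit 16) (nat_lit 0x1cb000002d770000000d) (Net.cons (nat_lit 32) (nat_lit 3293904896) (Net.cons (nat_lit 64) (nat_lit 0xbc4ff9a5c) (Net.cons (nat_lit 32) (nat_lit 0xc000000002d5884aa) (Net.cons (nat_lit 16) (nat_lit 0x2935000057bd00000f1a) (Net.cons (nat_lit 8) (nat_lit 0x1800cc002f00d9009e0048) (Net.cons (nat_lit 4) (nat_lit 0xd050e00040f03060506020a) (Net.cons (nat_lit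 2) (nat_lit 0x323112302031121221000122) (Net.cons (nat_lit 1) (nat_lit 0x40501500504514004515011) Net.nil)))))))))))))
noncomputable def N2_1 : Net := (Net.cons (nat_lit 1) (nat_lit 0x4504110000450404115400144) (Net.cons (nat_lit 2) (nat_lit 0x130222203120312222003100) (Net.cons (nat_lit 4) (nat_lit 0x8080e050e05010c09040c02) (Net.cons (nat_lit 8) (nat_lit 0x9900360047002800ae0000) (Net.cons (nat_lit 16) (nat_lit 0x308e0000e6170000000a) (Net.cons (nat_lit 32) (nat_lit 0x200000000280883f0) (Net.cons (nat_lit 64) (nat_lit 0xbe93eb7f0) (Net.cons (nat_lit 32) (nat_lit 3949237841) (Net.cons (nat_lit 16) (nat_lit 0xc882000003600000f1f7) (Net.cons (nat_lit 8) (nat_lit 0xd2007700c3004d007b0059) (Net.cons (nat_lit 4) (nat_lit 0xc000f0f070d08010c01020a) (Net.cons (nat_lit 2) (nat_lit 0x3123132113310121121330130) (Net.cons (nat_lit 1) (nat_lit 0x5511500140001051004550540) Net.nil)))))))))))))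
noncomputable def N2_2 : Net := (Net.cons (nat_lit 1) (nat_lit 0x1015505045441554154151400) (Net.cons (nat_lit 2) (nat_lit 0x3000322320221012222012020) (Net.cons (nat_lit 4) (nat_lit 0xf010a010200070f09010008) (Net.cons (nat_lit 8) (nat_lit 0x5b00850048003e008a0000) (Net.cons (nat_lit 16) (nat_lit 0x804b0000861a0000000a) (Net.cons (nat_lit 32) (nat_lit 157993232) (Net.cons (nat_lit 64) (nat_lit 695912720) (Net.cons (nat_lit 32) (nat_lit 0xf00000000bb7bfd3a) (Net.cons (nat_lit 16) (nat_lit 0x63600008e47000044aa) (Net.cons (nat_lit 8) (nat_lit 0xc9000b003b003700c80080) (Net.cons (nat_lit 4) (nat_lit 0x60c090d0101090d04070008) (Net.cons (nat_lit 2) (nat_lit 0x3012333000322333001211020) (Net.cons (nat_lit 1) (nat_lit 0x4041154505510455000540400) Net.nil)))))))))))))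
noncomputable def N2_3 : Net := (Net.cons (nat_lit 1) (nat_lit 0x5040050110445554541440004) (Net.cons (nat_lit 2) (nat_lit 0x1330230000303112100302130) (Net.cons (nat_lit 4) (nat_lit 0x60f030a0603080106080304) (Net.cons (nat_lit 8) (nat_lit 0x34000400a5007800480002) (Net.cons (nat_lit 16) (nat_lit 0x6b000000453700000000) (Net.cons (nat_lit 32) (nat_lit 0x500000000010e3250) (Net.cons (nat_lit 64) (nat_lit 0xd871e7b52) (Net.cons (nat_lit 32) (nat_lit 0xa00000000e47f3b1a) (Net.cons (nat_lit 16) (nat_lit 0x6185000083e70000fd65) (Net.cons (nat_lit 8) (nat_lit 0xf300f200b500fb00f9000d) (Net.cons (nat_lit 4) (nat_lit 0x10a050b00000f080b0d07) (Net.cons (nat_lit 2) (nat_lit 0x232300112121103312111203) (Net.cons (nat_lit 1) (nat_lit 0x1054004101505454051455105) Net.nil)))))))))))))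
noncomputable def N2_4 : Net := (Net.cons (nat_lit 1) (nat_lit 0x4151545004100500545044440) (Net.cons (nat_lit 2) (nat_lit 0x1130101010120221212021000) (Net.cons (nat_lit 4) (nat_lit 0x90009000604060500050e08) (Net.cons (nat_lit 8) (nat_lit 0x6000280084001500290001) (Net.cons (nat_lit 16) (nat_lit 0x12230000b28a00000006) (Net.cons (nat_lit 32) (nat_lit 1914178656) (Net.cons (nat_lit 64) (nat_lit 0x77f9e3d7b) (Net.cons (nat_lit 32) (nat_lit 0xa000000000138b0de) (Net.cons (nat_lit 16) (nat_lit 0xb81300009f320000fe6a) (Net.cons (nat_lit 8) (nat_lit 0x7300ef00b50082003600fe) (Net.cons (nat_lit 4) (nat_lit 0x30303050f0a0e0b030b0907) (Net.cons (nat_lit 2) (nat_lit 0x3112310313231223211212000) (Net.cons (nat_lit 1) (nat_lit 0x45414540041154415051540) Net.nil)))))))))))))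
noncomputable def N2_5 : Net := (Net.cons (nat_lit 1) (nat_lit 0x1015505045441554154151400) (Net.cons (nat_lit 2) (nat_lit 0x3000322320221012222012020) (Net.cons (nat_lit 4) (nat_lit 0xf010a010200070f09010008) (Net.cons (nat_lit 8) (nat_lit 0x5b00850048003e008a0000) (Net.cons (nat_lit 16) (nat_lit 0x804b0000861a0000000a) (Net.cons (nat_lit 32) (nat_lit 157993232) (Net.cons (nat_lit 64) (nat_lit 695912720) (Net.cons (nat_lit 32) (nat_lit 0xf00000000bb7bfd3a) (Net.cons (nat_lit 16) (nat_lit 0x63600008e47000044aa) (Net.cons (nat_lit 8) (nat_lit 0xc9000b003b003700c80080) (Net.cons (nat_lit 4) (nat_lit 0x60c090d0101090d04070008) (Net.cons (nat_lit 2) (nat_lit 0x3012333000322333001211020) (Net.cons (nat_lit 1) (nat_lit 0x4041154505510455000540400) Net.nil)))))))))))))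
noncomputable def N2_6 : Net := (Net.cons (nat_lit 1) (nat_lit 0x410504455504441441545004) (Net.cons (nat_lit 2) (nat_lit 0x2213222301303023000020200) (Net.cons (nat_lit 4) (nat_lit 0x102030c07090e0808070003) (Net.cons (nat_lit 8) (nat_lit 0x16007b0033007b0016000d) (Net.cons (nat_lit 16) (nat_lit 0x14c30000f40500000004) (Net.cons (nat_lit 32) (nat_lit 1236541200) (Net.cons (nat_lit 64) (nat_lit 0x94fb45f79) (Net.cons (nat_lit 32) (nat_lit 0x60000000029108622) (Net.cons (nat_lit 16) (nat_lit 0x3b360000f1e60000110b) (Net.cons (nat_lit 8) (nat_lit 0xf4000d008000eb003a0097) (Net.cons (nat_lit 4) (nat_lit 0x50f03010b03080d00050908) (Net.cons (nat_lit 2) (nat_lit 0x111121301203223230301320) (Net.cons (nat_lit 1) (nat_lit 0x5015415455511001451014451) Net.nil)))))))))))))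
noncomputable def N2_7 : Net := (Net.cons (nat_lit 1) (nat_lit 0x5410015001100505505450000) (Net.cons (nat_lit 2) (nat_lit 0x1320131032100033031302310) (Net.cons (nat_lit 4) (nat_lit 0x90f09000b07050a0f040000) (Net.cons (nat_lit 8) (nat_lit 0x32005d00f200c500330002) (Net.cons (nat_lit 16) (nat_lit 0x4490000303100000005) (Net.cons (nat_lit 32) (nat_lit 0xf000000001c012640) (Net.cons (nat_lit 64) (nat_lit 0x2ff41f64d) (Net.cons (nat_lit 32) (nat_lit 0x100000000f13746cd) (Net.cons (nat_lit 16) (nat_lit 0x1d4a0000d6a400000dc2) (Net.cons (nat_lit 8) (nat_lit 0xe200e900b50074009b0088) (Net.cons (nat_lit 4) (nat_lit 0x90a0d0a040e000502060509) (Net.cons (nat_lit 2) (nat_lit 0x102121100232002222233221) (Net.cons (nat_lit 1) (nat_lit 0x1411044554155410451155014) Net.nil)))))))))))))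
noncomputable def N2_8 : Net := (Net.cons (nat_lit 1) (nat_lit 0x405014110501040011040100) (Net.cons (nat_lit 2) (nat_lit 0x2130222023202300012120000) (Net.cons (nat_lit 4) (nat_lit 0x604090b0409020c05040708) (Net.cons (nat_lit 8) (nat_lit 0x9200a5001000120004000c) (Net.cons (nat_lit 16) (nat_lit 0x44790000851600000000) (Net.cons (nat_lit 32) (nat_lit 3625124928) (Net.cons (nat_lit 64) (nat_lit 0x6dd338440) (Net.cons (nat_lit 32) (nat_lit 0x900000000d9830c40) (Net.cons (nat_lit 16) (nat_lit 0x52d0000e77e00000006) (Net.cons (nat_lit 8) (nat_lit 0xd200ef00700076005d007c) (Net.cons (nat_lit 4) (nat_lit 0x706090a0409030c04050708) (Net.cons (nat_lit 2) (nat_lit 0x2130222023202300013130110) (Net.cons (nat_lit 1) (nat_lit 0x1405114110501040011040100) Net.nil)))))))))))))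
noncomputable def N2_9 : Net := (Net.cons (nat_lit 1) (nat_lit 0x10044114111011541111510) (Net.cons (nat_lit 2) (nat_lit 0x102303123122331301031210) (Net.cons (nat_lit 4) (nat_lit 0x30806020a06020009040003) (Net.cons (nat_lit 8) (nat_lit 0x56003b008200700030000c) (Net.cons (nat_lit 16) (nat_lit 0xa350000053600000000) (Net.cons (nat_lit 32) (nat_lit 0x8000000009a526620) (Net.cons (nat_lit 64) (nat_lit 0xddad36761) (Net.cons (nat_lit 32) (nat_lit 0x6000000003bd2801b) (Net.cons (nat_lit 16) (nat_lit 0x46ac000055e40000c35b) (Net.cons (nat_lit 8) (nat_lit 0x1700c700ff00e100950002) (Net.cons (nat_lit 4) (nat_lit 0x90d05010c040f0804080404) (Net.cons (nat_lit 2) (nat_lit 0x2001100213233212013102231) (Net.cons (nat_lit 1) (nat_lit 0x101151010000101544415505) Net.nil)))))))))))))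
noncomputable def N2_10 : Net := (Net.cons (nat_lit 1) (nat_lit 0x1104555554001105505544000) (Net.cons (nat_lit 2) (nat_lit 0x1010100230111001103101300) (Net.cons (nat_lit 4) (nat_lit 0xd0a02080d07000e0d000001) (Net.cons (nat_lit 8) (nat_lit 0xaa000600e000b500260001) (Net.cons (nat_lit 16) (nat_lit 0xa8490000a0860000000c) (Net.cons (nat_lit 32) (nat_lit 0x80000000009443810) (Net.cons (nat_lit 64) (nat_lit 0x95f6df894) (Net.cons (nat_lit 32) (nat_lit 0x50000000034e7ae14) (Net.cons (nat_lit 16) (nat_lit 0x8ff40000095400002f9a) (Net.cons (nat_lit 8) (nat_lit 0x7400dd00920030000c001d) (Net.cons (nat_lit 4) (nat_lit 0xe0b000b060a02020001020b) (Net.cons (nat_lit 2) (nat_lit 0x3320020132122123002322303) (Net.cons (nat_lit 1) (nat_lit 0x5140105115115004541011540) Net.nil)))))))))))))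
noncomputable def N2_11 : Net := (Net.cons (nat_lit 1) (nat_lit 0x405014110501040011040100) (Net.cons (nat_lit 2) (nat_lit 0x2130222023202300012120000) (Net.cons (nat_lit 4) (nat_lit 0x604090b0409020c05040708) (Net.cons (nat_lit 8) (nat_lit 0x9200a5001000120004000c) (Net.cons (nat_lit 16) (nat_lit 0x44790000851600000000) (Net.cons (nat_lit 32) (nat_lit 3625124928) (Net.cons (nat_lit 64) (nat_lit 0x6dd338440) (Net.cons (nat_lit 32) (nat_lit 0x900000000d9830c40) (Net.cons (nat_lit 16) (nat_lit 0x52d0000e77e00000006) (Net.cons (nat_lit 8) (nat_lit 0xd200ef00700076005d007c) (Net.cons (nat_lit 4) (nat_lit 0x706090a0409030c04050708) (Net.cons (nat_lit 2) (nat_lit 0x2130222023202300013130110) (Net.cons (nat_lit 1) (nat_lit 0x1405114110501040011040100) Net.nil)))))))))))))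
noncomputable def N2_12 : Net := (Net.cons (nat_lit 1) (nat_lit 0x1141144555411411055504400) (Net.cons (nat_lit 2) (nat_lit 0x1113010133111232223102200) (Net.cons (nat_lit 4) (nat_lit 0xa0c06070b070004000d0108) (Net.cons (nat_lit 8) (nat_lit 0x500ef000b009300c20001) (Net.cons (nat_lit 16) (nat_lit 0x40390000824200000004) (Net.cons (nat_lit 32) (nat_lit 0x700000000099ec670) (Net.cons (nat_lit 64) (nat_lit 0xabbdfe6f5) (Net.cons (nat_lit 32) (nat_lit 0xd0000000031ace2f1) (Net.cons (nat_lit 16) (nat_lit 0xd7a80000d4270000c08f) (Net.cons (nat_lit 8) (nat_lit 0x52007f009600d200a80089) (Net.cons (nat_lit 4) (nat_lit 0xa040c070300090d06050501) (Net.cons (nat_lit 2) (nat_lit 0x200003013223323212223012) (Net.cons (nat_lit 1) (nat_lit 0x5444415404014445510440010) Net.nil)))))))))))))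
noncomputable def N2_13 : Net := (Net.cons (nat_lit 1) (nat_lit 0x5041545450510550554541414) (Net.cons (nat_lit 2) (nat_lit 0x1232101320201322033331020) (Net.cons (nat_lit 4) (nat_lit 0x9010f050c040601050a0700) (Net.cons (nat_lit 8) (nat_lit 0x5700ff00a3000f008e0002) (Net.cons (nat_lit 16) (nat_lit 0x18270000085000000004) (Net.cons (nat_lit 32) (nat_lit 0x400000000a52aad70) (Net.cons (nat_lit 64) (nat_lit 0x8ffbaad74) (Net.cons (nat_lit 32) (nat_lit 0xb0000000045f96952) (Net.cons (nat_lit 16) (nat_lit 0xb78000002f7a000044a2) (Net.cons (nat_lit 8) (nat_lit 0x8300530035003a0012001e) (Net.cons (nat_lit 4) (nat_lit 0xf05010e040d080e0c0303) (Net.cons (nat_lit 2) (nat_lit 0x1233131123321022132010212) (Net.cons (nat_lit 1) (nat_lit 0x144050101141455540054515) Net.nil)))))))))))))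
noncomputable def N2_14 : Net := (Net.cons (nat_lit 1) (nat_lit 0x1110450454001100510514454) (Net.cons (nat_lit 2) (nat_lit 0x3300203201323212231001120) (Net.cons (nat_lit 4) (nat_lit 0x6090a070d08030200090300) (Net.cons (nat_lit 8) (nat_lit 0x4700530089000e00320002) (Net.cons (nat_lit 16) (nat_lit 0xcd840000068400000001) (Net.cons (nat_lit 32) (nat_lit 0x5000000003728a880) (Net.cons (nat_lit 64) (nat_lit 0xe77f8b883) (Net.cons (nat_lit 32) (nat_lit 3089688705) (Net.cons (nat_lit 16) (nat_lit 0x916f0000551500008025) (Net.cons (nat_lit 8) (nat_lit 0x7d001c00a100a40057007a) (Net.cons (nat_lit 4) (nat_lit 0x505050c0504090209030304) (Net.cons (nat_lit 2) (nat_lit 0x3230111031322220120031232) (Net.cons (nat_lit 1) (nat_lit 0x4104054104540140114554154) Net.nil)))))))))))))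
noncomputable def N2_15 : Net := (Net.cons (nat_lit 1) (nat_lit 0x4010141054544104111101054) (Net.cons (nat_lit 2) (nat_lit 0x3210033203332332311121100) (Net.cons (nat_lit 4) (nat_lit 0x2040801040b0802010c0504) (Net.cons (nat_lit 8) (nat_lit 0xdc00800086006000050008) (Net.cons (nat_lit 16) (nat_lit 0xee5a00000e0e00000004) (Net.cons (nat_lit 32) (nat_lit 1347103456) (Net.cons (nat_lit 64) (nat_lit 0xd795fafe4) (Net.cons (nat_lit 32) (nat_lit 0x40000000056512ba8) (Net.cons (nat_lit 16) (nat_lit 0x8e710000fb5f0000074c) (Net.cons (nat_lit 8) (nat_lit 0xe70069004b009400220010) (Net.cons (nat_lit 4) (nat_lit 0x3040a0505000d0609090706) (Net.cons (nat_lit 2) (nat_lit 0x3210212222321132231032300) (Net.cons (nat_lit 1) (nat_lit 0x5054041104511115050450140) Net.nil)))))))))))))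
noncomputable def N2_16 : Net := (Net.cons (nat_lit 1) (nat_lit 0x5104540005140501454154000) (Net.cons (nat_lit 2) (nat_lit 0x1001010303131112012211000) (Net.cons (nat_lit 4) (nat_lit 0x8040005030700070c020906) (Net.cons (nat_lit 8) (nat_lit 0x8001e004b006000220005) (Net.cons (nat_lit 16) (nat_lit 0x53c90000007700000009) (Net.cons (nat_lit 32) (nat_lit 0x40000000011810a60) (Net.cons (nat_lit 64) (nat_lit 0xf55938a61) (Net.cons (nat_lit 32) (nat_lit 0xa0000000051f9a260) (Net.cons (nat_lit 16) (nat_lit 0x12a70000b35b00000884) (Net.cons (nat_lit 8) (nat_lit 0xc200fa00c800cc00db0047) (Net.cons (nat_lit 4) (nat_lit 0x70c090d080b0e0b0600050a) (Net.cons (nat_lit 2) (nat_lit 0x3012010330111031100002000) (Net.cons (nat_lit 1) (nat_lit 0x150051044444544500411150) Net.nil)))))))))))))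
noncomputable def N2_17 : Net := (Net.cons (nat_lit 1) (nat_lit 0x41154505510455000540400) (Net.cons (nat_lit 2) (nat_lit 0x3222001332232110200020) (Net.cons (nat_lit 4) (nat_lit 0x1090f0e0200080d01050408) (Net.cons (nat_lit 8) (nat_lit 0x98007e000100c000180000) (Net.cons (nat_lit 16) (nat_lit 0x8053000044e600000008) (Net.cons (nat_lit 32) (nat_lit 2316114800) (Net.cons (nat_lit 64) (nat_lit 2316114800) (Net.cons (nat_lit 32) (nat_lit 0xf00000000e9ee3f78) (Net.cons (nat_lit 16) (nat_lit 0x6c6e000002da0000d028) (Net.cons (nat_lit 8) (nat_lit 0x3f00cb001e00ee000800a0) (Net.cons (nat_lit 4) (nat_lit 0xe0208040202040b0e000008) (Net.cons (nat_lit 2) (nat_lit 0x2301333221331003332113020) (Net.cons (nat_lit 1) (nat_lit 0x1115505045441554154151400) Net.nil)))))))))))))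
noncomputable def N2_18 : Net := (Net.cons (nat_lit 1) (nat_lit 0x504040441110445055514100) (Net.cons (nat_lit 2) (nat_lit 0x3021210331303203312020020) (Net.cons (nat_lit 4) (nat_lit 0x8090a0e020b070c04080a04) (Net.cons (nat_lit 8) (nat_lit 0x310002000e001300ca0002) (Net.cons (nat_lit 16) (nat_lit 0x3919000020b500000000) (Net.cons (nat_lit 32) (nat_lit 0x1000000002a4893d0) (Net.cons (nat_lit 64) (nat_lit 0x52ac893d0) (Net.cons (nat_lit 32) (nat_lit 0xe000000004ab8c3d2) (Net.cons (nat_lit 16) (nat_lit 0x9318000026630000d02a) (Net.cons (nat_lit 8) (nat_lit 0x5900c1004a00f3008900a7) (Net.cons (nat_lit 4) (nat_lit 0x90a060a06060606000a080b) (Net.cons (nat_lit 2) (nat_lit 0x2122113232013201112303200) (Net.cons (nat_lit 1) (nat_lit 0x4001411045154051114105100) Net.nil)))))))))))))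
noncomputable def N2_19 : Net := (Net.cons (nat_lit 1) (nat_lit 0x5444504154451554501555110) (Net.cons (nat_lit 2) (nat_lit 0x2112213112131330231120000) (Net.cons (nat_lit 4) (nat_lit 0x409080a0f0e060603050409) (Net.cons (nat_lit 8) (nat_lit 0xa700fd00ad000e00ac0009) (Net.cons (nat_lit 16) (nat_lit 0x37190000040900000003) (Net.cons (nat_lit 32) (nat_lit 0x4000000003b868840) (Net.cons (nat_lit 64) (nat_lit 0x7ff968b43) (Net.cons (nat_lit 32) (nat_lit 0xf000000005ea5d1eb) (Net.cons (nat_lit 16) (nat_lit 0xf3e90000a3180000da77) (Net.cons (nat_lit 8) (nat_lit 0xd10033009b007200580049) (Net.cons (nat_lit 4) (nat_lit 0x80e06080000070b0b0a0d08) (Net.cons (nat_lit 2) (nat_lit 0x1211013230011030223213210) (Net.cons (nat_lit 1) (nat_lit 0x50115504100440504554) Net.nil)))))))))))))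
noncomputable def N2_20 : Net := (Net.cons (nat_lit 1) (nat_lit 0x41154505510455000540400) (Net.cons (nat_lit 2) (nat_lit 0x3222001332232110200020) (Net.cons (nat_lit 4) (nat_lit 0x1090f0e0200080d01050408) (Net.cons (nat_lit 8) (nat_lit 0x98007e000100c000180000) (Net.cons (nat_lit 16) (nat_lit 0x8053000044e600000008) (Net.cons (nat_lit 32) (nat_lit 2316114800) (Net.cons (nat_lit 64) (nat_lit 2316114800) (Net.cons (nat_lit 32) (nat_lit 0xf00000000e9ee3f78) (Net.cons (nat_lit 16) (nat_lit 0x6c6e000002da0000d028) (Net.cons (nat_lit 8) (nat_lit 0x3f00cb001e00ee000800a0) (Net.cons (nat_lit 4) (nat_lit 0xe0208040202040b0e000008) (Net.cons (nat_lit 2) (nat_lit 0x2301333221331003332113020) (Net.cons (nat_lit 1) (nat_lit 0x1115505045441554154151400) Net.nil)))))))))))))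
noncomputable def N2_21 : Net := (Net.cons (nat_lit 1) (nat_lit 0x14154105100445151505010) (Net.cons (nat_lit 2) (nat_lit 0x1232220323301111021023300) (Net.cons (nat_lit 4) (nat_lit 0x2080a0a0e010f06000800) (Net.cons (nat_lit 8) (nat_lit 0xea008f0073002b000a000a) (Net.cons (nat_lit 16) (nat_lit 0x3c03000042a200000003) (Net.cons (nat_lit 32) (nat_lit 0x3000000004c510000) (Net.cons (nat_lit 64) (nat_lit 0xafd5b8011) (Net.cons (nat_lit 32) (nat_lit 0x80000000025f6a34b) (Net.cons (nat_lit 16) (nat_lit 0x25e30000183400000116) (Net.cons (nat_lit 8) (nat_lit 0xd600b400480077002d006c) (Net.cons (nat_lit 4) (nat_lit 0x20308040e0001010f050306) (Net.cons (nat_lit 2) (nat_lit 0x3202002323023233202322110) (Net.cons (nat_lit 1) (nat_lit 0x5015114540100101141104144) Net.nil)))))))))))))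
noncomputable def N2_22 : Net := (Net.cons (nat_lit 1) (nat_lit 0x51014115045511540114100) (Net.cons (nat_lit 2) (nat_lit 0x3231233302202000211230100) (Net.cons (nat_lit 4) (nat_lit 0xe010f020d0f0a050c08030e) (Net.cons (nat_lit 8) (nat_lit 0xa0009400b400a300960000) (Net.cons (nat_lit 16) (nat_lit 0xa593000049b60000000a) (Net.cons (nat_lit 32) (nat_lit 0x400000000708a8d20) (Net.cons (nat_lit 64) (nat_lit 0xb7bafed74) (Net.cons (nat_lit 32) (nat_lit 0x1000000008359202c) (Net.cons (nat_lit 16) (nat_lit 0x222300009a450000ffda) (Net.cons (nat_lit 8) (nat_lit 0x34000e00c1008b00200008) (Net.cons (nat_lit 4) (nat_lit 0xc09010c0003090000010900) (Net.cons (nat_lit 2) (nat_lit 0x320231113231032023333223) (Net.cons (nat_lit 1) (nat_lit 0x450454115040154011050141) Net.nil)))))))))))))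
noncomputable def N2_23 : Net := (Net.cons (nat_lit 1) (nat_lit 0x1044504501500450504010000) (Net.cons (nat_lit 2) (nat_lit 0x2012310203302113100200000) (Net.cons (nat_lit 4) (nat_lit 0x9020d0f000200060c0e0b00) (Net.cons (nat_lit 8) (nat_lit 0x34003e00f200a500ca0008) (Net.cons (nat_lit 16) (nat_lit 0x9d93000048d600000002) (Net.cons (nat_lit 32) (nat_lit 3271689456) (Net.cons (nat_lit 64) (nat_lit 4282550000) (Net.cons (nat_lit 32) (nat_lit 0xf00000000cbd746f2) (Net.cons (nat_lit 16) (nat_lit 0x2c1700006cdd0000418e) (Net.cons (nat_lit 8) (nat_lit 0x5f00ac0071009200400074) (Net.cons (nat_lit 4) (nat_lit 0xf0a030a0406080305000f04) (Net.cons (nat_lit 2) (nat_lit 0x1101311213121101131323000) (Net.cons (nat_lit 1) (nat_lit 0x404141555114110140501000) Net.nil)))))))))))))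
noncomputable def N2_24 : Net := (Net.cons (nat_lit 1) (nat_lit 0x4000140111544410441050440) (Net.cons (nat_lit 2) (nat_lit 0x10211110200003222103200) (Net.cons (nat_lit 4) (nat_lit 0xd07090d000a080b06060000) (Net.cons (nat_lit 8) (nat_lit 0x4004400f9001400240000) (Net.cons (nat_lit 16) (nat_lit 0x830000084100000008) (Net.cons (nat_lit 32) (nat_lit 0x10000000094065850) (Net.cons (nat_lit 64) (nat_lit 0xfd646dedc) (Net.cons (nat_lit 32) (nat_lit 0xd000000002d43dadc) (Net.cons (nat_lit 16) (nat_lit 0x578f0000a75d0000c6b8) (Net.cons (nat_lit 8) (nat_lit 0xf400e200aa00e400c700b0) (Net.cons (nat_lit 4) (nat_lit 0x90a0f0b03030e0f0a000d00) (Net.cons (nat_lit 2) (nat_lit 0x31211300232023002301200) (Net.cons (nat_lit 1) (nat_lit 0x114155145511101401040040) Net.nil)))))))))))))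
noncomputable def N2_25 : Net := (Net.cons (nat_lit 1) (nat_lit 0x114155145511101401040040) (Net.cons (nat_lit 2) (nat_lit 0x2333013102002002200301200) (Net.cons (nat_lit 4) (nat_lit 0xb0009050f01080f0c020302) (Net.cons (nat_lit 8) (nat_lit 0xc7009800d7007c00720000) (Net.cons (nat_lit 16) (nat_lit 0x9bcc000001c90000000a) (Net.cons (nat_lit 32) (nat_lit 0x800000000fc294310) (Net.cons (nat_lit 64) (nat_lit 0x6fc7d679c) (Net.cons (nat_lit 32) (nat_lit 0xc0000000051f8671e) (Net.cons (nat_lit 16) (nat_lit 0xbeac00007fb000007e0a) (Net.cons (nat_lit 8) (nat_lit 0xda007a00a20085005c0012) (Net.cons (nat_lit 4) (nat_lit 0xb030b05060c0a0d00080a02) (Net.cons (nat_lit 2) (nat_lit 0x213003332202001002133200) (Net.cons (nat_lit 1) (nat_lit 0x4000140111544410441050440) Net.nil)))))))))))))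
noncomputable def N2 : List Net := [N2_0, N2_1, N2_2, N2_3, N2_4, N2_5, N2_6, N2_7, N2_8, N2_9, N2_10, N2_11, N2_12, N2_13, N2_14, N2_15, N2_16, N2_17, N2_18, N2_19, N2_20, N2_21, N2_22, N2_23, N2_24, N2_25]
noncomputable def W2 : List (List Nat) := [[(nat_lit 5), (nat_lit 9), (nat_lit 7), (nat_lit 11), (nat_lit 8), (nat_lit 9), (nat_lit 11), (nat_lit 7), (nat_lit 10), (nat_lit 8), (nat_lit 6), (nat_lit 9), (nat_lit 5), (nat_lit 7), (nat_lit 9), (nat_lit 1), (nat_lit 10), (nat_lit 8), (nat_lit 6), (nat_lit 9), (nat_lit 5), (nat_lit 7), (nat_lit 9), (nat_lit 4), (nat_lit 10), (nat_lit 8), (nat_lit 6), (nat_lit 10), (nat_lit 5), (nat_lit 7), (nat_lit 9), (nat_lit 3), (nat_lit 10), (nat_lit 8), (nat_lit 6), (nat_lit 14), (nat_lit 9), (nat_lit 5), (nat_lit 7), (nat_lit 9), (nat_lit 1), (nat_lit 4), (nat_lit 10), (nat_lit 8), (nat_lit 6), (nat_lit 14), (nat_lit 9), (nat_lit 5), (nat_lit 7), (nat_lit 9), (nat_lit 3),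 (nat_lit 1), (nat_lit 10), (nat_lit 8), (nat_lit 6), (nat_lit 14), (nat_lit 9), (nat_lit 5), (nat_lit 7), (nat_lit 9), (nat_lit 1)],
  [(nat_lit 5), (nat_lit 7), (nat_lit 11), (nat_lit 8), (nat_lit 9), (nat_lit 11), (nat_lit 7), (nat_lit 6), (nat_lit 2), (nat_lit 9), (nat_lit 5), (nat_lit 2), (nat_lit 4), (nat_lit 10), (nat_lit 8), (nat_lit 6), (nat_lit 10), (nat_lit 14), (nat_lit 9), (nat_lit 5), (nat_lit 7), (nat_lit 9), (nat_lit 3), (nat_lit 1), (nat_lit 10), (nat_lit 8), (nat_lit 6), (nat_lit 14), (nat_lit 9), (nat_lit 5), (nat_lit 7), (nat_lit 9), (nat_lit 1), (nat_lit 4), (nat_lit 10), (nat_lit 8), (nat_lit 6), (nat_lit 14), (nat_lit 9), (nat_lit 5), (nat_lit 7), (nat_lit 9), (nat_lit 3), (nat_lit 1)],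
  [(nat_lit 16), (nat_lit 16), (nat_lit 18), (nat_lit 16)],
  [(nat_lit 7), (nat_lit 10), (nat_lit 3), (nat_lit 8), (nat_lit 9), (nat_lit 11), (nat_lit 7), (nat_lit 6), (nat_lit 2), (nat_lit 9), (nat_lit 5), (nat_lit 4), (nat_lit 10), (nat_lit 8), (nat_lit 6), (nat_lit 14), (nat_lit 9), (nat_lit 5), (nat_lit 7), (nat_lit 9), (nat_lit 1), (nat_lit 10), (nat_lit 8), (nat_lit 6), (nat_lit 9), (nat_lit 5), (nat_lit 7), (nat_lit 9), (nat_lit 4), (nat_lit 10), (nat_lit 8), (nat_lit 6), (nat_lit 10), (nat_lit 5), (nat_lit 7), (nat_lit 9), (nat_lit 3), (nat_lit 10), (nat_lit 8), (nat_lit 6), (nat_lit 14), (nat_lit 9), (nat_lit 5), (nat_lit 7), (nat_lit 9), (nat_lit 1), (nat_lit 4), (nat_lit 10), (nat_lit 8), (nat_lit 6), (nat_lit 14), (nat_lit 9), (nat_lit 5), (nat_lit 7), (nat_lit 9), (nat_lit 3), (nat_lit 1), (nat_lit 10), (nat_lit 8), (nat_lit 6), (nat_lit 14), (nat_lit 9), (nat_lit 5), (nat_lit 7), (nat_lit 9), (nat_lit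 1), (nat_lit 4), (nat_lit 10), (nat_lit 8), (nat_lit 6), (nat_lit 14), (nat_lit 9), (nat_lit 5), (nat_lit 7), (nat_lit 9), (nat_lit 3), (nat_lit 1)],
  [(nat_lit 9), (nat_lit 5), (nat_lit 10), (nat_lit 7), (nat_lit 2), (nat_lit 10), (nat_lit 8), (nat_lit 6), (nat_lit 10), (nat_lit 5), (nat_lit 7), (nat_lit 9), (nat_lit 6), (nat_lit 2), (nat_lit 9), (nat_lit 5), (nat_lit 2), (nat_lit 10), (nat_lit 8), (nat_lit 6), (nat_lit 10), (nat_lit 14), (nat_lit 9), (nat_lit 5), (nat_lit 7), (nat_lit 9), (nat_lit 1), (nat_lit 4), (nat_lit 10), (nat_lit 8), (nat_lit 6), (nat_lit 14), (nat_lit 9), (nat_lit 5), (nat_lit 7), (nat_lit 9), (nat_lit 3), (nat_lit 1)],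
  [(nat_lit 22), (nat_lit 22), (nat_lit 22), (nat_lit 24), (nat_lit 22), (nat_lit 22), (nat_lit 23)],
  [(nat_lit 5), (nat_lit 3), (nat_lit 7), (nat_lit 10), (nat_lit 8), (nat_lit 6), (nat_lit 14), (nat_lit 9), (nat_lit 5), (nat_lit 7), (nat_lit 9), (nat_lit 1), (nat_lit 4), (nat_lit 10), (nat_lit 8), (nat_lit 6), (nat_lit 14), (nat_lit 9), (nat_lit 5), (nat_lit 7), (nat_lit 9), (nat_lit 3), (nat_lit 1), (nat_lit 10), (nat_lit 8), (nat_lit 6), (nat_lit 14), (nat_lit 9), (nat_lit 5), (nat_lit 7), (nat_lit 9), (nat_lit 1), (nat_lit 4), (nat_lit 10), (nat_lit 8), (nat_lit 6), (nat_lit 14), (nat_lit 9), (nat_lit 5), (nat_lit 7), (nat_lit 9), (nat_lit 3), (nat_lit 1)],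
  [(nat_lit 7), (nat_lit 10), (nat_lit 8), (nat_lit 9), (nat_lit 11), (nat_lit 7), (nat_lit 6), (nat_lit 2), (nat_lit 9), (nat_lit 5), (nat_lit 4), (nat_lit 10), (nat_lit 8), (nat_lit 6), (nat_lit 14), (nat_lit 9), (nat_lit 5), (nat_lit 7), (nat_lit 9), (nat_lit 1), (nat_lit 10), (nat_lit 8), (nat_lit 6), (nat_lit 9), (nat_lit 5), (nat_lit 7), (nat_lit 9), (nat_lit 4), (nat_lit 10), (nat_lit 8), (nat_lit 6), (nat_lit 10), (nat_lit 5), (nat_lit 7), (nat_lit 9), (nat_lit 3), (nat_lit 10), (nat_lit 8), (nat_lit 6), (nat_lit 14), (nat_lit 9), (nat_lit 5), (nat_lit 7), (nat_lit 9), (nat_lit 1), (nat_lit 4), (nat_lit 10), (nat_lit 8), (nat_lit 6), (nat_lit 14), (nat_lit 9), (nat_lit 5), (nat_lit 7), (nat_lit 9), (nat_lit 3), (nat_lit 1), (nat_lit 10), (nat_lit 8), (nat_lit 6), (nat_lit 14), (nat_lit 9), (nat_lit 5), (nat_lit 7), (nat_lit 9), (nat_lit 1), (nat_lit 4), (nat_lit 10), (nat_lit 8), (nat_lit 6), (nat_lit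 14), (nat_lit 9), (nat_lit 5), (nat_lit 7), (nat_lit 9), (nat_lit 3), (nat_lit 1)],
  [(nat_lit 30), (nat_lit 30), (nat_lit 27), (nat_lit 30), (nat_lit 30)],
  [(nat_lit 5), (nat_lit 9), (nat_lit 7), (nat_lit 2), (nat_lit 4), (nat_lit 10), (nat_lit 8), (nat_lit 6), (nat_lit 10), (nat_lit 5), (nat_lit 7), (nat_lit 9), (nat_lit 3), (nat_lit 2), (nat_lit 10), (nat_lit 8), (nat_lit 6), (nat_lit 10), (nat_lit 5), (nat_lit 7), (nat_lit 9), (nat_lit 4), (nat_lit 10), (nat_lit 8), (nat_lit 6), (nat_lit 9), (nat_lit 5), (nat_lit 7), (nat_lit 9), (nat_lit 3), (nat_lit 10), (nat_lit 8), (nat_lit 6), (nat_lit 10), (nat_lit 5), (nat_lit 7), (nat_lit 9), (nat_lit 4), (nat_lit 10), (nat_lit 8), (nat_lit 6), (nat_lit 14), (nat_lit 9), (nat_lit 5), (nat_lit 7), (nat_lit 9), (nat_lit 3), (nat_lit 1)],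
  [(nat_lit 7), (nat_lit 11), (nat_lit 4), (nat_lit 8), (nat_lit 9), (nat_lit 11), (nat_lit 7), (nat_lit 6), (nat_lit 2), (nat_lit 9), (nat_lit 5), (nat_lit 2), (nat_lit 4), (nat_lit 10), (nat_lit 8), (nat_lit 6), (nat_lit 10), (nat_lit 5), (nat_lit 7), (nat_lit 9), (nat_lit 3), (nat_lit 10), (nat_lit 8), (nat_lit 6), (nat_lit 14), (nat_lit 9), (nat_lit 5), (nat_lit 7), (nat_lit 9), (nat_lit 1)],
  [(nat_lit 36), (nat_lit 36), (nat_lit 33), (nat_lit 35), (nat_lit 33), (nat_lit 36), (nat_lit 33)],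
  [(nat_lit 10), (nat_lit 5), (nat_lit 4), (nat_lit 2), (nat_lit 10), (nat_lit 8), (nat_lit 6), (nat_lit 10), (nat_lit 5), (nat_lit 7), (nat_lit 9), (nat_lit 8), (nat_lit 9), (nat_lit 11), (nat_lit 7), (nat_lit 10), (nat_lit 8), (nat_lit 6), (nat_lit 9), (nat_lit 5), (nat_lit 7), (nat_lit 9), (nat_lit 1), (nat_lit 4), (nat_lit 10), (nat_lit 8), (nat_lit 6), (nat_lit 9), (nat_lit 5), (nat_lit 7), (nat_lit 9), (nat_lit 3), (nat_lit 1), (nat_lit 10), (nat_lit 8), (nat_lit 6), (nat_lit 9), (nat_lit 5), (nat_lit 7), (nat_lit 9), (nat_lit 1), (nat_lit 4), (nat_lit 10), (nat_lit 8), (nat_lit 6), (nat_lit 14), (nat_lit 9), (nat_lit 5), (nat_lit 7), (nat_lit 9), (nat_lit 3), (nat_lit 1)],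
  [(nat_lit 10), (nat_lit 5), (nat_lit 8), (nat_lit 9), (nat_lit 11), (nat_lit 7), (nat_lit 6), (nat_lit 2), (nat_lit 9), (nat_lit 5), (nat_lit 4), (nat_lit 2), (nat_lit 10), (nat_lit 8), (nat_lit 6), (nat_lit 10), (nat_lit 5), (nat_lit 7), (nat_lit 9), (nat_lit 4), (nat_lit 10), (nat_lit 8), (nat_lit 6), (nat_lit 14), (nat_lit 9), (nat_lit 5), (nat_lit 7), (nat_lit 9), (nat_lit 3), (nat_lit 1), (nat_lit 10), (nat_lit 8), (nat_lit 6), (nat_lit 14), (nat_lit 9), (nat_lit 5), (nat_lit 7), (nat_lit 9), (nat_lit 1)],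
  [(nat_lit 40), (nat_lit 40), (nat_lit 41), (nat_lit 39)],
  [(nat_lit 40), (nat_lit 41)],
  [(nat_lit 45), (nat_lit 45), (nat_lit 44)],
  [(nat_lit 48), (nat_lit 48), (nat_lit 48), (nat_lit 48)],
  [(nat_lit 10), (nat_lit 3)],
  [(nat_lit 7), (nat_lit 9), (nat_lit 5), (nat_lit 8), (nat_lit 9), (nat_lit 11), (nat_lit 7), (nat_lit 6), (nat_lit 10), (nat_lit 1), (nat_lit 5), (nat_lit 4), (nat_lit 10), (nat_lit 8), (nat_lit 6), (nat_lit 9), (nat_lit 5), (nat_lit 7), (nat_lit 9), (nat_lit 1), (nat_lit 10), (nat_lit 8), (nat_lit 6), (nat_lit 9), (nat_lit 5), (nat_lit 7), (nat_lit 9), (nat_lit 4), (nat_lit 10), (nat_lit 8), (nat_lit 6), (nat_lit 10), (nat_lit 14), (nat_lit 9), (nat_lit 5), (nat_lit 7), (nat_lit 9), (nat_lit 3), (nat_lit 1), (nat_lit 10), (nat_lit 8), (nat_lit 6), (nat_lit 14), (nat_lit 9), (nat_lit 5), (nat_lit 7), (nat_lit 9), (nat_lit 1), (nat_lit 4), (nat_lit 10), (nat_lit 8), (nat_lit 6), (nat_lit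 14), (nat_lit 9), (nat_lit 5), (nat_lit 7), (nat_lit 9), (nat_lit 3), (nat_lit 1)],
  [(nat_lit 54), (nat_lit 54), (nat_lit 51)],
  [(nat_lit 3), (nat_lit 11), (nat_lit 5), (nat_lit 9), (nat_lit 11), (nat_lit 7), (nat_lit 2), (nat_lit 4), (nat_lit 10), (nat_lit 8), (nat_lit 6), (nat_lit 10), (nat_lit 14), (nat_lit 9), (nat_lit 5), (nat_lit 7), (nat_lit 9), (nat_lit 3), (nat_lit 1)],
  [(nat_lit 5), (nat_lit 8), (nat_lit 9), (nat_lit 11), (nat_lit 7), (nat_lit 2), (nat_lit 10), (nat_lit 8), (nat_lit 6), (nat_lit 10), (nat_lit 14), (nat_lit 9), (nat_lit 5), (nat_lit 7), (nat_lit 9), (nat_lit 1)],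
  [(nat_lit 60), (nat_lit 60), (nat_lit 57), (nat_lit 60), (nat_lit 60), (nat_lit 57), (nat_lit 59), (nat_lit 58), (nat_lit 58), (nat_lit 58), (nat_lit 59)],
  [(nat_lit 57), (nat_lit 60), (nat_lit 57), (nat_lit 60), (nat_lit 58), (nat_lit 58), (nat_lit 60)],
  [(nat_lit 62), (nat_lit 64), (nat_lit 62), (nat_lit 64), (nat_lit 62)]]
noncomputable def y7 : List Nat := [(nat_lit 5), (nat_lit 7), (nat_lit 9)]
noncomputable def T7 : Tr := (.sym [[1]] (.cons [] 6 1 (.base (nat_lit 0x106a638862b324619d8103888) (.focus 0 (.op 4 0 (.focus 0 (.op 2 0 (.op 7 2 (.xor 1 0 (.focus 0 (.op 4 3 (.xor 3 0 (.focus 0 (.op 7 3 (.xor 5 0 (.focus 0 (.op 7 1 (.xor 7 0 (.focus 0 (.cons [] 0 1 (.focus 7 (.focus 5 (.focus 3 (.focus 1 (.xor 9 11 (.focus 0 (.xor 10 11 (.focus 0 (.base (nat_lit 0xe00410718c08c20a000040006) (.op 4 0 (.xor 13 0 (.focus 0 (.focus 2 (.op 7 2 (.focus 0 (.cons [] 0 1 (.focus 4 (.focus 13 (.focus 15 (.focus 10 (.cons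 [] 0 1 .triv .nil))))) .nil)))))))))))))))) (.cons [1] 0 0 (.base (nat_lit 0xe00410718c08c20a000040006) (.op 4 0 (.base (nat_lit 0x2000040002000008103000) (.and 1 0 (.dead0 0))))) (.cons [3, 1, 5] 0 0 (.base (nat_lit 0xe00410718c08c20a000040006) (.op 4 1 (.and 1 0 (.dead0 0)))) .nil)))))))))))))))))))) (.cons [3] 6 0 (.base (nat_lit 0x106a638862b324619d8103888) (.op 4 1 (.op 4 0 (.op 4 0 (.and 3 0 (.dead0 0)))))) (.cons [5] 6 0 (.base (nat_lit 0x106a638862b324619d8103888) (.op 4 1 (.op 4 0 (.and 2 0 (.dead0 0))))) (.cons [7] 6 0 (.base (nat_lit 0x106a638862b324619d8103888) (.op 4 1 (.op 4 0 (.op 4 0 (.and 3 0 (.dead0 0)))))) (.cons [9] 6 0 (.base (nat_lit 0x106a638862b324619d8103888) (.op 4 1 (.and 1 0 (.dead0 0)))) (.cons [8] 6 0 (.base (nat_lit 0x106a638862b324619d8103888) (.op 4 1 (.and 1 0 (.dead0 0)))) (.cons [7, 9] 6 0 (.base (nat_lit 0x106a638862b324619d8103888) (.op 4 1 (.and 1 0 (.dead0 0)))) (.cons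 [8, 3] 6 0 (.base (nat_lit 0x106a638862b324619d8103888) (.op 4 1 (.op 4 0 (.and 2 0 (.dead0 0))))) (.cons [3, 7] 6 0 (.base (nat_lit 0x106a638862b324619d8103888) (.focus 0 (.op 4 0 (.focus 0 (.op 2 0 (.op 7 2 (.xor 1 0 (.focus 0 (.op 4 3 (.xor 3 0 (.focus 0 (.op 7 3 (.xor 5 0 (.focus 0 (.op 7 1 (.xor 7 0 (.focus 0 (.cons [8, 3] 0 0 (.base (nat_lit 0xe00410718c08c20a000040006) (.op 4 1 (.and 1 0 (.dead0 0)))) (.cons [2, 7, 5] 0 0 (.base (nat_lit 0xe00410718c08c20a000040006) (.op 4 0 (.base (nat_lit 0x2000040002000008103000) (.and 1 0 (.dead0 0))))) (.cons [3, 5, 4, 2] 0 0 (.base (nat_lit 0xe00410718c08c20a000040006) (.op 7 0 (.base (nat_lit 0x2000040002000008103000) (.op 4 0 (.and 2 0 (.dead0 0)))))) .nil)))))))))))))))))))) (.cons [3, 8] 6 0 (.base (nat_lit 0x106a638862b324619d8103888) (.op 4 1 (.and 1 0 (.dead0 0)))) (.cons [5, 7, 9] 6 0 (.base (nat_lit 0x106a638862b324619d8103888) (.op 4 1 (.and 1 0 (.dead0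 0)))) (.cons [5, 8, 3] 6 0 (.base (nat_lit 0x106a638862b324619d8103888) (.op 4 1 (.and 1 0 (.dead0 0)))) (.cons [5, 7, 3] 6 0 (.base (nat_lit 0x106a638862b324619d8103888) (.op 4 1 (.op 4 0 (.and 2 0 (.dead0 0))))) (.cons [1, 5, 9] 6 0 (.base (nat_lit 0x106a638862b324619d8103888) (.op 4 1 (.op 4 0 (.and 2 0 (.dead0 0))))) (.cons [7, 3, 5, 3] 0 0 (.op 5 0 (.and 1 0 (.dead0 0))) (.cons [3, 7, 3, 5, 7] 0 0 (.op 5 0 (.and 1 0 (.dead0 0))) .nil)))))))))))))))))
noncomputable def T7K : List (List Nat) := [[7, 9, 6, 2, 9, 5, 3, 8, 9, 11, 7, 4, 10, 8, 6, 9, 5, 7, 9, 3, 1, 10, 8, 6, 9, 5, 7, 9, 1, 10, 8, 6, 9, 5, 7, 9, 1, 4, 10, 8, 6, 14, 9, 5, 7, 9, 3, 1]]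
noncomputable def T7F : List (List Nat) := [[], [1]]
noncomputable def a5a : List Nat := [(nat_lit 10), (nat_lit 5), (nat_lit 10), (nat_lit 5), (nat_lit 1), (nat_lit 10), (nat_lit 5), (nat_lit 9), (nat_lit 5), (nat_lit 3)]
noncomputable def T5a : Tr := (.sym [[1], [3], [5], [7]] (.cons [] 4 3 (.base (nat_lit 0x106a638862b324619d8103888) (.focus 0 (.op 4 0 (.op 4 0 (.focus 0 (.op 2 0 (.xor 0 2 (.focus 0 (.sym [[1]] (.cons [] 2 1 (.focus 1 (.xor 2 5 (.focus 0 (.xor 3 4 (.focus 0 (.xor 4 8 (.focus 0 (.op 7 8 (.xor 6 0 (.focus 0 (.op 7 1 (.xor 8 0 (.focus 0 (.base (nat_lit 0xe00410718c08c20a000040006) (.focus 0 (.cons [] 0 1 (.focus 1 (.focus 10 (.focus 4 (.focus 7 (.focus 2 (.xor 11 0 (.focus 0 (.cons [] 0 1 .triv (.cons [1, 3, 1, 3] 0 0 (.op 7 0 (.op 4 18 (.and 1 0 (.dead0 0)))) .nil))))))))) (.cons [2] 0 0 (.op 7 0 (.op 4 16 (.and 1 0 (.dead0 0)))) (.cons [3, 1, 4, 1] 0 0 (.op 7 15 (.op 4 1 (.and 1 0 (.dead0 0))))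 .nil)))))))))))))))))) (.cons [4, 5] 2 0 (.base (nat_lit 0xe00410718c08c20a000040006) (.op 7 7 (.and 1 0 (.dead0 0)))) (.cons [5, 4] 2 0 (.base (nat_lit 0xe00410718c08c20a000040006) (.op 7 7 (.op 7 0 (.and 2 0 (.dead0 0))))) .nil)))))))))))) .nil))
noncomputable def T5aK : List (List Nat) := [[20], [17, 19, 17, 15, 19], [16, 19, 15, 19], [18, 15, 20, 16, 19]]
noncomputable def T5aF : List (List Nat) := [[], [1]]
noncomputable def C5a : List Lvl := [⟨(nat_lit 0), [[(nat_lit 15)],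
  [(nat_lit 17)]], (nat_lit 7)⟩,
  ⟨(nat_lit 3), [[(nat_lit 19)]], (nat_lit 2)⟩]
noncomputable def S5a : List (List (List Nat)) := [[[], [1], [4], [2], [3], [3, 3], [1, 5], [4, 4], [2, 5], [3, 1], [1, 6], [4, 5], [2, 6], [3, 2], [3, 6], [4, 1], [2, 4], [1, 1], [4, 2], [4, 6], [1, 3], [3, 5], [1, 4], [2, 3], [2, 6, 1], [3, 6, 1], [4, 6, 1], [1, 6, 4], [2, 5, 4], [2, 5, 3], [2, 3, 1], [3, 1, 5], [4, 5, 1], [4, 4, 1], [1, 6, 3], [3, 3, 1], [1, 5, 2], [3, 1, 4], [2, 5, 1], [4, 4, 2], [4, 5, 2], [4, 6, 4], [4, 1, 1], [4, 5, 3], [2, 6, 4], [2, 4, 6], [3, 1, 6], [4, 2, 2], [4, 1, 6], [4, 4, 4], [1, 5, 3], [1, 1, 3], [3, 3, 3], [2, 3, 2], [3, 2, 5], [1, 6, 2], [3, 3, 2], [1, 5, 4], [4, 5, 4], [1, 3, 6], [3, 1, 3], [3, 5, 3], [3, 6, 3], [2, 3, 6], [2, 5, 2], [3, 2, 4], [1, 4, 5], [3, 2, 6], [4, 1, 4], [1, 3, 5], [3, 6, 2], [3, 5, 2], [2, 6, 3], [4, 2, 4], [4, 6, 2], [1, 1, 6], [1, 6, 1], [1, 4, 6], [2, 4, 6, 4], [1, 5,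 2, 3], [1, 5, 2, 4], [2, 3, 1, 4], [2, 6, 1, 5], [3, 6, 1, 3], [2, 5, 3, 1], [3, 6, 1, 1], [2, 6, 1, 3], [2, 5, 4, 1], [4, 4, 1, 5], [2, 5, 3, 3], [4, 5, 3, 2], [1, 6, 3, 6], [3, 1, 4, 5], [4, 5, 2, 4], [4, 2, 2, 5], [1, 5, 4, 1], [1, 5, 3, 6], [4, 4, 1, 4], [1, 6, 4, 2], [1, 6, 4, 1]], [[], [1], [2]]]
noncomputable def a5b : List Nat := [(nat_lit 10), (nat_lit 5), (nat_lit 10), (nat_lit 5), (nat_lit 1), (nat_lit 10), (nat_lit 5), (nat_lit 9), (nat_lit 5), (nat_lit 3), (nat_lit 10), (nat_lit 5), (nat_lit 10), (nat_lit 5), (nat_lit 1), (nat_lit 10), (nat_lit 5), (nat_lit 9), (nat_lit 5), (nat_lit 3)]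
noncomputable def T5b : Tr := (.sym [[1], [3], [5], [7]] (.cons [] 4 3 (.base (nat_lit 0x106a638862b324619d8103888) (.focus 0 (.op 4 0 (.focus 0 (.sym [[1]] (.cons [] 2 1 (.op 2 0 (.xor 0 3 (.focus 0 (.xor 1 3 (.focus 0 (.xor 2 6 (.focus 0 (.base (nat_lit 0xe00410718c08c20a000040006) (.focus 0 (.op 4 6 (.xor 5 0 (.focus 0 (.op 4 2 (.xor 7 0 (.focus 0 (.cons [] 0 1 (.focus 5 (.focus 7 (.focus 3 (.focus 1 (.xor 9 0 (.focus 0 (.op 7 14 (.focus 0 (.cons [] 0 1 .triv .nil))))))))) (.cons [2] 0 0 (.op 4 13 (.and 0 1 (.dead0 0))) (.cons [4, 1] 0 0 (.base (nat_lit 0x410808000a000040002) (.op 7 14 (.and 1 0 (.dead0 0)))) (.cons [2, 3] 0 0 (.base (nat_lit 0x410808000a000040002) (.op 7 14 (.and 1 0 (.dead0 0)))) (.cons [3, 1, 4, 1] 0 0 (.op 4 0 (.and 0 14 (.dead0 0))) .nil)))))))))))))))))))) (.cons [4, 5] 2 0 (.base (nat_lit 0xe00410718c08c20a000040006) (.op 7 4 (.and 1 0 (.dead0 0)))) (.cons [5, 4] 2 0 (.base (nat_lit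 0xe00410718c08c20a000040006) (.op 7 4 (.and 1 0 (.dead0 0)))) (.cons [5, 3, 2] 2 0 (.base (nat_lit 0xe00410718c08c20a000040006) (.op 7 4 (.and 1 0 (.dead0 0)))) .nil))))))))) .nil))
noncomputable def T5bK : List (List Nat) := [[26], [22, 25, 22, 24, 26], [25, 21, 26, 22, 25], [22, 22, 22, 26]]
noncomputable def T5bF : List (List Nat) := [[], [1]]
noncomputable def C5b : List Lvl := [⟨(nat_lit 0), [[(nat_lit 21)],
  [(nat_lit 23)]], (nat_lit 8)⟩,
  ⟨(nat_lit 3), [[(nat_lit 25)]], (nat_lit 2)⟩]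
noncomputable def S5b : List (List (List Nat)) := [[[], [1], [2], [4], [3], [2, 6], [1, 1], [2, 4], [2, 5], [2, 2], [1, 6], [1, 4], [1, 5], [1, 3], [3, 3], [3, 1], [4, 1], [4, 4], [2, 3], [4, 6], [3, 2], [3, 6], [4, 2], [4, 1, 3], [1, 1, 1], [2, 4, 6], [2, 2, 2], [4, 4, 1], [1, 5, 2], [4, 1, 4], [4, 6, 1], [4, 6, 4], [3, 3, 5], [1, 4, 6], [1, 1, 6], [1, 4, 5], [2, 5, 3], [3, 2, 3], [1, 6, 2], [2, 3, 3], [1, 6, 3], [3, 1, 1], [2, 6, 1], [2, 2, 6], [1, 1, 5], [3, 1, 6], [3, 3, 6], [2, 4, 5], [1, 5, 4], [2, 6, 3], [2, 2, 4], [1, 3, 5], [2, 5, 1], [2, 4, 2], [3, 2, 5], [1, 4, 1], [1, 6, 1], [2, 2, 5], [1, 1, 3], [2, 3, 2], [3, 3, 1], [3, 1, 4], [2, 6, 4], [1, 3, 6], [2, 4, 4], [2, 5, 2], [3, 1, 5], [1, 3, 1], [4, 2, 5], [4, 4, 6], [4, 4, 5], [3, 1, 6, 1], [1, 5, 2, 6], [2, 4, 6, 1], [2, 5, 3, 1], [4, 6, 1, 6], [2, 4, 6, 2], [4, 4, 1, 4], [3, 2, 3, 2], [4, 6, 1, 5], [3, 3, 1, 5], [2, 5, 3, 2], [1, 4, 6, 2], [1, 5,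 2, 4], [1, 6, 2, 3], [1, 6, 3, 6], [2, 3, 3, 1], [2, 5, 3, 6], [1, 1, 5, 2], [2, 5, 3, 3], [1, 6, 3, 1], [1, 6, 1, 6], [2, 4, 6, 3], [3, 2, 5, 1], [2, 5, 2, 5], [1, 5, 2, 6, 1], [4, 6, 1, 6, 1], [2, 4, 6, 1, 4], [1, 6, 2, 3, 3], [2, 5, 3, 1, 4]], [[], [1], [2]]]
noncomputable def a5c : List Nat := [(nat_lit 7), (nat_lit 5), (nat_lit 3)]
noncomputable def T5c : Tr := (.sym [[1], [3], [5]] (.cons [] 4 2 (.base (nat_lit 0x106a638862b324619d8103888) (.focus 0 (.op 4 0 (.op 4 0 (.focus 0 (.op 2 0 (.xor 0 2 (.focus 0 (.op 7 4 (.xor 2 0 (.focus 0 (.op 4 7 (.xor 4 0 (.focus 0 (.sym [[1]] (.cons [] 0 2 (.focus 8 (.focus 4 (.xor 6 9 (.focus 0 (.xor 7 8 (.focus 0 (.xor 8 12 (.focus 0 (.op 7 3 (.focus 0 (.cons [] 0 2 (.focus 12 (.focus 10 (.focus 8 (.focus 4 (.op 7 9 (.focus 0 (.base (nat_lit 0x410808000a000040002) (.focus 0 (.sym [[1]] (.cons [] 1 1 .triv .nil)))))))))) .nil))))))))))) (.cons [5, 4] 1 0 (.base (nat_lit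 0xe00410718c08c20a000040006) (.op 4 1 (.and 1 0 (.dead0 0)))) .nil))))))))))))))))) (.cons [3] 4 0 (.base (nat_lit 0x106a638862b324619d8103888) (.focus 0 (.op 4 0 (.op 4 0 (.focus 0 (.op 2 0 (.xor 0 2 (.focus 0 (.op 7 4 (.xor 2 0 (.focus 0 (.op 4 7 (.xor 4 0 (.focus 0 (.sym [[1]] (.cons [5, 3] 0 0 (.focus 8 (.focus 4 (.xor 6 9 (.focus 0 (.xor 7 8 (.focus 0 (.xor 8 12 (.focus 0 (.op 7 3 (.focus 0 (.cons [5, 3] 0 0 (.focus 12 (.focus 10 (.focus 8 (.focus 4 (.op 7 9 (.focus 0 (.base (nat_lit 0x410808000a000040002) (.focus 0 (.sym [[1]] (.cons [1, 3] 1 0 (.base (nat_lit 128) (.op 4 1 (.op 4 0 (.and 2 0 (.dead0 0))))) .nil)))))))))) .nil))))))))))) (.cons [5, 3, 2] 1 0 (.base (nat_lit 0xe00410718c08c20a000040006) (.op 4 1 (.and 1 0 (.dead0 0)))) .nil))))))))))))))))) (.cons [1, 5] 4 0 (.base (nat_lit 0x106a638862b324619d8103888) (.op 4 1 (.and 1 0 (.dead0 0)))) (.cons [2, 5] 4 0 (.base (nat_lit 0x106a638862b324619d8103888)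 (.op 4 1 (.and 1 0 (.dead0 0)))) .nil)))))
noncomputable def T5cK : List (List Nat) := [[31], [29, 31, 30], [28, 31]]
noncomputable def T5cF : List (List Nat) := [[], [1]]
noncomputable def C5c : List Lvl := [⟨(nat_lit 0), [[(nat_lit 27)],
  [(nat_lit 29)]], (nat_lit 4)⟩,
  ⟨(nat_lit 1), [[(nat_lit 31)]], (nat_lit 1)⟩]
noncomputable def S5c : List (List (List Nat)) := [[[], [1], [4], [2], [3], [1, 3], [2, 4], [4, 6], [1, 4], [3, 2], [4, 1], [1, 1], [3, 3], [2, 3], [4, 4], [3, 6], [2, 2], [3, 6, 4], [4, 6, 3], [4, 1, 3], [2, 4, 4], [3, 2, 4], [2, 3, 3], [1, 3, 3], [1, 4, 4]], [[], [2]]]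
noncomputable def a5d : List Nat := [(nat_lit 7), (nat_lit 5), (nat_lit 3), (nat_lit 7), (nat_lit 5), (nat_lit 3)]
noncomputable def T5d : Tr := (.sym [[1], [3], [5]] (.cons [] 4 2 (.base (nat_lit 0x106a638862b324619d8103888) (.focus 0 (.op 4 0 (.focus 0 (.op 2 0 (.op 7 2 (.xor 1 0 (.focus 0 (.op 7 1 (.xor 3 0 (.focus 0 (.sym [[1]] (.cons [] 0 2 (.focus 2 (.focus 3 (.xor 5 7 (.focus 0 (.xor 6 7 (.focus 0 (.xor 7 10 (.focus 0 (.op 4 3 (.op 4 0 (.focus 0 (.cons [] 0 2 (.focus 12 (.focus 10 (.focus 7 (.focus 5 (.base (nat_lit 0x410808000a000040002) (.focus 0 (.sym [[1]] (.cons [] 1 1 .triv .nil)))))))) .nil)))))))))))) (.cons [5, 4] 1 0 (.base (nat_lit 0xe00410718c08c20a000040006) (.op 4 1 (.and 1 0 (.dead0 0)))) (.cons [2, 3, 5] 0 0 (.op 7 8 (.op 4 1 (.and 1 0 (.dead0 0)))) .nil))))))))))))))) (.cons [3] 4 0 (.base (nat_lit 0x106a638862b324619d8103888) (.focus 0 (.op 4 0 (.focus 0 (.op 2 0 (.op 7 2 (.xor 1 0 (.focus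 0 (.op 7 1 (.xor 3 0 (.focus 0 (.sym [[1]] (.cons [5, 3] 0 0 (.focus 2 (.focus 3 (.xor 5 7 (.focus 0 (.xor 6 7 (.focus 0 (.xor 7 10 (.focus 0 (.op 4 3 (.op 4 0 (.focus 0 (.cons [5, 3] 0 0 (.focus 12 (.focus 10 (.focus 7 (.focus 5 (.op 4 12 (.xor 12 0 (.focus 0 (.base (nat_lit 0x410808000a000040002) (.focus 0 (.sym [[1]] (.cons [1, 3] 1 0 (.base (nat_lit 128) (.op 4 1 (.and 1 0 (.dead0 0)))) .nil))))))))))) .nil)))))))))))) (.cons [5, 4, 2] 0 0 (.op 7 8 (.op 4 1 (.and 1 0 (.dead0 0)))) (.cons [5, 3, 2] 1 0 (.base (nat_lit 0xe00410718c08c20a000040006) (.op 4 1 (.and 1 0 (.dead0 0)))) .nil))))))))))))))) (.cons [1, 5] 4 0 (.base (nat_lit 0x106a638862b324619d8103888) (.op 4 1 (.and 1 0 (.dead0 0)))) (.cons [2, 5] 4 0 (.base (nat_lit 0x106a638862b324619d8103888) (.op 4 1 (.and 1 0 (.dead0 0)))) .nil)))))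
noncomputable def T5dK : List (List Nat) := [[37], [36, 34, 36, 34, 37], [36, 33, 33, 36]]
noncomputable def T5dF : List (List Nat) := [[], [1]]
noncomputable def C5d : List Lvl := [⟨(nat_lit 0), [[(nat_lit 33)],
  [(nat_lit 35)]], (nat_lit 4)⟩,
  ⟨(nat_lit 1), [[(nat_lit 37)]], (nat_lit 1)⟩]
noncomputable def S5d : List (List (List Nat)) := [[[], [4], [1], [2], [3], [4, 2], [1, 3], [1, 4], [2, 3], [4, 1], [4, 4], [3, 2], [2, 2], [4, 2, 4], [1, 3, 1], [3, 2, 2], [4, 2, 3], [4, 1, 1], [2, 3, 3], [1, 3, 2], [1, 4, 4], [1, 3, 1, 3], [4, 2, 4, 2], [3, 2, 2, 3], [4, 1, 1, 4]], [[], [2]]]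
noncomputable def a3a : List Nat := [(nat_lit 3)]
noncomputable def T3a : Tr := (.sym [[1], [3], [5], [7]] (.cons [] 2 108 (.base (nat_lit 0x106a638862b324619d8103888) (.focus 0 (.sym [[1], [3], [5]] (.cons [] 4 6 (.op 2 0 (.xor 0 2 (.focus 0 (.op 5 0 (.focus 0 (.xor 2 5 (.focus 0 (.base (nat_lit 0xe00410718c08c20a000040006) (.focus 0 (.sym [[1], [3]] (.cons [] 1 2 (.focus 3 (.focus 1 (.xor 5 0 (.focus 0 (.sym [[1]] (.cons [] 1 1 .triv .nil)))))) .nil))))))))))) (.cons [5, 3] 3 0 (.base (nat_lit 0x2000040002000008103000) (.op 4 1 (.and 1 0 (.dead0 0)))) .nil))))) (.cons [5] 3 0 (.op 5 0 (.and 1 0 (.dead0 0))) (.cons [3, 5] 3 0 (.op 5 0 (.and 1 0 (.dead0 0))) .nil))))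
noncomputable def T3aK : List (List Nat) := [[46, 43, 49], [48, 48, 49], [48, 50], [47, 39, 46, 47]]
noncomputable def T3aF : List (List Nat) := [[], [1]]
noncomputable def C3a : List Lvl := [⟨(nat_lit 0), [[(nat_lit 39)],
  [(nat_lit 41)]], (nat_lit 5)⟩,
  ⟨(nat_lit 1), [[(nat_lit 43)],
  [(nat_lit 45)]], (nat_lit 3)⟩,
  ⟨(nat_lit 2), [[(nat_lit 47)]], (nat_lit 3)⟩,
  ⟨(nat_lit 3), [[(nat_lit 49)]], (nat_lit 2)⟩]
noncomputable def S3a : List (List (List Nat)) := [[[], [1], [2], [3], [1, 3], [2, 10], [1, 1], [3, 5], [1, 9], [1, 4]], [[], [2], [3], [4], [1], [2, 5], [2, 2], [3, 5], [2, 3]], [[], [1], [2], [1, 1]], [[], [2], [1]]]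
noncomputable def a3b : List Nat := [(nat_lit 9)]
noncomputable def T3b : Tr := (.sym [[1], [3], [5]] (.cons [] 2 3 (.base (nat_lit 0x106a638862b324619d8103888) (.focus 0 (.op 2 0 (.op 4 1 (.xor 1 0 (.focus 0 (.op 7 3 (.xor 3 0 (.focus 0 (.sym [[1]] (.cons [] 2 1 (.focus 3 (.focus 1 (.xor 5 6 (.focus 0 (.xor 6 8 (.focus 0 (.base (nat_lit 0xe00410718c08c20a000040006) (.focus 0 (.op 4 0 (.xor 9 0 (.focus 0 (.op 7 2 (.xor 11 0 (.focus 0 (.cons [] 0 1 (.focus 5 (.focus 11 (.focus 3 (.focus 1 (.focus 9 (.xor 13 0 (.focus 0 (.cons [] 0 1 .triv .nil)))))))) (.cons [3, 1, 4, 1] 0 0 (.base (nat_lit 0x1004000000000000000) (.op 5 0 (.and 1 0 (.dead0 0)))) .nil)))))))))))))))) (.cons [5] 2 0 (.base (nat_lit 0xe00410718c08c20a000040006) (.op 5 0 (.and 1 0 (.dead 0)))) (.cons [3, 5] 2 0 (.base (nat_lit 0xe00410718c08c20a000040006) (.op 5 0 (.and 1 0 (.dead0 0)))) (.cons [5, 4] 2 0 (.base (nat_lit 0xe00410718c08c20a000040006)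 (.op 5 0 (.and 1 0 (.dead 0)))) (.cons [5, 3, 2] 2 0 (.base (nat_lit 0xe00410718c08c20a000040006) (.op 5 0 (.and 1 0 (.dead 0)))) .nil))))))))))))))) (.cons [3] 2 0 (.base (nat_lit 0x106a638862b324619d8103888) (.op 5 0 (.and 1 0 (.dead0 0)))) (.cons [9] 2 0 (.base (nat_lit 0x106a638862b324619d8103888) (.focus 0 (.op 2 0 (.op 4 1 (.xor 1 0 (.focus 0 (.op 7 3 (.xor 3 0 (.focus 0 (.sym [[1]] (.cons [] 2 0 (.base (nat_lit 0x2000040002000008103000) (.base (nat_lit 0x28438822930061940000880) (.op 4 0 (.and 2 0 (.base (nat_lit 0xe00410718c08c20a000040006) (.op 7 0 (.and 2 0 (.dead0 0)))))))) (.cons [5] 2 0 (.base (nat_lit 0xe00410718c08c20a000040006) (.op 5 0 (.and 1 0 (.dead 0)))) (.cons [3, 5] 2 0 (.base (nat_lit 0xe00410718c08c20a000040006) (.op 5 0 (.and 1 0 (.dead0 0)))) (.cons [5, 4] 2 0 (.base (nat_lit 0xe00410718c08c20a000040006) (.op 5 0 (.and 1 0 (.dead 0)))) (.cons [5, 3, 2] 2 0 (.base (nat_lit 0xe00410718c08c20a000040006)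 (.op 5 0 (.and 1 0 (.dead 0)))) .nil))))))))))))))) (.cons [3, 5] 2 0 (.base (nat_lit 0x106a638862b324619d8103888) (.op 4 1 (.and 1 0 (.dead0 0)))) (.cons [5, 9] 3 0 (.base (nat_lit 0x106a638862b324619d8103888) (.op 5 0 (.and 1 0 (.dead0 0)))) (.cons [3, 8] 2 0 (.op 5 0 (.and 1 0 (.dead0 0))) (.cons [15, 3] 2 0 (.base (nat_lit 0x106a638862b324619d8103888) (.op 4 1 (.and 1 0 (.dead0 0)))) .nil))))))))
noncomputable def T3bK : List (List Nat) := [[55], [52, 55], [51, 53, 56]]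
noncomputable def T3bF : List (List Nat) := [[], [1]]
noncomputable def C3b : List Lvl := [⟨(nat_lit 0), [[(nat_lit 51)],
  [(nat_lit 53)]], (nat_lit 3)⟩,
  ⟨(nat_lit 3), [[(nat_lit 55)]], (nat_lit 2)⟩]
noncomputable def S3b : List (List (List Nat)) := [[[], [1], [2], [4], [3], [4, 2], [4, 1], [3, 1], [4, 6], [1, 3], [4, 5], [3, 6]], [[], [2], [1]]]
noncomputable def a2 : List Nat := [(nat_lit 13)]
noncomputable def T2 : Tr := (.sym [[1], [3], [5], [7], [9]] (.cons [] 4 24 (.base (nat_lit 0x106a638862b324619d8103888) (.focus 0 (.op 4 0 (.focus 0 (.sym [[1], [3], [5], [7]] (.cons [] 2 4 (.op 2 0 (.xor 0 3 (.focus 0 (.xor 1 3 (.focus 0 (.xor 2 6 (.focus 0 (.base (nat_lit 0xe00410718c08c20a000040006) (.focus 0 (.op 4 0 (.xor 5 0 (.focus 0 (.op 4 10 (.xor 7 0 (.focus 0 (.sym [[1], [3]] (.cons [] 1 1 (.focus 2 (.cons [] 0 1 .triv .nil)) (.cons [1] 1 0 (.base (nat_lit 0x410808000a000040002) (.op 4 0 (.base (nat_lit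 0x1100000000) (.and 1 0 (.dead0 0))))) .nil)))))))))))))))))) (.cons [7, 3] 2 0 (.op 5 0 (.and 1 0 (.dead0 0))) .nil))))))) (.cons [7] 2 0 (.op 5 0 (.and 1 0 (.dead0 0))) .nil)))
noncomputable def T2K : List (List Nat) := [[66, 66], [66], [62, 63, 61], [61, 66, 66], [59, 62, 63, 61, 65]]
noncomputable def T2F : List (List Nat) := [[], [1]]
noncomputable def C2 : List Lvl := [⟨(nat_lit 0), [[(nat_lit 57)],
  [(nat_lit 59)]], (nat_lit 6)⟩,
  ⟨(nat_lit 3), [[(nat_lit 61)],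
  [(nat_lit 63)]], (nat_lit 3)⟩,
  ⟨(nat_lit 2), [[(nat_lit 65)]], (nat_lit 3)⟩]
noncomputable def S2 : List (List (List Nat)) := [[[], [4], [1], [2], [3], [4, 1], [2, 2], [4, 6], [1, 1], [3, 3], [4, 2], [1, 6], [2, 6], [4, 4], [1, 5], [2, 7], [3, 2], [3, 1], [1, 7], [3, 7], [2, 8], [3, 6], [1, 8], [1, 4], [4, 8], [4, 7], [2, 6, 3], [2, 7, 3], [1, 1, 5], [2, 6, 2], [1, 4, 7], [4, 7, 2], [4, 1, 1], [1, 6, 2], [1, 5, 2], [2, 8, 4], [4, 1, 4], [4, 6, 1], [4, 6, 3], [2, 7, 1], [3, 6, 1], [2, 7, 2], [1, 6, 7], [2, 2, 2], [1, 1, 1], [3, 3, 7], [1, 6, 3], [4, 6, 2], [1, 8, 3], [4, 4, 1], [3, 3, 2], [4, 4, 2], [4, 4, 4], [1, 1, 6], [2, 8, 3], [3, 2, 2], [3, 2, 6], [1, 7, 2], [1, 6, 4], [3, 1, 6], [3, 7, 3], [3, 2, 7], [1, 4, 6], [4, 6, 4], [3, 1, 3], [1, 1, 3], [4, 1, 3], [4, 4, 7], [4, 7, 1], [3, 3, 5], [2, 6, 4], [3, 3, 1], [2, 2, 3], [4, 2, 3], [3, 7, 5], [2, 8, 6], [2, 7, 3, 3], [4, 7, 2, 4], [2, 8, 4, 5], [2, 8,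 4, 4]], [[], [2], [1], [2, 4], [1, 4], [2, 4, 1]], [[], [1], [2], [1, 1]]]
noncomputable def Wo : List (List Nat) := [[(nat_lit 7), (nat_lit 5), (nat_lit 10)],
  [(nat_lit 8), (nat_lit 12)],
  [(nat_lit 6), (nat_lit 10)],
  [(nat_lit 6), (nat_lit 1), (nat_lit 7)],
  [(nat_lit 5), (nat_lit 9), (nat_lit 6), (nat_lit 9), (nat_lit 3)]]

theorem lab : LabOK 100 7 (repl 100 7) (full 99) := labOK_spec (by decide +kernel)
theorem slp2 : Slp (lapp N N2) 100 7 W2 7 := slp_of_slpOK (by decide +kernel)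
theorem ok2 : (Bool.rec false (Nat.ble 604800 (chainProd (lapp N N2) 100 C)) (chainOK (lapp N N2) 100 C) : Bool) = true := by decide +kernel
theorem c7 : cycOK (lapp N N2) 100 7 (repl 100 7) (full 99) C y7 7 1 T7F T7K T7 = true := by decide +kernel
theorem z5a : cenOK (lapp N N2) 100 7 C a5a T5aF T5aK T5a 300 C5a = true := by decide +kernel
theorem u5a : enumOK (lapp N N2) 100 7 (ordP (repl 100 7) (full 99) 100 [7, 8, 10, 12, 15]) C5a S5a = true := by decide +kernel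
theorem z5b : cenOK (lapp N N2) 100 7 C a5b T5bF T5bK T5b 300 C5b = true := by decide +kernel
theorem u5b : enumOK (lapp N N2) 100 7 (ordP (repl 100 7) (full 99) 100 [7, 8, 10, 12, 15]) C5b S5b = true := by decide +kernel
theorem z5c : cenOK (lapp N N2) 100 7 C a5c T5cF T5cK T5c 50 C5c = true := by decide +kernel
theorem u5c : enumOK (lapp N N2) 100 7 (ordP (repl 100 7) (full 99) 100 [7, 8, 10, 12, 15]) C5c S5c = true := by decide +kernel
theorem z5d : cenOK (lapp N N2) 100 7 C a5d T5dF T5dK T5d 50 C5d = true := by decide +kernel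
theorem u5d : enumOK (lapp N N2) 100 7 (ordP (repl 100 7) (full 99) 100 [7, 8, 10, 12, 15]) C5d S5d = true := by decide +kernel
theorem z3a : cenOK (lapp N N2) 100 7 C a3a T3aF T3aK T3a 1080 C3a = true := by decide +kernel
theorem u3a : enumOK (lapp N N2) 100 7 (ordP (repl 100 7) (full 99) 100 [7, 8, 10, 12, 15]) C3a S3a = true := by decide +kernel
theorem z3b : cenOK (lapp N N2) 100 7 C a3b T3bF T3bK T3b 36 C3b = true := by decide +kernel
theorem u3b : enumOK (lapp N N2) 100 7 (ordP (repl 100 7) (full 99) 100 [7, 8, 10, 12, 15]) C3b S3b = true := by decide +kernel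
theorem z2 : cenOK (lapp N N2) 100 7 C a2 T2F T2K T2 1920 C2 = true := by decide +kernel
theorem u2 : enumOK (lapp N N2) 100 7 (ordP (repl 100 7) (full 99) 100 [7, 8, 10, 12, 15]) C2 S2 = true := by decide +kernel
theorem wo : ordWs (lapp N N2) 100 7 (repl 100 7) (full 99) Wo [7, 8, 10, 12, 15] = true := by decide +kernel

theorem sp : Sp Cfsg.Spor.J2 [7, 8, 10, 12, 15] := by
  have : Finite Cfsg.Spor.J2 := Nat.finite_of_card_ne_zero (by rw [J2.card]; decide)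
  have hE := exact_extend (c' := C) J2.exact (k := 7) (m := 7) (by decide) rfl slp2 J2.card ok2
  have k : ∀ {a fw kg T s c Ts}, lettersLe 7 [a] = true → cenOK (lapp N N2) 100 7 C a fw kg T s c = true →
      enumOK (lapp N N2) 100 7 (ordP (repl 100 7) (full 99) 100 [7, 8, 10, 12, 15]) c Ts = true →
      ∀ g ∈ Subgroup.centralizer {ev g0 a}, ∃ m ∈ [7, 8, 10, 12, 15], g ^ m = 1 := fun h1 h2 h3 => by
    rw [← ev_slp h1 W2 (List.mem_singleton_self _)]
    exact ub_enum (exact_cenOK hE (by decide) (by decide) h2).1 lab h3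
  refine ⟨fun g => ?_, lb_ordWs hE lab wo⟩
  obtain ⟨q, h, hq⟩ | h := dvd_or_pow (p := 2) (a := 7) (π := [3, 5, 7]) (e := 3) (by rw [J2.card]; decide) g
    (by decide)
  · simp only [List.mem_cons, List.not_mem_nil, or_false] at h
    obtain rfl | rfl | rfl := h
    · refine ub_of_cent (f := g0) (reps := [a3a, a3b]) (fun y hy => ?_) ?_ hq
      · obtain ⟨w, hw, v, -, e⟩ := classes (exact3 J2.exact) lab J2.exact.faithful (fun _ => trivial) (M := M3) (p := 3)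
          (a := 1) (m := 22400) (by decide) (Subgroup.card_top.trans (J2.card.trans (by decide +kernel))) (by decide)
          (reps := [a3a, a3b]) (tbl := F3) (Ts := Ts3) (by decide +kernel) (g := y) trivial
          (orderOf_dvd_iff_pow_eq_one.1 (by rw [hy, pow_one])) (fun e => by simp [e] at hy)
        exact ⟨w, hw, v, e⟩
      · simp only [List.forall_mem_cons, List.not_mem_nil, false_imp_iff, implies_true, and_true]
        exact ⟨k (by decide +kernel) z3a u3a,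
          k (by decide +kernel) z3b u3b⟩
    · refine ub_of_cent (f := g0) (reps := [a5a, a5b, a5c, a5d]) (fun y hy => ?_) ?_ hq
      · obtain ⟨w, hw, v, -, e⟩ := classes (exact5 J2.exact) lab J2.exact.faithful (fun _ => trivial) (M := M5) (p := 5)
          (a := 1) (m := 24192) (by decide) (Subgroup.card_top.trans (J2.card.trans (by decide +kernel))) (by decide)
          (reps := [a5a, a5b, a5c, a5d]) (tbl := F5) (Ts := Ts5) (by decide +kernel) (g := y) trivial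
          (orderOf_dvd_iff_pow_eq_one.1 (by rw [hy, pow_one])) (fun e => by simp [e] at hy)
        exact ⟨w, hw, v, e⟩
      · simp only [List.forall_mem_cons, List.not_mem_nil, false_imp_iff, implies_true, and_true]
        exact ⟨k (by decide +kernel) z5a u5a,
          k (by decide +kernel) z5b u5b,
          k (by decide +kernel) z5c u5c,
          k (by decide +kernel) z5d u5d⟩
    · exact ub_of_cyc hE lab (by decide) (m := 86400) (by decide) J2.card (by decide) c7 (by decide) hq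
  · obtain ⟨h1, h2⟩ := exact_cenOK hE (by decide) (by decide) z2
    exact ub_of_syl (m := 315) Nat.prime_two (by rw [h2, J2.card]) (by decide) (ub_enum h1 lab u2) h

end CF.Spec.J2
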