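import Cfsg.Agent.Spec.Tab

set_option autoImplicit false
set_option maxRecDepth 1000000
set_option maxHeartbeats 0
set_option Elab.async false

namespace CF.Spec

open CF.Comp CF.Cod

noncomputable def RA5 : List (List Nat) := [[(nat_lit 1), (nat_lit 1)],
  [(nat_lit 3), (nat_lit 3), (nat_lit 3)],
  [(nat_lit 1), (nat_lit 3), (nat_lit 1), (nat_lit 3), (nat_lit 1), (nat_lit 3), (nat_lit 1), (nat_lit 3), (nat_lit 1), (nat_lit 3)]]
noncomputable def GA5 : List (List Nat) := [[(nat_lit 1)],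
  [(nat_lit 3)]]
noncomputable def TA5_c0 : BT (Bx Nat) := (BT.leaf (Bx.mk (nat_lit 0xefae78d33d77db2b30aaeb71aefa298a08e196792675b7da79c5985d93903d14944d528c2cd209105187083040)))
noncomputable def TA5_c1 : BT (Bx Nat) := (BT.leaf (Bx.mk (nat_lit 0xebbd33badab9e31cafc37dabb358e07de6daa618a89e671d9644503ce34c2ca6585d65544d21440c22481c6001)))
noncomputable def TA5_c3 : BT (Bx Nat) := (BT.leaf (Bx.mk (nat_lit 0xe77e3bdbaa75a339f19af96d92bd32c2eb2a6235e15947937126a28157dd6d925120f1cd18b40e30a045003102)))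
noncomputable def TA5_c4 : BT (Bx Nat) := (BT.leaf (Bx.mk (nat_lit 0xe36ef9eb7d29ca8c27ba6b25aa4d73c6fb6b89881755d51b4d94a385f59e71a40938830728644f34b101080143)))
noncomputable def TA5_w : BT (Bx Nat) := (BT.leaf (Bx.mk (nat_lit 0x314131413103141314130131413141014131413100131413140014131413004141314100314131410041314131003131413100041314140003131414000414131400031413140004131413000313141300041413130003141313000141314100013141310000131414000014131400001314130000141313000041314100003131410000414131000031413100000314140000041314000003131400000414130000031413000004131300000141410000013141000001413100000131310000001414000000131400000014130000001313000000414100000031410000004131000000313100000004140000000314000000041300000003130000000141000000013100000000140000000013000000004100000000310000000004000000000300000000010000000000)))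
noncomputable def TA5_cols : List (BT (Bx Nat)) := [TA5_c0, TA5_c1, TA5_c1, TA5_c3, TA5_c4]
noncomputable def TA5_ch (x j : Nat) : Bx Nat := chk TA5_cols x j
noncomputable def TA5_wc (_ j : Nat) : Bx Nat := TA5_w.get j
noncomputable def TA5 : CT := ⟨(nat_lit 60), (nat_lit 6), (nat_lit 63), TA5_ch, (nat_lit 40), (nat_lit 0xffffffffff), TA5_wc, (nat_lit 30)⟩
noncomputable def spA5_c0 : BT (Bx Nat) := (BT.leaf (Bx.mk (nat_lit 0x0)))
noncomputable def spA5_c1 : BT (Bx Nat) := (BT.leaf (Bx.mk (nat_lit 0x53b2cf2935a4d292fa4b9eebb1eac7954c9af364c1ef1b1e2c7764b1eed64da924a486920a47e91ca46ec6a6489ee3b1a6c68b19d91d7b7ac66b196912a446910a43e90ea43690ca42ec5ab166c58b15ec56b156c54b14e906a416904a40ec4ab126c48b11e901b108000)))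
noncomputable def spA5_c2 : BT (Bx Nat) := (BT.leaf (Bx.mk (nat_lit 0xdba36e11b9b1f11b7b1ee9aa97da9a997d29a897ca9a797c29a697ba9a597b2c75b1cec71b1bec6db1ae9999792998978a1d7a6565dfa6525dda64dd9bb18ec61985ac60b17ac5c866a98a974a9899742988973a9879732c51b13ec4db12e982971a9819712c45b10c000)))
noncomputable def spA5_c3 : BT (Bx Nat) := (BT.leaf (Bx.mk (nat_lit 0x2979a5dd2bc59e92bb59e2175a5aa173a5a6171a5a216fa59e16da59a16ba596c76b1d2c72b1c2c6eb1b2163a566161a562956857a95585729548a6a653b192c627582157b17ec5db16e151a52a14fa52614da52214ba51ec52b142c4eb132145a50a143a506c46b110000)))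
noncomputable def spA5_p : BT (Bx Nat) := (BT.leaf (Bx.mk (nat_lit 0xae429dc29d419d018bc18b818a838a828a438a427a037a0279c379c2798379827943794279017841680167c1670166c166436642660366025582554355425503550254c354815441540153c143814341430142c142834282424342423203320231c331c231813141210120c12083208210431042104100000000)))
noncomputable def spA5_e : BT Nat := BT.leaf (nat_lit 0)
noncomputable def spA5_cols : List (BT (Bx Nat)) := [spA5_c0, spA5_c1, spA5_c2, spA5_c3]
noncomputable def spA5_ch (x j : Nat) : Bx Nat := chunkG spA5_cols (nat_lit 1) x j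
noncomputable def spA5_L (x : Nat) : Bx (Nat → Nat) := lookG spA5_ch (nat_lit 8) (nat_lit 255) (nat_lit 14) (nat_lit 16383) x
noncomputable def spA5_pc (_ j : Nat) : Bx Nat := spA5_p.get j
noncomputable def spA5_pb : Bx (Nat → Nat) := lookG spA5_pc (nat_lit 8) (nat_lit 255) (nat_lit 16) (nat_lit 65535) (nat_lit 0)
noncomputable def spA5_rots : BT CW := (BT.node (nat_lit 6) (BT.node (nat_lit 3) (BT.node (nat_lit 1) (BT.leaf ⟨[], (nat_lit 1000000), (nat_lit 0), (nat_lit 0), (nat_lit 0)⟩) (BT.node (nat_lit 2) (BT.leaf ⟨[], (nat_lit 1000000), (nat_lit 0), (nat_lit 0), (nat_lit 1)⟩) (BT.leaf ⟨[], (nat_lit 1000000), (nat_lit 0), (nat_lit 0), (nat_lit 2)⟩))) (BT.node (nat_lit 4) (BT.leaf ⟨[(nat_lit 1), (nat_lit 1)], (nat_lit 0), (nat_lit 0), (nat_lit 0), (nat_lit 3)⟩) (BT.node (nat_lit 5) (BT.leaf ⟨[(nat_lit 3), (nat_lit 2)], (nat_lit 3), (nat_lit 1), (nat_lit 0), (nat_lit 3)⟩) (BT.leaf ⟨[(nat_lit 2), (nat_lit 3)], (nat_lit 3),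 (nat_lit 0), (nat_lit 0), (nat_lit 3)⟩)))) (BT.node (nat_lit 9) (BT.node (nat_lit 7) (BT.leaf ⟨[(nat_lit 2), (nat_lit 2), (nat_lit 2)], (nat_lit 1), (nat_lit 0), (nat_lit 0), (nat_lit 3)⟩) (BT.node (nat_lit 8) (BT.leaf ⟨[(nat_lit 2), (nat_lit 1), (nat_lit 2), (nat_lit 1), (nat_lit 2), (nat_lit 1), (nat_lit 2), (nat_lit 1), (nat_lit 2), (nat_lit 1)], (nat_lit 2), (nat_lit 1), (nat_lit 0), (nat_lit 3)⟩) (BT.leaf ⟨[(nat_lit 3), (nat_lit 1), (nat_lit 3), (nat_lit 1), (nat_lit 3), (nat_lit 1), (nat_lit 3), (nat_lit 1), (nat_lit 3), (nat_lit 1)], (nat_lit 7), (nat_lit 0), (nat_lit 0), (nat_lit 3)⟩))) (BT.node (nat_lit 10) (BT.leaf ⟨[(nat_lit 3), (nat_lit 3), (nat_lit 3)], (nat_lit 6), (nat_lit 0), (nat_lit 0), (nat_lit 3)⟩) (BT.node (nat_lit 11) (BT.leaf ⟨[(nat_lit 1), (nat_lit 3), (nat_lit 1), (nat_lit 3), (nat_lit 1), (nat_lit 3), (nat_lit 1), (nat_lit 3), (nat_lit 1), (nat_lit 3)], (nat_lit 7), (nat_lit 1), (nat_lit 0), (nat_lit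 3)⟩) (BT.leaf ⟨[(nat_lit 1), (nat_lit 2), (nat_lit 1), (nat_lit 2), (nat_lit 1), (nat_lit 2), (nat_lit 1), (nat_lit 2), (nat_lit 1), (nat_lit 2)], (nat_lit 2), (nat_lit 0), (nat_lit 0), (nat_lit 3)⟩)))))
noncomputable def spA5_hcs : List CW := []
noncomputable def spA5_H (x j : Nat) : Bx (Nat → Nat → Nat) := mkH spA5_L spA5_pb.1 spA5_e.get (lmap CW.w spA5_hcs) (nat_lit 60) (nat_lit 61) (nat_lit 4) (nat_lit 64) (nat_lit 1024) (nat_lit 4095) x (spA5_rots.get j)
noncomputable def spA5_F (x b : Nat) : Bool := blkOK spA5_H spA5_ch (nat_lit 61) (nat_lit 64) (nat_lit 16) (nat_lit 8) (nat_lit 255) (nat_lit 14) (nat_lit 16383) x b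

theorem spA5_k0_0 : allFrom (spA5_F (nat_lit 0)) (nat_lit 0) (nat_lit 4) = true := by decide +kernel
theorem spA5_k1_0 : allFrom (spA5_F (nat_lit 1)) (nat_lit 0) (nat_lit 4) = true := by decide +kernel
theorem spA5_k2_0 : allFrom (spA5_F (nat_lit 2)) (nat_lit 0) (nat_lit 4) = true := by decide +kernel
theorem spA5_k3_0 : allFrom (spA5_F (nat_lit 3)) (nat_lit 0) (nat_lit 4) = true := by decide +kernel
theorem spA5_all : Cov spA5_F 4 4 0 := by
  have h := Cov.zero spA5_F 4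
  have h := h.blk (b := 4) spA5_k0_0 rfl
  have h := h.next (y := 1) rfl rfl
  have h := h.blk (b := 4) spA5_k1_0 rfl
  have h := h.next (y := 2) rfl rfl
  have h := h.blk (b := 4) spA5_k2_0 rfl
  have h := h.next (y := 3) rfl rfl
  have h := h.blk (b := 4) spA5_k3_0 rfl
  have h := h.next (y := 4) rfl rfl
  exact h

theorem spA5 : Enum RA5 [] GA5 60 :=
  ⟨spA5_cols, spA5_ch, spA5_L, spA5_H, spA5_pb.1, spA5_e.get, [(nat_lit 0), (nat_lit 1), (nat_lit 3), (nat_lit 4)], (nat_lit 1), (nat_lit 2), spA5_rots, spA5_hcs,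
    (nat_lit 61), (nat_lit 4), (nat_lit 64), (nat_lit 16), (nat_lit 1024), (nat_lit 4095), (nat_lit 8), (nat_lit 255), (nat_lit 14), (nat_lit 16383), (nat_lit 1), (nat_lit 4),
    fun _ _ => rfl, fun _ => rfl, fun _ _ => rfl, by decide +kernel, spA5_all.1⟩
theorem pA5 : TA5.Pres RA5 GA5 :=
  ⟨CT.ok_spec (by decide +kernel), lall_iff.1 (by decide +kernel), by decide +kernel, by decide +kernel,
    by decide +kernel, spA5.bound (ug_rels _) (bound_nil _)⟩

instance gA5 : TA5.Grp := pA5.grp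

noncomputable def FA5 (c : Nat) : Nat := Nat.land (Nat.shiftRight (nat_lit 0xad8b34eceb87135) (Nat.mul (nat_lit 1) c)) (nat_lit 1)

theorem mA5 : ∀ k ∈ [3, 5], ∀ h : El TA5, El.pw h k = 1 → h ≠ 1 → ∀ x, sumF FA5 h k x % 2 = 0 := by
  decide +kernel

instance nA5 : Nontrivial (Fn (ZMod 2) (SR (H := El TA5) [3, 5])) :=
  tab_nontrivial (tab_mem mA5) (by decide +kernel)

theorem sA5 : Sp (Aff (Fn (ZMod 2) (SR (H := El TA5) [3, 5])) (El TA5)) [3, 4, 5] :=
  sp_tab (by norm_num) mA5 (by decide +kernel) (by decide +kernel)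

noncomputable def RO48 : List (List Nat) := [[(nat_lit 1), (nat_lit 1), (nat_lit 1), (nat_lit 1)],
  [(nat_lit 1), (nat_lit 1), (nat_lit 4), (nat_lit 4)],
  [(nat_lit 1), (nat_lit 1), (nat_lit 6), (nat_lit 6)],
  [(nat_lit 1), (nat_lit 3), (nat_lit 1), (nat_lit 3), (nat_lit 1), (nat_lit 3), (nat_lit 2), (nat_lit 2)],
  [(nat_lit 3), (nat_lit 5), (nat_lit 3), (nat_lit 5), (nat_lit 3), (nat_lit 5), (nat_lit 2), (nat_lit 2)],
  [(nat_lit 1), (nat_lit 5), (nat_lit 1), (nat_lit 5), (nat_lit 2), (nat_lit 2)]]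
noncomputable def GO48 : List (List Nat) := [[(nat_lit 1)],
  [(nat_lit 3)],
  [(nat_lit 5)]]
noncomputable def TO48_c0 : BT (Bx Nat) := (BT.leaf (Bx.mk (nat_lit 0xbafa68aabb6c86092579f9e68a351569b5d665871d4933ce45024828b34c1c5183101080)))
noncomputable def TO48_c1 : BT (Bx Nat) := (BT.leaf (Bx.mk (nat_lit 0xa29925821bee69bb6c597aea5544119e63ce8e279f20975c6190c41854d208a2cd3001c1)))
noncomputable def TO48_c2 : BT (Bx Nat) := (BT.leaf (Bx.mk (nat_lit 0xa68964860baf6dab2d5d6aab5154509a738f8a37de24871d65810314649304b28c347002)))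
noncomputable def TO48_c3 : BT (Bx Nat) := (BT.leaf (Bx.mk (nat_lit 0xaea9e6baf79fb2d61975c515a688a338f96428b86030d1466da4d25d60421114001c9203)))
noncomputable def TO48_c4 : BT (Bx Nat) := (BT.leaf (Bx.mk (nat_lit 0xaab9a7bee7deb6c65871d554a298e23ce9252ca82134c18569b4935970810d0447008244)))
noncomputable def TO48_c5 : BT (Bx Nat) := (BT.leaf (Bx.mk (nat_lit 0xb6cbaf8e292575ca68aab5974939a741130d8602097de6da0c46580425541801cf38b285)))
noncomputable def TO48_c6 : BT (Bx Nat) := (BT.leaf (Bx.mk (nat_lit 0xb2dbee8a396471da29aea5d64d29e645034c82124879f69b10361908151514700e3ca2c6)))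
noncomputable def TO48_w : BT (Bx Nat) := (BT.leaf (Bx.mk (nat_lit 0x235131135131023513013513023531013531045131035131002353001353004513003513002351001351004531003531006131005131000235000135000453000353000613000513000451000351000631000531000231000131000045000035000063000053000023000013000061000051000041000031000011000006000005000004000003000002000001000000)))
noncomputable def TO48_cols : List (BT (Bx Nat)) := [TO48_c0, TO48_c1, TO48_c2, TO48_c3, TO48_c4, TO48_c5, TO48_c6]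
noncomputable def TO48_ch (x j : Nat) : Bx Nat := chk TO48_cols x j
noncomputable def TO48_wc (_ j : Nat) : Bx Nat := TO48_w.get j
noncomputable def TO48 : CT := ⟨(nat_lit 48), (nat_lit 6), (nat_lit 63), TO48_ch, (nat_lit 24), (nat_lit 16777215), TO48_wc, (nat_lit 126)⟩
noncomputable def spO48_c0 : BT (Bx Nat) := (BT.leaf (Bx.mk (nat_lit 0x0)))
noncomputable def spO48_c1 : BT (Bx Nat) := (BT.leaf (Bx.mk (nat_lit 0x81696aaa81656aa681616aa27170886f815b6a9c716e886d81576a98716c886b315654d581516a9271688867315054cf716488634d5f716081496a8a715e885d4d59715a81446a8549476cc6715488537a83654b714c714e884d8141884888420000)))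
noncomputable def spO48_c2 : BT (Bx Nat) := (BT.leaf (Bx.mk (nat_lit 0x7c6a81297c6681257c628121612f88707c5c811b612d886e7c588117612b886c7d1541167c528111612788687d0f4110612388643da0491f7c4a8109611d885e3d9a49197c4581047d065907611388548102558c610b610d884e7108810188430000)))
noncomputable def spO48_c3 : BT (Bx Nat) := (BT.leaf (Bx.mk (nat_lit 0x11ec11eb35e833e719ef09f081df41e04e6d3e2e81d941da4dde4bdd81d535d639ea88696663562481cf35d039e6886581cb59cc39e28861664d6e0e81c64dc739dc885b5dd451d351d8885781c269c36bc551d2885181c171c871ca884988440000)))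
noncomputable def spO48_c4 : BT (Bx Nat) := (BT.leaf (Bx.mk (nat_lit 0x132b27ac31a741a81b301aef42e0819f29ae29ad42da8199499d599e431681954ae9886a41a441a34310818f4ae588665acc818b29a18862518e5e8d5b078186299b885c6193599462d788587b0381827ac4419188526188818172c9884a88450000)))
noncomputable def spO48_c5 : BT (Bx Nat) := (BT.leaf (Bx.mk (nat_lit 0x226e226d2a6f2a702264226332652266525e525d2a6a2a692a6b2a6c3257225882535c9462675a6852516a52824d5c8e2a622a6182495a4a7260885f5a5c5a5b82445a45725a885982426a43741688556c07824172487410884f724c884b88460000)))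
noncomputable def spO48_c6 : BT (Bx Nat) := (BT.leaf (Bx.mk (nat_lit 0x376d372e2bb02b6f3763372433a63365671d6f5e2ba93eea2bac2b6b339833577b9482135b685ba7635263917b8e820d2ba13ee26a0a8209521f886076db5b9c6a0582045219885a7b838202635588567b4662088201634f8850734b884c88470000)))
noncomputable def spO48_p : BT (Bx Nat) := (BT.leaf (Bx.mk (nat_lit 0x6a42d483650aca0d842b0835f12be1c6c28d831912321c5c28b8315122a1c4c6898ad109a20b3c46786cd199a2b2c46586c919922b242648286110c1a106420a8409080a086410a8211041a081208c41148221043208441040000000)))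
noncomputable def spO48_e : BT Nat := BT.leaf (nat_lit 0)
noncomputable def spO48_cols : List (BT (Bx Nat)) := [spO48_c0, spO48_c1, spO48_c2, spO48_c3, spO48_c4, spO48_c5, spO48_c6]
noncomputable def spO48_ch (x j : Nat) : Bx Nat := chunkG spO48_cols (nat_lit 1) x j
noncomputable def spO48_L (x : Nat) : Bx (Nat → Nat) := lookG spO48_ch (nat_lit 8) (nat_lit 255) (nat_lit 16) (nat_lit 65535) x
noncomputable def spO48_pc (_ j : Nat) : Bx Nat := spO48_p.get j
noncomputable def spO48_pb : Bx (Nat → Nat) := lookG spO48_pc (nat_lit 8) (nat_lit 255) (nat_lit 15) (nat_lit 32767) (nat_lit 0)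
noncomputable def spO48_rots : BT CW := (BT.node (nat_lit 15) (BT.node (nat_lit 7) (BT.node (nat_lit 3) (BT.node (nat_lit 1) (BT.leaf ⟨[], (nat_lit 1000000), (nat_lit 0), (nat_lit 0), (nat_lit 0)⟩) (BT.node (nat_lit 2) (BT.leaf ⟨[], (nat_lit 1000000), (nat_lit 0), (nat_lit 0), (nat_lit 1)⟩) (BT.leaf ⟨[], (nat_lit 1000000), (nat_lit 0), (nat_lit 0), (nat_lit 2)⟩))) (BT.node (nat_lit 5) (BT.node (nat_lit 4) (BT.leaf ⟨[(nat_lit 2), (nat_lit 1)], (nat_lit 8), (nat_lit 1), (nat_lit 0), (nat_lit 3)⟩) (BT.leaf ⟨[(nat_lit 1), (nat_lit 2)], (nat_lit 8), (nat_lit 0), (nat_lit 0), (nat_lit 3)⟩)) (BT.node (nat_lit 6) (BT.leaf ⟨[(nat_lit 4), (nat_lit 3)], (nat_lit 7), (nat_lit 1), (nat_lit 0), (nat_lit 3)⟩) (BT.leaf ⟨[(nat_lit 3), (nat_lit 4)], (nat_lit 7), (nat_lit 0), (nat_lit 0), (nat_lit 3)⟩)))) (BT.node (nat_lit 11) (BT.node (nat_lit 9) (BT.node (nat_lit 8) (BT.leaf ⟨[(nat_lit 6), (nat_lit 5)], (nat_lit 6), (nat_lit 1), (nat_lit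 0), (nat_lit 3)⟩) (BT.leaf ⟨[(nat_lit 5), (nat_lit 6)], (nat_lit 6), (nat_lit 0), (nat_lit 0), (nat_lit 3)⟩)) (BT.node (nat_lit 10) (BT.leaf ⟨[(nat_lit 1), (nat_lit 1), (nat_lit 1), (nat_lit 1)], (nat_lit 0), (nat_lit 0), (nat_lit 0), (nat_lit 3)⟩) (BT.leaf ⟨[(nat_lit 4), (nat_lit 4), (nat_lit 1), (nat_lit 1)], (nat_lit 1), (nat_lit 2), (nat_lit 0), (nat_lit 3)⟩))) (BT.node (nat_lit 13) (BT.node (nat_lit 12) (BT.leaf ⟨[(nat_lit 4), (nat_lit 1), (nat_lit 1), (nat_lit 4)], (nat_lit 1), (nat_lit 3), (nat_lit 0), (nat_lit 3)⟩) (BT.leaf ⟨[(nat_lit 6), (nat_lit 6), (nat_lit 1), (nat_lit 1)], (nat_lit 2), (nat_lit 2), (nat_lit 0), (nat_lit 3)⟩)) (BT.node (nat_lit 14) (BT.leaf ⟨[(nat_lit 6), (nat_lit 1), (nat_lit 1), (nat_lit 6)], (nat_lit 2), (nat_lit 3), (nat_lit 0), (nat_lit 3)⟩) (BT.leaf ⟨[(nat_lit 3), (nat_lit 3), (nat_lit 2), (nat_lit 2)], (nat_lit 10), (nat_lit 0), (nat_lit 0), (nat_lit 3)⟩))))) (BT.node (nat_lit 22) (BT.node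 (nat_lit 18) (BT.node (nat_lit 16) (BT.leaf ⟨[(nat_lit 5), (nat_lit 5), (nat_lit 2), (nat_lit 2)], (nat_lit 11), (nat_lit 0), (nat_lit 0), (nat_lit 3)⟩) (BT.node (nat_lit 17) (BT.leaf ⟨[(nat_lit 2), (nat_lit 3), (nat_lit 3), (nat_lit 2)], (nat_lit 10), (nat_lit 3), (nat_lit 0), (nat_lit 3)⟩) (BT.leaf ⟨[(nat_lit 5), (nat_lit 2), (nat_lit 2), (nat_lit 5)], (nat_lit 11), (nat_lit 1), (nat_lit 0), (nat_lit 3)⟩))) (BT.node (nat_lit 20) (BT.node (nat_lit 19) (BT.leaf ⟨[(nat_lit 1), (nat_lit 5), (nat_lit 2), (nat_lit 2), (nat_lit 1), (nat_lit 5)], (nat_lit 5), (nat_lit 2), (nat_lit 0), (nat_lit 3)⟩) (BT.leaf ⟨[(nat_lit 2), (nat_lit 6), (nat_lit 2), (nat_lit 1), (nat_lit 1), (nat_lit 6)], (nat_lit 14), (nat_lit 3), (nat_lit 0), (nat_lit 3)⟩)) (BT.node (nat_lit 21) (BT.leaf ⟨[(nat_lit 1), (nat_lit 1), (nat_lit 6), (nat_lit 6)], (nat_lit 2), (nat_lit 0), (nat_lit 0), (nat_lit 3)⟩) (BT.leaf ⟨[(nat_lit 2), (nat_lit 2), (nat_lit 2),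 (nat_lit 2)], (nat_lit 9), (nat_lit 0), (nat_lit 0), (nat_lit 3)⟩)))) (BT.node (nat_lit 26) (BT.node (nat_lit 24) (BT.node (nat_lit 23) (BT.leaf ⟨[(nat_lit 3), (nat_lit 2), (nat_lit 2), (nat_lit 3)], (nat_lit 10), (nat_lit 1), (nat_lit 0), (nat_lit 3)⟩) (BT.leaf ⟨[(nat_lit 3), (nat_lit 1), (nat_lit 3), (nat_lit 2), (nat_lit 2), (nat_lit 1), (nat_lit 3), (nat_lit 1)], (nat_lit 3), (nat_lit 3), (nat_lit 0), (nat_lit 3)⟩)) (BT.node (nat_lit 25) (BT.leaf ⟨[(nat_lit 3), (nat_lit 1), (nat_lit 3), (nat_lit 1), (nat_lit 3), (nat_lit 2), (nat_lit 2), (nat_lit 1)], (nat_lit 3), (nat_lit 1), (nat_lit 0), (nat_lit 3)⟩) (BT.leaf ⟨[(nat_lit 4), (nat_lit 2), (nat_lit 4), (nat_lit 2), (nat_lit 1), (nat_lit 1), (nat_lit 4), (nat_lit 2)], (nat_lit 12), (nat_lit 4), (nat_lit 0), (nat_lit 3)⟩))) (BT.node (nat_lit 28) (BT.node (nat_lit 27) (BT.leaf ⟨[(nat_lit 6), (nat_lit 4), (nat_lit 6), (nat_lit 4), (nat_lit 1), (nat_lit 1), (nat_lit 6),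 (nat_lit 4)], (nat_lit 13), (nat_lit 4), (nat_lit 0), (nat_lit 3)⟩) (BT.leaf ⟨[(nat_lit 6), (nat_lit 2), (nat_lit 1), (nat_lit 1), (nat_lit 6), (nat_lit 2)], (nat_lit 14), (nat_lit 4), (nat_lit 0), (nat_lit 3)⟩)) (BT.node (nat_lit 29) (BT.leaf ⟨[(nat_lit 6), (nat_lit 2), (nat_lit 6), (nat_lit 2), (nat_lit 1), (nat_lit 1)], (nat_lit 14), (nat_lit 2), (nat_lit 0), (nat_lit 3)⟩) (BT.leaf ⟨[(nat_lit 4), (nat_lit 6), (nat_lit 4), (nat_lit 1), (nat_lit 1), (nat_lit 6), (nat_lit 4), (nat_lit 6)], (nat_lit 13), (nat_lit 5), (nat_lit 0), (nat_lit 3)⟩))))))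
noncomputable def spO48_hcs : List CW := []
noncomputable def spO48_H (x j : Nat) : Bx (Nat → Nat → Nat) := mkH spO48_L spO48_pb.1 spO48_e.get (lmap CW.w spO48_hcs) (nat_lit 48) (nat_lit 49) (nat_lit 7) (nat_lit 64) (nat_lit 2048) (nat_lit 4095) x (spO48_rots.get j)
noncomputable def spO48_F (x b : Nat) : Bool := blkOK spO48_H spO48_ch (nat_lit 49) (nat_lit 64) (nat_lit 32) (nat_lit 8) (nat_lit 255) (nat_lit 16) (nat_lit 65535) x b

theorem spO48_k0_0 : allFrom (spO48_F (nat_lit 0)) (nat_lit 0) (nat_lit 4) = true := by decide +kernel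
theorem spO48_k1_0 : allFrom (spO48_F (nat_lit 1)) (nat_lit 0) (nat_lit 4) = true := by decide +kernel
theorem spO48_k2_0 : allFrom (spO48_F (nat_lit 2)) (nat_lit 0) (nat_lit 4) = true := by decide +kernel
theorem spO48_k3_0 : allFrom (spO48_F (nat_lit 3)) (nat_lit 0) (nat_lit 4) = true := by decide +kernel
theorem spO48_k4_0 : allFrom (spO48_F (nat_lit 4)) (nat_lit 0) (nat_lit 4) = true := by decide +kernel
theorem spO48_k5_0 : allFrom (spO48_F (nat_lit 5)) (nat_lit 0) (nat_lit 4) = true := by decide +kernel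
theorem spO48_k6_0 : allFrom (spO48_F (nat_lit 6)) (nat_lit 0) (nat_lit 4) = true := by decide +kernel
theorem spO48_all : Cov spO48_F 4 7 0 := by
  have h := Cov.zero spO48_F 4
  have h := h.blk (b := 4) spO48_k0_0 rfl
  have h := h.next (y := 1) rfl rfl
  have h := h.blk (b := 4) spO48_k1_0 rfl
  have h := h.next (y := 2) rfl rfl
  have h := h.blk (b := 4) spO48_k2_0 rfl
  have h := h.next (y := 3) rfl rfl
  have h := h.blk (b := 4) spO48_k3_0 rfl
  have h := h.next (y := 4) rfl rfl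
  have h := h.blk (b := 4) spO48_k4_0 rfl
  have h := h.next (y := 5) rfl rfl
  have h := h.blk (b := 4) spO48_k5_0 rfl
  have h := h.next (y := 6) rfl rfl
  have h := h.blk (b := 4) spO48_k6_0 rfl
  have h := h.next (y := 7) rfl rfl
  exact h

theorem spO48 : Enum RO48 [] GO48 48 :=
  ⟨spO48_cols, spO48_ch, spO48_L, spO48_H, spO48_pb.1, spO48_e.get, [(nat_lit 0), (nat_lit 1), (nat_lit 2), (nat_lit 3), (nat_lit 4), (nat_lit 5), (nat_lit 6)], (nat_lit 0), (nat_lit 3), spO48_rots, spO48_hcs,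
    (nat_lit 49), (nat_lit 7), (nat_lit 64), (nat_lit 32), (nat_lit 2048), (nat_lit 4095), (nat_lit 8), (nat_lit 255), (nat_lit 16), (nat_lit 65535), (nat_lit 1), (nat_lit 4),
    fun _ _ => rfl, fun _ => rfl, fun _ _ => rfl, by decide +kernel, spO48_all.1⟩
theorem pO48 : TO48.Pres RO48 GO48 :=
  ⟨CT.ok_spec (by decide +kernel), lall_iff.1 (by decide +kernel), by decide +kernel, by decide +kernel,
    by decide +kernel, spO48.bound (ug_rels _) (bound_nil _)⟩

instance gO48 : TO48.Grp := pO48.grp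

noncomputable def FO48 (c : Nat) : Nat := Nat.land (Nat.shiftRight (nat_lit 0x761c491cc1c185943a582b3ac13ab285002b3a67867942b5) (Nat.mul (nat_lit 4) c)) (nat_lit 15)

theorem mO48 : ∀ k ∈ [2, 3], ∀ h : El TO48, El.pw h k = 1 → h ≠ 1 → ∀ x, sumF FO48 h k x % 13 = 0 := by
  decide +kernel

instance nO48 : Nontrivial (Fn (ZMod 13) (SR (H := El TO48) [2, 3])) :=
  tab_nontrivial (tab_mem mO48) (by decide +kernel)

theorem sO48 : Sp (Aff (Fn (ZMod 13) (SR (H := El TO48) [2, 3])) (El TO48)) [6, 8, 13] :=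
  sp_tab (by norm_num) mO48 (by decide +kernel) (by decide +kernel)

noncomputable def RM24 : List (List Nat) := [[(nat_lit 1), (nat_lit 1), (nat_lit 1)],
  [(nat_lit 3), (nat_lit 3), (nat_lit 3), (nat_lit 3), (nat_lit 3), (nat_lit 3), (nat_lit 3), (nat_lit 3)],
  [(nat_lit 3), (nat_lit 1), (nat_lit 4), (nat_lit 1)]]
noncomputable def GM24 : List (List Nat) := [[(nat_lit 1)],
  [(nat_lit 3)]]
noncomputable def TM24_c0 : BT (Bx Nat) := (BT.leaf (Bx.mk (nat_lit 0xb5eb3a464f82d8d72547414c320440)))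
noncomputable def TM24_c1 : BT (Bx Nat) := (BT.leaf (Bx.mk (nat_lit 0xaded28c1f49a92e6b1662906838041)))
noncomputable def TM24_c2 : BT (Bx Nat) := (BT.leaf (Bx.mk (nat_lit 0xb56f07d2728b16a4b9a41a0e628402)))
noncomputable def TM24_c3 : BT (Bx Nat) := (BT.leaf (Bx.mk (nat_lit 0xa4a0ebb2caaa266891e26856049ca3)))
noncomputable def TM24_c4 : BT (Bx Nat) := (BT.leaf (Bx.mk (nat_lit 0x9c5f76d9754d0f22c06e1302a020c4)))
noncomputable def TM24_w : BT (Bx Nat) := (BT.leaf (Bx.mk (nat_lit 0x333323333103333044420333204441033310044400333004420033200441003310004400033000420003200041000310000400003000020000100000)))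
noncomputable def TM24_cols : List (BT (Bx Nat)) := [TM24_c0, TM24_c1, TM24_c2, TM24_c3, TM24_c4]
noncomputable def TM24_ch (x j : Nat) : Bx Nat := chk TM24_cols x j
noncomputable def TM24_wc (_ j : Nat) : Bx Nat := TM24_w.get j
noncomputable def TM24 : CT := ⟨(nat_lit 24), (nat_lit 5), (nat_lit 31), TM24_ch, (nat_lit 20), (nat_lit 1048575), TM24_wc, (nat_lit 30)⟩
noncomputable def spM24_c0 : BT (Bx Nat) := (BT.leaf (Bx.mk (nat_lit 0x0)))
noncomputable def spM24_c1 : BT (Bx Nat) := (BT.leaf (Bx.mk (nat_lit 0xcb62461157444d11252c54b064d595472adcaa643d90e84b614c629d8a6949654482a60a8a286503b088000)))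
noncomputable def spM24_c2 : BT (Bx Nat) := (BT.leaf (Bx.mk (nat_lit 0x497325917852454903254c94664d972523548c722dc8a863e16e961656476a5da8821e086820a881b08c000)))
noncomputable def spM24_c3 : BT (Bx Nat) := (BT.leaf (Bx.mk (nat_lit 0x4f513ce5d1a3bec38a3b6c37a3aec36a3a6c34a39ec32a396c30a38ec2ea38ac2ca386c2ab0a2c26b090000)))
noncomputable def spM24_c4 : BT (Bx Nat) := (BT.leaf (Bx.mk (nat_lit 0x28d4a34a8d027e28ce285e8cc835a8cab0d68c8b0ce8c6b0c68c4b0be8c3b0b68c2b0ae8c1b0a6c27b094000)))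
noncomputable def spM24_p : BT (Bx Nat) := (BT.leaf (Bx.mk (nat_lit 0x2d03b20e4038f123838d123036b11a836911a036711983451110343110c34211083211084321088410000000)))
noncomputable def spM24_e : BT Nat := BT.leaf (nat_lit 0)
noncomputable def spM24_cols : List (BT (Bx Nat)) := [spM24_c0, spM24_c1, spM24_c2, spM24_c3, spM24_c4]
noncomputable def spM24_ch (x j : Nat) : Bx Nat := chunkG spM24_cols (nat_lit 1) x j
noncomputable def spM24_L (x : Nat) : Bx (Nat → Nat) := lookG spM24_ch (nat_lit 8) (nat_lit 255) (nat_lit 14) (nat_lit 16383) x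
noncomputable def spM24_pc (_ j : Nat) : Bx Nat := spM24_p.get j
noncomputable def spM24_pb : Bx (Nat → Nat) := lookG spM24_pc (nat_lit 8) (nat_lit 255) (nat_lit 14) (nat_lit 16383) (nat_lit 0)
noncomputable def spM24_rots : BT CW := (BT.node (nat_lit 8) (BT.node (nat_lit 4) (BT.node (nat_lit 2) (BT.node (nat_lit 1) (BT.leaf ⟨[], (nat_lit 1000000), (nat_lit 0), (nat_lit 0), (nat_lit 0)⟩) (BT.leaf ⟨[], (nat_lit 1000000), (nat_lit 0), (nat_lit 0), (nat_lit 1)⟩)) (BT.node (nat_lit 3) (BT.leaf ⟨[], (nat_lit 1000000), (nat_lit 0), (nat_lit 0), (nat_lit 2)⟩) (BT.leaf ⟨[(nat_lit 2), (nat_lit 1)], (nat_lit 4), (nat_lit 1), (nat_lit 0), (nat_lit 3)⟩))) (BT.node (nat_lit 6) (BT.node (nat_lit 5) (BT.leaf ⟨[(nat_lit 1), (nat_lit 2)], (nat_lit 4), (nat_lit 0), (nat_lit 0), (nat_lit 3)⟩) (BT.leaf ⟨[(nat_lit 4), (nat_lit 3)], (nat_lit 3), (nat_lit 1), (nat_lit 0), (nat_lit 3)⟩)) (BT.node (nat_lit 7) (BT.leaf ⟨[(nat_lit 3), (nat_lit 4)],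 (nat_lit 3), (nat_lit 0), (nat_lit 0), (nat_lit 3)⟩) (BT.leaf ⟨[(nat_lit 1), (nat_lit 1), (nat_lit 1)], (nat_lit 0), (nat_lit 0), (nat_lit 0), (nat_lit 3)⟩)))) (BT.node (nat_lit 12) (BT.node (nat_lit 10) (BT.node (nat_lit 9) (BT.leaf ⟨[(nat_lit 1), (nat_lit 3), (nat_lit 1), (nat_lit 4)], (nat_lit 2), (nat_lit 3), (nat_lit 0), (nat_lit 3)⟩) (BT.leaf ⟨[(nat_lit 1), (nat_lit 4), (nat_lit 1), (nat_lit 3)], (nat_lit 2), (nat_lit 1), (nat_lit 0), (nat_lit 3)⟩)) (BT.node (nat_lit 11) (BT.leaf ⟨[(nat_lit 2), (nat_lit 4), (nat_lit 2), (nat_lit 3)], (nat_lit 7), (nat_lit 2), (nat_lit 0), (nat_lit 3)⟩) (BT.leaf ⟨[(nat_lit 2), (nat_lit 3), (nat_lit 2), (nat_lit 4)], (nat_lit 7), (nat_lit 0), (nat_lit 0), (nat_lit 3)⟩))) (BT.node (nat_lit 14) (BT.node (nat_lit 13) (BT.leaf ⟨[(nat_lit 2), (nat_lit 2), (nat_lit 2)], (nat_lit 5), (nat_lit 0), (nat_lit 0), (nat_lit 3)⟩) (BT.leaf ⟨[(nat_lit 3), (nat_lit 3), (nat_lit 3), (nat_lit 3), (nat_lit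 3), (nat_lit 3), (nat_lit 3), (nat_lit 3)], (nat_lit 1), (nat_lit 0), (nat_lit 0), (nat_lit 3)⟩)) (BT.node (nat_lit 15) (BT.leaf ⟨[(nat_lit 4), (nat_lit 1), (nat_lit 3), (nat_lit 1)], (nat_lit 2), (nat_lit 2), (nat_lit 0), (nat_lit 3)⟩) (BT.leaf ⟨[(nat_lit 4), (nat_lit 2), (nat_lit 3), (nat_lit 2)], (nat_lit 7), (nat_lit 3), (nat_lit 0), (nat_lit 3)⟩)))))
noncomputable def spM24_hcs : List CW := []
noncomputable def spM24_H (x j : Nat) : Bx (Nat → Nat → Nat) := mkH spM24_L spM24_pb.1 spM24_e.get (lmap CW.w spM24_hcs) (nat_lit 24) (nat_lit 25) (nat_lit 5) (nat_lit 32) (nat_lit 1024) (nat_lit 2047) x (spM24_rots.get j)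
noncomputable def spM24_F (x b : Nat) : Bool := blkOK spM24_H spM24_ch (nat_lit 25) (nat_lit 32) (nat_lit 32) (nat_lit 8) (nat_lit 255) (nat_lit 14) (nat_lit 16383) x b

theorem spM24_k0_0 : allFrom (spM24_F (nat_lit 0)) (nat_lit 0) (nat_lit 4) = true := by decide +kernel
theorem spM24_k1_0 : allFrom (spM24_F (nat_lit 1)) (nat_lit 0) (nat_lit 4) = true := by decide +kernel
theorem spM24_k2_0 : allFrom (spM24_F (nat_lit 2)) (nat_lit 0) (nat_lit 4) = true := by decide +kernel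
theorem spM24_k3_0 : allFrom (spM24_F (nat_lit 3)) (nat_lit 0) (nat_lit 4) = true := by decide +kernel
theorem spM24_k4_0 : allFrom (spM24_F (nat_lit 4)) (nat_lit 0) (nat_lit 4) = true := by decide +kernel
theorem spM24_all : Cov spM24_F 4 5 0 := by
  have h := Cov.zero spM24_F 4
  have h := h.blk (b := 4) spM24_k0_0 rfl
  have h := h.next (y := 1) rfl rfl
  have h := h.blk (b := 4) spM24_k1_0 rfl
  have h := h.next (y := 2) rfl rfl
  have h := h.blk (b := 4) spM24_k2_0 rfl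
  have h := h.next (y := 3) rfl rfl
  have h := h.blk (b := 4) spM24_k3_0 rfl
  have h := h.next (y := 4) rfl rfl
  have h := h.blk (b := 4) spM24_k4_0 rfl
  have h := h.next (y := 5) rfl rfl
  exact h

theorem spM24 : Enum RM24 [] GM24 24 :=
  ⟨spM24_cols, spM24_ch, spM24_L, spM24_H, spM24_pb.1, spM24_e.get, [(nat_lit 0), (nat_lit 1), (nat_lit 2), (nat_lit 3), (nat_lit 4)], (nat_lit 0), (nat_lit 2), spM24_rots, spM24_hcs,
    (nat_lit 25), (nat_lit 5), (nat_lit 32), (nat_lit 32), (nat_lit 1024), (nat_lit 2047), (nat_lit 8), (nat_lit 255), (nat_lit 14), (nat_lit 16383), (nat_lit 1), (nat_lit 4),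
    fun _ _ => rfl, fun _ => rfl, fun _ _ => rfl, by decide +kernel, spM24_all.1⟩
theorem pM24 : TM24.Pres RM24 GM24 :=
  ⟨CT.ok_spec (by decide +kernel), lall_iff.1 (by decide +kernel), by decide +kernel, by decide +kernel,
    by decide +kernel, spM24.bound (ug_rels _) (bound_nil _)⟩

instance gM24 : TM24.Grp := pM24.grp

noncomputable def FM24 (c : Nat) : Nat := Nat.land (Nat.shiftRight (nat_lit 0xa8db1519ca904dc2a) (Nat.mul (nat_lit 3) c)) (nat_lit 7)

theorem mM24 : ∀ k ∈ [2, 3], ∀ h : El TM24, El.pw h k = 1 → h ≠ 1 → ∀ x, sumF FM24 h k x % 7 = 0 := by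
  decide +kernel

instance nM24 : Nontrivial (Fn (ZMod 7) (SR (H := El TM24) [2, 3])) :=
  tab_nontrivial (tab_mem mM24) (by decide +kernel)

theorem sM24 : Sp (Aff (Fn (ZMod 7) (SR (H := El TM24) [2, 3])) (El TM24)) [7, 8, 12] :=
  sp_tab (by norm_num) mM24 (by decide +kernel) (by decide +kernel)

noncomputable def RM40 : List (List Nat) := [[(nat_lit 1), (nat_lit 1), (nat_lit 1), (nat_lit 1), (nat_lit 1)],
  [(nat_lit 3), (nat_lit 3), (nat_lit 3), (nat_lit 3), (nat_lit 3), (nat_lit 3), (nat_lit 3), (nat_lit 3)],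
  [(nat_lit 3), (nat_lit 1), (nat_lit 4), (nat_lit 2), (nat_lit 2)]]
noncomputable def GM40 : List (List Nat) := [[(nat_lit 1)],
  [(nat_lit 3)]]
noncomputable def TM40_c0 : BT (Bx Nat) := (BT.leaf (Bx.mk (nat_lit 0x9a792575b85e7208df89755669865351148d18940728b38530f203101080)))
noncomputable def TM40_c1 : BT (Bx Nat) := (BT.leaf (Bx.mk (nat_lit 0x96786679a91b5dc7e27634998154585903541074c324f18228c20e2c0141)))
noncomputable def TM40_c2 : BT (Bx Nat) := (BT.leaf (Bx.mk (nat_lit 0x9a49e169c9577636de8226147d35903595522844460c72c538904f308002)))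
noncomputable def TM40_c3 : BT (Bx Nat) := (BT.leaf (Bx.mk (nat_lit 0x8a379c6586a79949529103ce8607ca7476c41485d65424cc0512c0349183)))
noncomputable def TM40_c4 : BT (Bx Nat) := (BT.leaf (Bx.mk (nat_lit 0x81f75b9a75d65654e44618e234c2de25c19a6580c815408e4813d000a1c4)))
noncomputable def TM40_w : BT (Bx Nat) := (BT.leaf (Bx.mk (nat_lit 0x33323333133333233331044240441403333033230331304442033320444103331004440042400414003330032300313004420033200441003310004400024000140003300023000130004200032000220004100031000110000400003000020000100000)))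
noncomputable def TM40_cols : List (BT (Bx Nat)) := [TM40_c0, TM40_c1, TM40_c2, TM40_c3, TM40_c4]
noncomputable def TM40_ch (x j : Nat) : Bx Nat := chk TM40_cols x j
noncomputable def TM40_wc (_ j : Nat) : Bx Nat := TM40_w.get j
noncomputable def TM40 : CT := ⟨(nat_lit 40), (nat_lit 6), (nat_lit 63), TM40_ch, (nat_lit 20), (nat_lit 1048575), TM40_wc, (nat_lit 30)⟩
noncomputable def spM40_c0 : BT (Bx Nat) := (BT.leaf (Bx.mk (nat_lit 0x0)))
noncomputable def spM40_c1 : BT (Bx Nat) := (BT.leaf (Bx.mk (nat_lit 0x316643a8316243a7339f1b5b43a5415c4158339d53a01363539e31642153195a53a169565152115963971951638e21557945694851547944638a735069477943620b614d7209804f804c7941804680420000)))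
noncomputable def spM40_c2 : BT (Bx Nat) := (BT.leaf (Bx.mk (nat_lit 0x392739253ae839223adb091d3ae64918491e2924491c291f4ae1112324191c554ae0591472d72ad15ace2ada5ad62253690b790559126ac779045908590c6906724f72ca79028050804d8049790180430000)))
noncomputable def spM40_c3 : BT (Bx Nat) := (BT.leaf (Bx.mk (nat_lit 0x132353e473df73dd79da79d973db8068806779d5806679d3806579d179d079cf80628061806079cb805e79c8805c79c55a86530980588057805679c38054730d79c28052728c79c1804e804a804780440000)))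
noncomputable def spM40_c4 : BT (Bx Nat) := (BT.leaf (Bx.mk (nat_lit 0x79a179a0799e799c49a709a879987997799669a6799469a5799269a280648063798e798d798c805f798a805d7987805b805a805979846989698680557983498f80537982519080517981804b804880450000)))
noncomputable def spM40_p : BT (Bx Nat) := (BT.leaf (Bx.mk (nat_lit 0x5843b0075e0eb81c6848c89180e2e1c5838a89140e26244836888d0119e233836686cc0d96232836408c70d0a221424282840d08121014188830d0612084410682048221043208441040000000)))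
noncomputable def spM40_e : BT Nat := BT.leaf (nat_lit 0)
noncomputable def spM40_cols : List (BT (Bx Nat)) := [spM40_c0, spM40_c1, spM40_c2, spM40_c3, spM40_c4]
noncomputable def spM40_ch (x j : Nat) : Bx Nat := chunkG spM40_cols (nat_lit 1) x j
noncomputable def spM40_L (x : Nat) : Bx (Nat → Nat) := lookG spM40_ch (nat_lit 8) (nat_lit 255) (nat_lit 16) (nat_lit 65535) x
noncomputable def spM40_pc (_ j : Nat) : Bx Nat := spM40_p.get j
noncomputable def spM40_pb : Bx (Nat → Nat) := lookG spM40_pc (nat_lit 8) (nat_lit 255) (nat_lit 15) (nat_lit 32767) (nat_lit 0)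
noncomputable def spM40_rots : BT CW := (BT.node (nat_lit 8) (BT.node (nat_lit 4) (BT.node (nat_lit 2) (BT.node (nat_lit 1) (BT.leaf ⟨[], (nat_lit 1000000), (nat_lit 0), (nat_lit 0), (nat_lit 0)⟩) (BT.leaf ⟨[], (nat_lit 1000000), (nat_lit 0), (nat_lit 0), (nat_lit 1)⟩)) (BT.node (nat_lit 3) (BT.leaf ⟨[], (nat_lit 1000000), (nat_lit 0), (nat_lit 0), (nat_lit 2)⟩) (BT.leaf ⟨[(nat_lit 2), (nat_lit 1)], (nat_lit 4), (nat_lit 1), (nat_lit 0), (nat_lit 3)⟩))) (BT.node (nat_lit 6) (BT.node (nat_lit 5) (BT.leaf ⟨[(nat_lit 1), (nat_lit 2)], (nat_lit 4), (nat_lit 0), (nat_lit 0), (nat_lit 3)⟩) (BT.leaf ⟨[(nat_lit 4), (nat_lit 3)], (nat_lit 3), (nat_lit 1), (nat_lit 0), (nat_lit 3)⟩)) (BT.node (nat_lit 7) (BT.leaf ⟨[(nat_lit 3), (nat_lit 4)], (nat_lit 3), (nat_lit 0), (nat_lit 0), (nat_lit 3)⟩) (BT.leaf ⟨[(nat_lit 1), (nat_lit 1), (nat_lit 1), (nat_lit 1), (nat_lit 1)], (nat_lit 0), (nat_lit 0), (nat_lit 0), (nat_lit 3)⟩)))) (BT.node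 (nat_lit 12) (BT.node (nat_lit 10) (BT.node (nat_lit 9) (BT.leaf ⟨[(nat_lit 2), (nat_lit 2), (nat_lit 3), (nat_lit 1), (nat_lit 4)], (nat_lit 2), (nat_lit 3), (nat_lit 0), (nat_lit 3)⟩) (BT.leaf ⟨[(nat_lit 3), (nat_lit 2), (nat_lit 4), (nat_lit 1), (nat_lit 1)], (nat_lit 7), (nat_lit 2), (nat_lit 0), (nat_lit 3)⟩)) (BT.node (nat_lit 11) (BT.leaf ⟨[(nat_lit 2), (nat_lit 4), (nat_lit 1), (nat_lit 1), (nat_lit 3)], (nat_lit 7), (nat_lit 3), (nat_lit 0), (nat_lit 3)⟩) (BT.leaf ⟨[(nat_lit 3), (nat_lit 1), (nat_lit 4), (nat_lit 2), (nat_lit 2)], (nat_lit 2), (nat_lit 0), (nat_lit 0), (nat_lit 3)⟩))) (BT.node (nat_lit 14) (BT.node (nat_lit 13) (BT.leaf ⟨[(nat_lit 1), (nat_lit 1), (nat_lit 3), (nat_lit 2), (nat_lit 4)], (nat_lit 7), (nat_lit 0), (nat_lit 0), (nat_lit 3)⟩) (BT.leaf ⟨[(nat_lit 1), (nat_lit 4), (nat_lit 2), (nat_lit 2), (nat_lit 3)], (nat_lit 2), (nat_lit 1), (nat_lit 0), (nat_lit 3)⟩)) (BT.node (nat_lit 15) (BT.leaf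 ⟨[(nat_lit 3), (nat_lit 3), (nat_lit 3), (nat_lit 3), (nat_lit 3), (nat_lit 3), (nat_lit 3), (nat_lit 3)], (nat_lit 1), (nat_lit 0), (nat_lit 0), (nat_lit 3)⟩) (BT.node (nat_lit 16) (BT.leaf ⟨[(nat_lit 2), (nat_lit 3), (nat_lit 1), (nat_lit 4), (nat_lit 2)], (nat_lit 2), (nat_lit 4), (nat_lit 0), (nat_lit 3)⟩) (BT.leaf ⟨[(nat_lit 2), (nat_lit 2), (nat_lit 2), (nat_lit 2), (nat_lit 2)], (nat_lit 5), (nat_lit 0), (nat_lit 0), (nat_lit 3)⟩))))))
noncomputable def spM40_hcs : List CW := []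
noncomputable def spM40_H (x j : Nat) : Bx (Nat → Nat → Nat) := mkH spM40_L spM40_pb.1 spM40_e.get (lmap CW.w spM40_hcs) (nat_lit 40) (nat_lit 41) (nat_lit 5) (nat_lit 64) (nat_lit 2048) (nat_lit 4095) x (spM40_rots.get j)
noncomputable def spM40_F (x b : Nat) : Bool := blkOK spM40_H spM40_ch (nat_lit 41) (nat_lit 64) (nat_lit 32) (nat_lit 8) (nat_lit 255) (nat_lit 16) (nat_lit 65535) x b

theorem spM40_k0_0 : allFrom (spM40_F (nat_lit 0)) (nat_lit 0) (nat_lit 4) = true := by decide +kernel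
theorem spM40_k1_0 : allFrom (spM40_F (nat_lit 1)) (nat_lit 0) (nat_lit 4) = true := by decide +kernel
theorem spM40_k2_0 : allFrom (spM40_F (nat_lit 2)) (nat_lit 0) (nat_lit 4) = true := by decide +kernel
theorem spM40_k3_0 : allFrom (spM40_F (nat_lit 3)) (nat_lit 0) (nat_lit 4) = true := by decide +kernel
theorem spM40_k4_0 : allFrom (spM40_F (nat_lit 4)) (nat_lit 0) (nat_lit 4) = true := by decide +kernel
theorem spM40_all : Cov spM40_F 4 5 0 := by
  have h := Cov.zero spM40_F 4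
  have h := h.blk (b := 4) spM40_k0_0 rfl
  have h := h.next (y := 1) rfl rfl
  have h := h.blk (b := 4) spM40_k1_0 rfl
  have h := h.next (y := 2) rfl rfl
  have h := h.blk (b := 4) spM40_k2_0 rfl
  have h := h.next (y := 3) rfl rfl
  have h := h.blk (b := 4) spM40_k3_0 rfl
  have h := h.next (y := 4) rfl rfl
  have h := h.blk (b := 4) spM40_k4_0 rfl
  have h := h.next (y := 5) rfl rfl
  exact h

theorem spM40 : Enum RM40 [] GM40 40 :=
  ⟨spM40_cols, spM40_ch, spM40_L, spM40_H, spM40_pb.1, spM40_e.get, [(nat_lit 0), (nat_lit 1), (nat_lit 2), (nat_lit 3), (nat_lit 4)], (nat_lit 0), (nat_lit 2), spM40_rots, spM40_hcs,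
    (nat_lit 41), (nat_lit 5), (nat_lit 64), (nat_lit 32), (nat_lit 2048), (nat_lit 4095), (nat_lit 8), (nat_lit 255), (nat_lit 16), (nat_lit 65535), (nat_lit 1), (nat_lit 4),
    fun _ _ => rfl, fun _ => rfl, fun _ _ => rfl, by decide +kernel, spM40_all.1⟩
theorem pM40 : TM40.Pres RM40 GM40 :=
  ⟨CT.ok_spec (by decide +kernel), lall_iff.1 (by decide +kernel), by decide +kernel, by decide +kernel,
    by decide +kernel, spM40.bound (ug_rels _) (bound_nil _)⟩

instance gM40 : TM40.Grp := pM40.grp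

noncomputable def FM40 (c : Nat) : Nat := Nat.land (Nat.shiftRight (nat_lit 0x28092266582528049651) (Nat.mul (nat_lit 2) c)) (nat_lit 3)

theorem mM40 : ∀ k ∈ [2, 5], ∀ h : El TM40, El.pw h k = 1 → h ≠ 1 → ∀ x, sumF FM40 h k x % 3 = 0 := by
  decide +kernel

instance nM40 : Nontrivial (Fn (ZMod 3) (SR (H := El TM40) [2, 5])) :=
  tab_nontrivial (tab_mem mM40) (by decide +kernel)

theorem sM40 : Sp (Aff (Fn (ZMod 3) (SR (H := El TM40) [2, 5])) (El TM40)) [3, 8, 10] :=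
  sp_tab (by norm_num) mM40 (by decide +kernel) (by decide +kernel)


end CF.Spec
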