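import Cfsg.Agent.Spec.D43D

set_option autoImplicit false
set_option maxRecDepth 1000000
set_option maxHeartbeats 0
set_option Elab.async false

namespace CF.Spec.D43

open CF.Comp CF.Bt CF.Schur.Pc Cfsg Cfsg.Lie

theorem t3a : transOK (lapp N N2) C3a S3a = true := by decide +kernel
theorem e3a_0 : allFrom (enumB 24 (lapp M M2) (killB 24 270824414 30) C3a S3a) 0 42 = true := by decide +kernel
theorem e3a_42 : allFrom (enumB 24 (lapp M M2) (killB 24 270824414 30) C3a S3a) 42 42 = true := by decide +kernel
theorem e3a_84 : allFrom (enumB 24 (lapp M M2) (killB 24 270824414 30) C3a S3a) 84 42 = true := by decide +kernel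
theorem e3a_126 : allFrom (enumB 24 (lapp M M2) (killB 24 270824414 30) C3a S3a) 126 42 = true := by decide +kernel
theorem e3a_168 : allFrom (enumB 24 (lapp M M2) (killB 24 270824414 30) C3a S3a) 168 42 = true := by decide +kernel
theorem e3a_210 : allFrom (enumB 24 (lapp M M2) (killB 24 270824414 30) C3a S3a) 210 6 = true := by decide +kernel
theorem e3a : ∀ j < 216, enumB 24 (lapp M M2) (killB 24 270824414 30) C3a S3a j = true := by
  have h : ∀ j < 0, enumB 24 (lapp M M2) (killB 24 270824414 30) C3a S3a j = true := by simp
  have h := forall_lt_add h (allFrom_iff.1 e3a_0)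
  have h := forall_lt_add h (allFrom_iff.1 e3a_42)
  have h := forall_lt_add h (allFrom_iff.1 e3a_84)
  have h := forall_lt_add h (allFrom_iff.1 e3a_126)
  have h := forall_lt_add h (allFrom_iff.1 e3a_168)
  have h := forall_lt_add h (allFrom_iff.1 e3a_210)
  exact h
theorem t3b : transOK (lapp N N2) C3b S3b = true := by decide +kernel
theorem e3b_0 : allFrom (enumB 24 (lapp M M2) (killB 24 270824414 30) C3b S3b) 0 100 = true := by decide +kernel
theorem e3b_100 : allFrom (enumB 24 (lapp M M2) (killB 24 270824414 30) C3b S3b) 100 100 = true := by decide +kernel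
theorem e3b_200 : allFrom (enumB 24 (lapp M M2) (killB 24 270824414 30) C3b S3b) 200 16 = true := by decide +kernel
theorem e3b : ∀ j < 216, enumB 24 (lapp M M2) (killB 24 270824414 30) C3b S3b j = true := by
  have h : ∀ j < 0, enumB 24 (lapp M M2) (killB 24 270824414 30) C3b S3b j = true := by simp
  have h := forall_lt_add h (allFrom_iff.1 e3b_0)
  have h := forall_lt_add h (allFrom_iff.1 e3b_100)
  have h := forall_lt_add h (allFrom_iff.1 e3b_200)
  exact h
theorem t7a : transOK (lapp N N2) C7a S7a = true := by decide +kernel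
theorem e7a_0 : allFrom (enumB 24 (lapp M M2) (killB 24 270824414 30) C7a S7a) 0 42 = true := by decide +kernel
theorem e7a_42 : allFrom (enumB 24 (lapp M M2) (killB 24 270824414 30) C7a S7a) 42 42 = true := by decide +kernel
theorem e7a_84 : allFrom (enumB 24 (lapp M M2) (killB 24 270824414 30) C7a S7a) 84 42 = true := by decide +kernel
theorem e7a_126 : allFrom (enumB 24 (lapp M M2) (killB 24 270824414 30) C7a S7a) 126 42 = true := by decide +kernel
theorem e7a : ∀ j < 168, enumB 24 (lapp M M2) (killB 24 270824414 30) C7a S7a j = true := by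
  have h : ∀ j < 0, enumB 24 (lapp M M2) (killB 24 270824414 30) C7a S7a j = true := by simp
  have h := forall_lt_add h (allFrom_iff.1 e7a_0)
  have h := forall_lt_add h (allFrom_iff.1 e7a_42)
  have h := forall_lt_add h (allFrom_iff.1 e7a_84)
  have h := forall_lt_add h (allFrom_iff.1 e7a_126)
  exact h
theorem t7d : transOK (lapp N N2) C7d S7d = true := by decide +kernel
theorem e7d_0 : allFrom (enumB 24 (lapp M M2) (killB 24 270824414 30) C7d S7d) 0 49 = true := by decide +kernel
theorem e7d : ∀ j < 49, enumB 24 (lapp M M2) (killB 24 270824414 30) C7d S7d j = true := by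
  have h : ∀ j < 0, enumB 24 (lapp M M2) (killB 24 270824414 30) C7d S7d j = true := by simp
  have h := forall_lt_add h (allFrom_iff.1 e7d_0)
  exact h
theorem t2 : transOK (lapp N N2) C2 S2 = true := by decide +kernel
theorem e2_0 : allFrom (enumB 24 (lapp M M2) (killB 24 270824414 30) C2 S2) 0 37 = true := by decide +kernel
theorem e2_37 : allFrom (enumB 24 (lapp M M2) (killB 24 270824414 30) C2 S2) 37 37 = true := by decide +kernel
theorem e2_74 : allFrom (enumB 24 (lapp M M2) (killB 24 270824414 30) C2 S2) 74 37 = true := by decide +kernel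
theorem e2_111 : allFrom (enumB 24 (lapp M M2) (killB 24 270824414 30) C2 S2) 111 37 = true := by decide +kernel
theorem e2_148 : allFrom (enumB 24 (lapp M M2) (killB 24 270824414 30) C2 S2) 148 37 = true := by decide +kernel
theorem e2_185 : allFrom (enumB 24 (lapp M M2) (killB 24 270824414 30) C2 S2) 185 37 = true := by decide +kernel
theorem e2_222 : allFrom (enumB 24 (lapp M M2) (killB 24 270824414 30) C2 S2) 222 37 = true := by decide +kernel
theorem e2_259 : allFrom (enumB 24 (lapp M M2) (killB 24 270824414 30) C2 S2) 259 37 = true := by decide +kernel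
theorem e2_296 : allFrom (enumB 24 (lapp M M2) (killB 24 270824414 30) C2 S2) 296 37 = true := by decide +kernel
theorem e2_333 : allFrom (enumB 24 (lapp M M2) (killB 24 270824414 30) C2 S2) 333 37 = true := by decide +kernel
theorem e2_370 : allFrom (enumB 24 (lapp M M2) (killB 24 270824414 30) C2 S2) 370 37 = true := by decide +kernel
theorem e2_407 : allFrom (enumB 24 (lapp M M2) (killB 24 270824414 30) C2 S2) 407 37 = true := by decide +kernel
theorem e2_444 : allFrom (enumB 24 (lapp M M2) (killB 24 270824414 30) C2 S2) 444 37 = true := by decide +kernel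
theorem e2_481 : allFrom (enumB 24 (lapp M M2) (killB 24 270824414 30) C2 S2) 481 31 = true := by decide +kernel
theorem e2 : ∀ j < 512, enumB 24 (lapp M M2) (killB 24 270824414 30) C2 S2 j = true := by
  have h : ∀ j < 0, enumB 24 (lapp M M2) (killB 24 270824414 30) C2 S2 j = true := by simp
  have h := forall_lt_add h (allFrom_iff.1 e2_0)
  have h := forall_lt_add h (allFrom_iff.1 e2_37)
  have h := forall_lt_add h (allFrom_iff.1 e2_74)
  have h := forall_lt_add h (allFrom_iff.1 e2_111)
  have h := forall_lt_add h (allFrom_iff.1 e2_148)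
  have h := forall_lt_add h (allFrom_iff.1 e2_185)
  have h := forall_lt_add h (allFrom_iff.1 e2_222)
  have h := forall_lt_add h (allFrom_iff.1 e2_259)
  have h := forall_lt_add h (allFrom_iff.1 e2_296)
  have h := forall_lt_add h (allFrom_iff.1 e2_333)
  have h := forall_lt_add h (allFrom_iff.1 e2_370)
  have h := forall_lt_add h (allFrom_iff.1 e2_407)
  have h := forall_lt_add h (allFrom_iff.1 e2_444)
  have h := forall_lt_add h (allFrom_iff.1 e2_481)
  exact h

end CF.Spec.D43
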