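import Cfsg.Agent.Spec.Mod
import Cfsg.Agent.S0280

set_option autoImplicit false
set_option maxRecDepth 1000000
set_option maxHeartbeats 0
set_option Elab.async false

namespace CF.Spec.U34

open CF.Comp CF.Bt CF.Schur.Pc Cfsg

noncomputable def T16 : Tab := tabT 16 4 (nat_lit 0x123456789abcdef1032547698badcfe23016745ab89efcd32107654ba98fedc45670123cdef89ab54761032dcfe98ba67452301efcdab8976543210fedcba9889abcdef0123456798badcfe10325476ab89efcd23016745ba98fedc32107654cdef89ab45670123dcfe98ba54761032efcdab8967452301fedcba9876543210) (nat_lit 0xa5783ce1b4692df05ba48679c23d1fe07ae36bf258c149d0843fd16a2e957bc0386d92c74f1ae5b0c6b1285f394ed7a0e7f6c5d4a3b28190192a7f4cd5e6b380bc5243ad618f9e70428ef93517dbac6063c914be8d27fa509d15ae26fb73c8402147ed8b9afc5630df9b5713eca86420fedcba98765432100000000000000000)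
noncomputable def N_0 : Net := (Net.cons (nat_lit 1) (nat_lit 0x5001545111101414) (Net.cons (nat_lit 2) (nat_lit 0x1300102111012020) (Net.cons (nat_lit 4) (nat_lit 0xa09060a00020100) (Net.cons (nat_lit 8) (nat_lit 0x71002800850001) (Net.cons (nat_lit 16) (nat_lit 0x874700000000) (Net.cons (nat_lit 64) (nat_lit 1) (Net.cons (nat_lit 32) (nat_lit 2567317089) (Net.cons (nat_lit 16) (nat_lit 0xc8a50000d231) (Net.cons (nat_lit 8) (nat_lit 0xbd001c00830021) (Net.cons (nat_lit 4) (nat_lit 0xc0b080408080e08) (Net.cons (nat_lit 2) (nat_lit 0x2213020202133320) (Net.cons (nat_lit 1) (nat_lit 0x1051450045145450) Net.nil))))))))))))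
noncomputable def N_1 : Net := (Net.cons (nat_lit 1) (nat_lit 0x454411511444140) (Net.cons (nat_lit 2) (nat_lit 0x1110122111100200) (Net.cons (nat_lit 4) (nat_lit 0x700000600000900) (Net.cons (nat_lit 8) (nat_lit 0xfe000100690001) (Net.cons (nat_lit 16) (nat_lit 0x809600000001) (Net.cons (nat_lit 32) (nat_lit 1) (Net.cons (nat_lit 64) (nat_lit 1) (Net.cons (nat_lit 32) (nat_lit 4019678721) (Net.cons (nat_lit 16) (nat_lit 0x800100006e01) (Net.cons (nat_lit 8) (nat_lit 0x90006800080081) (Net.cons (nat_lit 4) (nat_lit 0x407050907010d00) (Net.cons (nat_lit 2) (nat_lit 0x320202032301220) (Net.cons (nat_lit 1) (nat_lit 0x54550544544000) Net.nil)))))))))))))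
noncomputable def N_2 : Net := (Net.cons (nat_lit 1) (nat_lit 0x510510154441101) (Net.cons (nat_lit 2) (nat_lit 0x3003012001233101) (Net.cons (nat_lit 4) (nat_lit 0xa020c0808010100) (Net.cons (nat_lit 8) (nat_lit 0x400004002a0000) (Net.cons (nat_lit 16) (nat_lit 0x5b2900000000) (Net.cons (nat_lit 32) (nat_lit 1) (Net.cons (nat_lit 64) (nat_lit 1) (Net.cons (nat_lit 32) (nat_lit 392916179) (Net.cons (nat_lit 16) (nat_lit 0x422000086a8) (Net.cons (nat_lit 8) (nat_lit 0x6900ab008a00e1) (Net.cons (nat_lit 4) (nat_lit 0x70e0f0905050508) (Net.cons (nat_lit 2) (nat_lit 0x121222201301231) (Net.cons (nat_lit 1) (nat_lit 0x541501054041505) Net.nil)))))))))))))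
noncomputable def N_3 : Net := (Net.cons (nat_lit 1) (nat_lit 0x4000400014114005) (Net.cons (nat_lit 2) (nat_lit 0x2011000212212021) (Net.cons (nat_lit 4) (nat_lit 0xd00000a0f080500) (Net.cons (nat_lit 8) (nat_lit 0x3200c0008a0000) (Net.cons (nat_lit 16) (nat_lit 0xac3400000000) (Net.cons (nat_lit 64) (nat_lit 1) (Net.cons (nat_lit 32) (nat_lit 2764462192) (Net.cons (nat_lit 16) (nat_lit 0x5dcf000009e2) (Net.cons (nat_lit 8) (nat_lit 0x5200d4000400dc) (Net.cons (nat_lit 4) (nat_lit 0x500040107070f0a) (Net.cons (nat_lit 2) (nat_lit 0x321223331232121) (Net.cons (nat_lit 1) (nat_lit 0x4145404504114445) Net.nil))))))))))))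
noncomputable def N : List Net := [N_0, N_1, N_2, N_3]
noncomputable def R_0 : List (List Nat) := [[(nat_lit 1), (nat_lit 1), (nat_lit 1)],
  [(nat_lit 3), (nat_lit 3), (nat_lit 3), (nat_lit 3), (nat_lit 3)],
  [(nat_lit 4), (nat_lit 2), (nat_lit 3), (nat_lit 1)]]

noncomputable def R_1 : List (List Nat) := [[(nat_lit 1), (nat_lit 1), (nat_lit 1)],
  [(nat_lit 3), (nat_lit 3), (nat_lit 3), (nat_lit 3), (nat_lit 3)],
  [(nat_lit 4), (nat_lit 2), (nat_lit 3), (nat_lit 1)],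
  [(nat_lit 5), (nat_lit 5), (nat_lit 5), (nat_lit 5)],
  [(nat_lit 5), (nat_lit 5), (nat_lit 4), (nat_lit 5), (nat_lit 5), (nat_lit 3)],
  [(nat_lit 5), (nat_lit 4), (nat_lit 4), (nat_lit 5), (nat_lit 3), (nat_lit 2), (nat_lit 6), (nat_lit 3), (nat_lit 1)]]

noncomputable def rels : List (List Nat) := [[(nat_lit 1), (nat_lit 1), (nat_lit 1)],
  [(nat_lit 3), (nat_lit 3), (nat_lit 3), (nat_lit 3), (nat_lit 3)],
  [(nat_lit 4), (nat_lit 2), (nat_lit 3), (nat_lit 1)],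
  [(nat_lit 5), (nat_lit 5), (nat_lit 5), (nat_lit 5)],
  [(nat_lit 5), (nat_lit 5), (nat_lit 4), (nat_lit 5), (nat_lit 5), (nat_lit 3)],
  [(nat_lit 5), (nat_lit 4), (nat_lit 4), (nat_lit 5), (nat_lit 3), (nat_lit 2), (nat_lit 6), (nat_lit 3), (nat_lit 1)],
  [(nat_lit 7), (nat_lit 7)],
  [(nat_lit 5), (nat_lit 4), (nat_lit 7), (nat_lit 3), (nat_lit 6), (nat_lit 4), (nat_lit 4), (nat_lit 7), (nat_lit 3), (nat_lit 3)],
  [(nat_lit 7), (nat_lit 3), (nat_lit 1), (nat_lit 7), (nat_lit 6), (nat_lit 3), (nat_lit 7), (nat_lit 4), (nat_lit 5), (nat_lit 3), (nat_lit 1)],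
  [(nat_lit 6), (nat_lit 4), (nat_lit 7), (nat_lit 4), (nat_lit 1), (nat_lit 5), (nat_lit 3), (nat_lit 7), (nat_lit 6), (nat_lit 3), (nat_lit 1)],
  [(nat_lit 7), (nat_lit 3), (nat_lit 7), (nat_lit 2), (nat_lit 7), (nat_lit 5), (nat_lit 1), (nat_lit 6), (nat_lit 4), (nat_lit 4), (nat_lit 1)]]

noncomputable def e_0_c0 : BT (Bx Nat) := (BT.leaf (Bx.mk (nat_lit 0x0)))
noncomputable def e_0_c1 : BT (Bx Nat) := (BT.leaf (Bx.mk (nat_lit 0x65b65a25f48e8cd8bcac5ab4689688857856c51a83e12000)))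
noncomputable def e_0_c2 : BT (Bx Nat) := (BT.leaf (Bx.mk (nat_lit 0x4dd24c64b64a89f8ae447446a95aa4849848842c41e13000)))
noncomputable def e_0_c3 : BT (Bx Nat) := (BT.leaf (Bx.mk (nat_lit 0xc7927fc7727dc75aebc73e1ec72e1cc71e1ae18e16e14000)))
noncomputable def e_0_c4 : BT (Bx Nat) := (BT.leaf (Bx.mk (nat_lit 0x50ec684fcc6686ac64e1fc63e1dc62e1bc61e19e17e15000)))
noncomputable def e_0_p : BT (Bx Nat) := (BT.leaf (Bx.mk (nat_lit 0xe44e03dc4d839449038c48c3884883444443442441000000)))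
noncomputable def e_0_e : BT Nat := BT.leaf (nat_lit 0)
noncomputable def e_0_cols : List (BT (Bx Nat)) := [e_0_c0, e_0_c1, e_0_c2, e_0_c3, e_0_c4]
noncomputable def e_0_ch (x j : Nat) : Bx Nat := chunkG e_0_cols (nat_lit 1) x j
noncomputable def e_0_L (x : Nat) : Bx (Nat → Nat) := lookG e_0_ch (nat_lit 8) (nat_lit 255) (nat_lit 12) (nat_lit 4095) x
noncomputable def e_0_pc (_ j : Nat) : Bx Nat := e_0_p.get j
noncomputable def e_0_pb : Bx (Nat → Nat) := lookG e_0_pc (nat_lit 8) (nat_lit 255) (nat_lit 12) (nat_lit 4095) (nat_lit 0)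
noncomputable def e_0_rots : BT CW := (BT.node (nat_lit 8) (BT.node (nat_lit 4) (BT.node (nat_lit 2) (BT.node (nat_lit 1) (BT.leaf ⟨[], (nat_lit 1000000), (nat_lit 0), (nat_lit 0), (nat_lit 0)⟩) (BT.leaf ⟨[], (nat_lit 1000000), (nat_lit 0), (nat_lit 0), (nat_lit 1)⟩)) (BT.node (nat_lit 3) (BT.leaf ⟨[], (nat_lit 1000000), (nat_lit 0), (nat_lit 0), (nat_lit 2)⟩) (BT.leaf ⟨[(nat_lit 2), (nat_lit 1)], (nat_lit 6), (nat_lit 1), (nat_lit 0), (nat_lit 3)⟩))) (BT.node (nat_lit 6) (BT.node (nat_lit 5) (BT.leaf ⟨[(nat_lit 1), (nat_lit 2)], (nat_lit 6), (nat_lit 0), (nat_lit 0), (nat_lit 3)⟩) (BT.leaf ⟨[(nat_lit 4), (nat_lit 3)], (nat_lit 5), (nat_lit 1), (nat_lit 0), (nat_lit 3)⟩)) (BT.node (nat_lit 7) (BT.leaf ⟨[(nat_lit 3), (nat_lit 4)], (nat_lit 5), (nat_lit 0), (nat_lit 0), (nat_lit 3)⟩) (BT.leaf ⟨[(nat_lit 1), (nat_lit 1), (nat_lit 1)], (nat_lit 0), (nat_lit 0), (nat_lit 0), (nat_lit 3)⟩)))) (BT.node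 (nat_lit 12) (BT.node (nat_lit 10) (BT.node (nat_lit 9) (BT.leaf ⟨[(nat_lit 2), (nat_lit 3), (nat_lit 1), (nat_lit 4)], (nat_lit 2), (nat_lit 1), (nat_lit 0), (nat_lit 3)⟩) (BT.leaf ⟨[(nat_lit 2), (nat_lit 4), (nat_lit 1), (nat_lit 3)], (nat_lit 9), (nat_lit 0), (nat_lit 0), (nat_lit 3)⟩)) (BT.node (nat_lit 11) (BT.leaf ⟨[(nat_lit 1), (nat_lit 4), (nat_lit 2), (nat_lit 3)], (nat_lit 2), (nat_lit 3), (nat_lit 0), (nat_lit 3)⟩) (BT.leaf ⟨[(nat_lit 1), (nat_lit 3), (nat_lit 2), (nat_lit 4)], (nat_lit 9), (nat_lit 2), (nat_lit 0), (nat_lit 3)⟩))) (BT.node (nat_lit 14) (BT.node (nat_lit 13) (BT.leaf ⟨[(nat_lit 2), (nat_lit 2), (nat_lit 2)], (nat_lit 7), (nat_lit 0), (nat_lit 0), (nat_lit 3)⟩) (BT.leaf ⟨[(nat_lit 3), (nat_lit 3), (nat_lit 3), (nat_lit 3), (nat_lit 3)], (nat_lit 1), (nat_lit 0), (nat_lit 0), (nat_lit 3)⟩)) (BT.node (nat_lit 15) (BT.leaf ⟨[(nat_lit 4), (nat_lit 2), (nat_lit 3), (nat_lit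 1)], (nat_lit 2), (nat_lit 0), (nat_lit 0), (nat_lit 3)⟩) (BT.leaf ⟨[(nat_lit 4), (nat_lit 1), (nat_lit 3), (nat_lit 2)], (nat_lit 9), (nat_lit 1), (nat_lit 0), (nat_lit 3)⟩)))))
noncomputable def e_0_hcs : List CW := []
noncomputable def e_0_H (x j : Nat) : Bx (Nat → Nat → Nat) := mkH e_0_L e_0_pb.1 e_0_e.get (lmap CW.w e_0_hcs) (nat_lit 15) (nat_lit 16) (nat_lit 5) (nat_lit 16) (nat_lit 512) (nat_lit 1023) x (e_0_rots.get j)
noncomputable def e_0_F (x b : Nat) : Bool := blkOK e_0_H e_0_ch (nat_lit 16) (nat_lit 16) (nat_lit 32) (nat_lit 8) (nat_lit 255) (nat_lit 12) (nat_lit 4095) x b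

theorem e_0_k0_0 : allFrom (e_0_F (nat_lit 0)) (nat_lit 0) (nat_lit 4) = true := by decide +kernel
theorem e_0_k1_0 : allFrom (e_0_F (nat_lit 1)) (nat_lit 0) (nat_lit 4) = true := by decide +kernel
theorem e_0_k2_0 : allFrom (e_0_F (nat_lit 2)) (nat_lit 0) (nat_lit 4) = true := by decide +kernel
theorem e_0_k3_0 : allFrom (e_0_F (nat_lit 3)) (nat_lit 0) (nat_lit 4) = true := by decide +kernel
theorem e_0_k4_0 : allFrom (e_0_F (nat_lit 4)) (nat_lit 0) (nat_lit 4) = true := by decide +kernel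

noncomputable def e_1_c0 : BT (Bx Nat) := (BT.leaf (Bx.mk (nat_lit 0x0)))
noncomputable def e_1_c1 : BT (Bx Nat) := (BT.leaf (Bx.mk (nat_lit 0x223ad78ec8e72c50ec5053a954d1c3a830ef983bb694d9c722d8e6163b8d8e5e03a958e94e3c0d8e53452f30ec183b9d8e4b0393c8efd27bc794824395e02f567b3b94ab27b768ed6070fd1e33470b7d4af051fc147b6388d1469c3a148e9327a699e5b80aec9c8dc51dd1e1f4706e029f0511c1443239cc8e6f6383d142b8099c8e3b238dd8e0b4505e02278084e06040000)))
noncomputable def e_1_c2 : BT (Bx Nat) := (BT.leaf (Bx.mk (nat_lit 0x106b0d18a4e6b9d8c9503286d6e0e33c69ab19434c0c89833775086233b50c92143f5d0f4f42dc8cbb631491900c33e70c76c32389ac9e6bad8c3f0316618c54617c0c4da33679a61c327b8c72e31b68c4b460cd1a2f2319d8c2380b5e02ce43159989b80afc9aab80abb8c3ae30d78c834607d1a1b231fc8c7b2309d8c0f809ac8c472310c8c136302e022b8085d8c040000)))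
noncomputable def e_1_c3 : BT (Bx Nat) := (BT.leaf (Bx.mk (nat_lit 0x2732bd929f64a562ebf64a4992c9cb3332cc58b3fd9271849f612de48298acee72a0d9250eb1d392b532c0d9248cbbd420fa4b95d923e7397392f3648e612b964b8b129b648cd208b80bad9229e498e02e764897acd70b1ac2e6780b6e02d364879924780b0d205b80acd921780aae02a36484e028f6483e0287809ee026f0488d920b8093e0243808de022f8086e06040000)))
noncomputable def e_1_c4 : BT (Bx Nat) := (BT.leaf (Bx.mk (nat_lit 0x1042e590e0e42b290b108a7810cf6420d907596246a2d764187106f6417690ea903b290e76414590f5aea5422bf6412911036410890d3640fe02fee8a3e02fb80bcd90372421d902e44326d2db640a310c380b7d9026e41ab90660a9e910a32413890ab80b1d901b80ada3a576405e02a780a6d901380a2d900f809fe02732a88e025b6402e0247808ee02338087d90040000)))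
noncomputable def e_1_c5 : BT (Bx Nat) := (BT.leaf (Bx.mk (nat_lit 0x362aa68ac422b61a6dcc2b470ace42a520a7c85ad23ed442bc332bca2be78a9b62968bf0222a8226f5229c2beb8ad9358a69c2bf2a4e6029130a6682a3d8a3622bae02eee2b2216b2428fcb44242b03364b80b8c308582a738aaf6287d24334c8ed8a1b498bbb66f6285b8a7a42a9d8a12c5a2e02932598c965780a0e02774583e025f809428a26628ad8a078088e02080000)))
noncomputable def e_1_c6 : BT (Bx Nat) := (BT.leaf (Bx.mk (nat_lit 0x202317b8a8d234188bc6a36d888e5124208a7621c108f4513e188dcf6bc7c4ef0a22744fe6f1e288d4822d188e0622145a6780c09c8424f306b86a0a339c6eb620dab89aa20eb886f620a2a8e70e11d882551aeb084d91ab3c49f020cd881f80b2c082f6206208b0a21d8c4a3021f9c4832216e02972217c88529084346176202e02638095e024b808fc88236201e020c0000)))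
noncomputable def e_1_p : BT (Bx Nat) := (BT.leaf (Bx.mk (nat_lit 0xaa86a9c4a944a941a904a8c588038743870587048603860285c385c285868504850385028501848484838482840383c483c383c18384834683458343630462c36285628462836245624462436202620161c661c561c461866185618361466144614361066104610340c440c340c240c1408540844083408240812046204500000000)))
noncomputable def e_1_e0 : BT Nat := (BT.node (nat_lit 67) (BT.leaf (nat_lit 262146)) (BT.leaf (nat_lit 2)))
noncomputable def e_1_e : BT Nat := e_1_e0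
noncomputable def e_1_cols : List (BT (Bx Nat)) := [e_1_c0, e_1_c1, e_1_c2, e_1_c3, e_1_c4, e_1_c5, e_1_c6]
noncomputable def e_1_ch (x j : Nat) : Bx Nat := chunkG e_1_cols (nat_lit 1) x j
noncomputable def e_1_L (x : Nat) : Bx (Nat → Nat) := lookG e_1_ch (nat_lit 8) (nat_lit 255) (nat_lit 18) (nat_lit 262143) x
noncomputable def e_1_pc (_ j : Nat) : Bx Nat := e_1_p.get j
noncomputable def e_1_pb : Bx (Nat → Nat) := lookG e_1_pc (nat_lit 8) (nat_lit 255) (nat_lit 16) (nat_lit 65535) (nat_lit 0)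
noncomputable def e_1_rots : BT CW := (BT.node (nat_lit 22) (BT.node (nat_lit 11) (BT.node (nat_lit 5) (BT.node (nat_lit 2) (BT.node (nat_lit 1) (BT.leaf ⟨[], (nat_lit 1000000), (nat_lit 0), (nat_lit 0), (nat_lit 0)⟩) (BT.leaf ⟨[], (nat_lit 1000000), (nat_lit 0), (nat_lit 0), (nat_lit 1)⟩)) (BT.node (nat_lit 3) (BT.leaf ⟨[], (nat_lit 1000000), (nat_lit 0), (nat_lit 0), (nat_lit 2)⟩) (BT.node (nat_lit 4) (BT.leaf ⟨[(nat_lit 6), (nat_lit 5)], (nat_lit 7), (nat_lit 1), (nat_lit 0), (nat_lit 3)⟩) (BT.leaf ⟨[(nat_lit 5), (nat_lit 6)], (nat_lit 7), (nat_lit 0), (nat_lit 0), (nat_lit 3)⟩)))) (BT.node (nat_lit 8) (BT.node (nat_lit 6) (BT.leaf ⟨[(nat_lit 2), (nat_lit 1)], (nat_lit 9), (nat_lit 1), (nat_lit 0), (nat_lit 3)⟩) (BT.node (nat_lit 7) (BT.leaf ⟨[(nat_lit 1), (nat_lit 2)], (nat_lit 9), (nat_lit 0), (nat_lit 0), (nat_lit 3)⟩) (BT.leaf ⟨[(nat_lit 4), (nat_lit 3)], (nat_lit 8), (nat_lit 1), (nat_lit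 0), (nat_lit 3)⟩))) (BT.node (nat_lit 9) (BT.leaf ⟨[(nat_lit 3), (nat_lit 4)], (nat_lit 8), (nat_lit 0), (nat_lit 0), (nat_lit 3)⟩) (BT.node (nat_lit 10) (BT.leaf ⟨[(nat_lit 1), (nat_lit 1), (nat_lit 1)], (nat_lit 0), (nat_lit 0), (nat_lit 0), (nat_lit 3)⟩) (BT.leaf ⟨[(nat_lit 5), (nat_lit 5), (nat_lit 5), (nat_lit 5)], (nat_lit 3), (nat_lit 0), (nat_lit 0), (nat_lit 3)⟩))))) (BT.node (nat_lit 16) (BT.node (nat_lit 13) (BT.node (nat_lit 12) (BT.leaf ⟨[(nat_lit 2), (nat_lit 3), (nat_lit 1), (nat_lit 4)], (nat_lit 2), (nat_lit 1), (nat_lit 0), (nat_lit 3)⟩) (BT.leaf ⟨[(nat_lit 2), (nat_lit 4), (nat_lit 1), (nat_lit 3)], (nat_lit 12), (nat_lit 0), (nat_lit 0), (nat_lit 3)⟩)) (BT.node (nat_lit 14) (BT.leaf ⟨[(nat_lit 1), (nat_lit 4), (nat_lit 2), (nat_lit 3)], (nat_lit 2), (nat_lit 3), (nat_lit 0), (nat_lit 3)⟩) (BT.node (nat_lit 15) (BT.leaf ⟨[(nat_lit 1), (nat_lit 3), (nat_lit 2), (nat_lit 4)], (nat_lit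 12), (nat_lit 2), (nat_lit 0), (nat_lit 3)⟩) (BT.leaf ⟨[(nat_lit 3), (nat_lit 3), (nat_lit 3), (nat_lit 3), (nat_lit 3)], (nat_lit 1), (nat_lit 0), (nat_lit 0), (nat_lit 3)⟩)))) (BT.node (nat_lit 19) (BT.node (nat_lit 17) (BT.leaf ⟨[(nat_lit 4), (nat_lit 2), (nat_lit 3), (nat_lit 1)], (nat_lit 2), (nat_lit 0), (nat_lit 0), (nat_lit 3)⟩) (BT.node (nat_lit 18) (BT.leaf ⟨[(nat_lit 5), (nat_lit 3), (nat_lit 5), (nat_lit 5), (nat_lit 4), (nat_lit 5)], (nat_lit 4), (nat_lit 4), (nat_lit 0), (nat_lit 3)⟩) (BT.leaf ⟨[(nat_lit 5), (nat_lit 4), (nat_lit 5), (nat_lit 5), (nat_lit 3), (nat_lit 5)], (nat_lit 4), (nat_lit 1), (nat_lit 0), (nat_lit 3)⟩))) (BT.node (nat_lit 20) (BT.leaf ⟨[(nat_lit 6), (nat_lit 3), (nat_lit 6), (nat_lit 6), (nat_lit 4), (nat_lit 6)], (nat_lit 14), (nat_lit 2), (nat_lit 0), (nat_lit 3)⟩) (BT.node (nat_lit 21) (BT.leaf ⟨[(nat_lit 4), (nat_lit 5), (nat_lit 5), (nat_lit 3), (nat_lit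 5), (nat_lit 5)], (nat_lit 4), (nat_lit 2), (nat_lit 0), (nat_lit 3)⟩) (BT.leaf ⟨[(nat_lit 3), (nat_lit 1), (nat_lit 4), (nat_lit 2)], (nat_lit 2), (nat_lit 2), (nat_lit 0), (nat_lit 3)⟩)))))) (BT.node (nat_lit 33) (BT.node (nat_lit 27) (BT.node (nat_lit 24) (BT.node (nat_lit 23) (BT.leaf ⟨[(nat_lit 3), (nat_lit 2), (nat_lit 4), (nat_lit 1)], (nat_lit 12), (nat_lit 3), (nat_lit 0), (nat_lit 3)⟩) (BT.leaf ⟨[(nat_lit 5), (nat_lit 4), (nat_lit 4), (nat_lit 5), (nat_lit 3), (nat_lit 2), (nat_lit 6), (nat_lit 3), (nat_lit 1)], (nat_lit 5), (nat_lit 0), (nat_lit 0), (nat_lit 3)⟩)) (BT.node (nat_lit 25) (BT.leaf ⟨[(nat_lit 5), (nat_lit 3), (nat_lit 2), (nat_lit 6), (nat_lit 3), (nat_lit 1), (nat_lit 5), (nat_lit 4), (nat_lit 4)], (nat_lit 5), (nat_lit 3), (nat_lit 0), (nat_lit 3)⟩) (BT.node (nat_lit 26) (BT.leaf ⟨[(nat_lit 5), (nat_lit 1), (nat_lit 4), (nat_lit 6), (nat_lit 3), (nat_lit 3), (nat_lit 6),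 (nat_lit 2), (nat_lit 4)], (nat_lit 15), (nat_lit 2), (nat_lit 0), (nat_lit 3)⟩) (BT.leaf ⟨[(nat_lit 5), (nat_lit 5), (nat_lit 4), (nat_lit 5), (nat_lit 5), (nat_lit 3)], (nat_lit 4), (nat_lit 0), (nat_lit 0), (nat_lit 3)⟩)))) (BT.node (nat_lit 30) (BT.node (nat_lit 28) (BT.leaf ⟨[(nat_lit 6), (nat_lit 3), (nat_lit 1), (nat_lit 5), (nat_lit 4), (nat_lit 4), (nat_lit 5), (nat_lit 3), (nat_lit 2)], (nat_lit 5), (nat_lit 6), (nat_lit 0), (nat_lit 3)⟩) (BT.node (nat_lit 29) (BT.leaf ⟨[(nat_lit 4), (nat_lit 6), (nat_lit 3), (nat_lit 3), (nat_lit 6), (nat_lit 2), (nat_lit 4), (nat_lit 5), (nat_lit 1)], (nat_lit 15), (nat_lit 4), (nat_lit 0), (nat_lit 3)⟩) (BT.leaf ⟨[(nat_lit 6), (nat_lit 6), (nat_lit 4), (nat_lit 6), (nat_lit 6), (nat_lit 3)], (nat_lit 14), (nat_lit 4), (nat_lit 0), (nat_lit 3)⟩))) (BT.node (nat_lit 31) (BT.leaf ⟨[(nat_lit 5), (nat_lit 5), (nat_lit 3), (nat_lit 5), (nat_lit 5), (nat_lit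 4)], (nat_lit 4), (nat_lit 3), (nat_lit 0), (nat_lit 3)⟩) (BT.node (nat_lit 32) (BT.leaf ⟨[(nat_lit 4), (nat_lit 6), (nat_lit 6), (nat_lit 3), (nat_lit 6), (nat_lit 6)], (nat_lit 14), (nat_lit 0), (nat_lit 0), (nat_lit 3)⟩) (BT.leaf ⟨[(nat_lit 6), (nat_lit 3), (nat_lit 3), (nat_lit 6), (nat_lit 2), (nat_lit 4), (nat_lit 5), (nat_lit 1), (nat_lit 4)], (nat_lit 15), (nat_lit 5), (nat_lit 0), (nat_lit 3)⟩))))) (BT.node (nat_lit 39) (BT.node (nat_lit 36) (BT.node (nat_lit 34) (BT.leaf ⟨[(nat_lit 6), (nat_lit 6), (nat_lit 6), (nat_lit 6)], (nat_lit 13), (nat_lit 0), (nat_lit 0), (nat_lit 3)⟩) (BT.node (nat_lit 35) (BT.leaf ⟨[(nat_lit 6), (nat_lit 4), (nat_lit 6), (nat_lit 6), (nat_lit 3), (nat_lit 6)], (nat_lit 14), (nat_lit 5), (nat_lit 0), (nat_lit 3)⟩) (BT.leaf ⟨[(nat_lit 6), (nat_lit 6), (nat_lit 3), (nat_lit 6), (nat_lit 6), (nat_lit 4)], (nat_lit 14), (nat_lit 1), (nat_lit 0), (nat_lit 3)⟩)))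 (BT.node (nat_lit 37) (BT.leaf ⟨[(nat_lit 3), (nat_lit 6), (nat_lit 6), (nat_lit 4), (nat_lit 6), (nat_lit 6)], (nat_lit 14), (nat_lit 3), (nat_lit 0), (nat_lit 3)⟩) (BT.node (nat_lit 38) (BT.leaf ⟨[(nat_lit 3), (nat_lit 1), (nat_lit 5), (nat_lit 4), (nat_lit 4), (nat_lit 5), (nat_lit 3), (nat_lit 2), (nat_lit 6)], (nat_lit 5), (nat_lit 7), (nat_lit 0), (nat_lit 3)⟩) (BT.leaf ⟨[(nat_lit 3), (nat_lit 6), (nat_lit 2), (nat_lit 4), (nat_lit 5), (nat_lit 1), (nat_lit 4), (nat_lit 6), (nat_lit 3)], (nat_lit 15), (nat_lit 7), (nat_lit 0), (nat_lit 3)⟩)))) (BT.node (nat_lit 42) (BT.node (nat_lit 40) (BT.leaf ⟨[(nat_lit 2), (nat_lit 2), (nat_lit 2)], (nat_lit 10), (nat_lit 0), (nat_lit 0), (nat_lit 3)⟩) (BT.node (nat_lit 41) (BT.leaf ⟨[(nat_lit 4), (nat_lit 1), (nat_lit 3), (nat_lit 2)], (nat_lit 12), (nat_lit 1), (nat_lit 0), (nat_lit 3)⟩) (BT.leaf ⟨[(nat_lit 1), (nat_lit 4), (nat_lit 6), (nat_lit 3),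 (nat_lit 3), (nat_lit 6), (nat_lit 2), (nat_lit 4), (nat_lit 5)], (nat_lit 15), (nat_lit 3), (nat_lit 0), (nat_lit 3)⟩))) (BT.node (nat_lit 43) (BT.leaf ⟨[(nat_lit 2), (nat_lit 6), (nat_lit 3), (nat_lit 1), (nat_lit 5), (nat_lit 4), (nat_lit 4), (nat_lit 5), (nat_lit 3)], (nat_lit 5), (nat_lit 5), (nat_lit 0), (nat_lit 3)⟩) (BT.node (nat_lit 44) (BT.leaf ⟨[(nat_lit 4), (nat_lit 5), (nat_lit 1), (nat_lit 4), (nat_lit 6), (nat_lit 3), (nat_lit 3), (nat_lit 6), (nat_lit 2)], (nat_lit 15), (nat_lit 1), (nat_lit 0), (nat_lit 3)⟩) (BT.leaf ⟨[(nat_lit 6), (nat_lit 2), (nat_lit 4), (nat_lit 5), (nat_lit 1), (nat_lit 4), (nat_lit 6), (nat_lit 3), (nat_lit 3)], (nat_lit 15), (nat_lit 8), (nat_lit 0), (nat_lit 3)⟩)))))))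
noncomputable def e_1_hcs : List CW := [⟨[(nat_lit 3)], (nat_lit 0), (nat_lit 0), (nat_lit 0), (nat_lit 0)⟩, ⟨[(nat_lit 1)], (nat_lit 1), (nat_lit 0), (nat_lit 0), (nat_lit 0)⟩, ⟨[(nat_lit 4)], (nat_lit 2), (nat_lit 0), (nat_lit 0), (nat_lit 0)⟩, ⟨[(nat_lit 2)], (nat_lit 3), (nat_lit 0), (nat_lit 0), (nat_lit 0)⟩]
noncomputable def e_1_H (x j : Nat) : Bx (Nat → Nat → Nat) := mkH e_1_L e_1_pb.1 e_1_e.get (lmap CW.w e_1_hcs) (nat_lit 64) (nat_lit 65) (nat_lit 7) (nat_lit 128) (nat_lit 8192) (nat_lit 8191) x (e_1_rots.get j)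
noncomputable def e_1_F (x b : Nat) : Bool := blkOK e_1_H e_1_ch (nat_lit 65) (nat_lit 128) (nat_lit 64) (nat_lit 8) (nat_lit 255) (nat_lit 18) (nat_lit 262143) x b

theorem e_1_k0_0 : allFrom (e_1_F (nat_lit 0)) (nat_lit 0) (nat_lit 4) = true := by decide +kernel
theorem e_1_k1_0 : allFrom (e_1_F (nat_lit 1)) (nat_lit 0) (nat_lit 4) = true := by decide +kernel
theorem e_1_k2_0 : allFrom (e_1_F (nat_lit 2)) (nat_lit 0) (nat_lit 4) = true := by decide +kernel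
theorem e_1_k3_0 : allFrom (e_1_F (nat_lit 3)) (nat_lit 0) (nat_lit 4) = true := by decide +kernel
theorem e_1_k4_0 : allFrom (e_1_F (nat_lit 4)) (nat_lit 0) (nat_lit 4) = true := by decide +kernel
theorem e_1_k5_0 : allFrom (e_1_F (nat_lit 5)) (nat_lit 0) (nat_lit 4) = true := by decide +kernel
theorem e_1_k6_0 : allFrom (e_1_F (nat_lit 6)) (nat_lit 0) (nat_lit 4) = true := by decide +kernel

noncomputable def e_2_c0 : BT (Bx Nat) := (BT.leaf (Bx.mk (nat_lit 0x65da259b9045e237981661b0f52193000000000000000000000000000000000000000000000000000000000000000000000000000000000000000000000000000000000000000000000000000000000000000000000000000000000000000000000000000000000000000000000000000000000000000000000000000000000000000000000000000000000000000000000000000000000000000000000000000000000000000000000000000000000000000000)))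
noncomputable def e_2_c1 : BT (Bx Nat) := (BT.leaf (Bx.mk (nat_lit 0xa479400000ac5aa0000000000000000c341147b5ac7193033ca45bf64738b0315ac5bb307a0347be34321247a91032bb0310ac5b40c3312a9ac543251c7b7993c4a431210332347c0b030c2031150330b030bac5a76daa89d547401aa601941832f9c79baca13b0308ac59e9c32d2c3396832ea833db0307ac5986c31ab40baa87a49030fa031cb40b6b40b39431fac786ac705b4145b40a6a458ea458db409db4097a830aa8309b0302ac584b4083b418100000)))
noncomputable def e_2_c2 : BT (Bx Nat) := (BT.leaf (Bx.mk (nat_lit 0xa062400000b028c942ae000000000012b41302aba02bd302b8ac6993463ea82bab02953061b602bc182afb0291102c0a82b3b029016aac10f3254f281c6216cf1aa0f1c242b114635a94c5202b6682a5a82a6b028b58630a42944018c601a4386372c2b998e8fa829db0288a5112982a071896a82bfa8297b0287741aeb40bba14c7a829fa86ad24629b40b494f13a028aa0289b40aab40a7ac606ac685b409eb4098a828ea828da8283b0282b4084b028100000)))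
noncomputable def e_2_c3 : BT (Bx Nat) := (BT.leaf (Bx.mk (nat_lit 0xb040eb040c0000000000b040b0000010441b0421699bc3a2bb2c43eb04159542e6d19a3041e611bab0411784331a62f4c42a4d34518db2184315e0a01c42964417995c722a2c508b70c4352a5342d1b96942550430a4c9bb040a2c4406018e38436b04085c4269040fa44139c424a0d9db040784438b40bfb40bd6d41899344b0406648a7ac89480d905418c5c18bb0404b40adb40abb40a8b0403a119cb409fb4099b0402b4092b408db4089b4085b418100000)))
noncomputable def e_2_c4 : BT (Bx Nat) := (BT.leaf (Bx.mk (nat_lit 0x943ad0000050bb39d2950000000000152c130ba3b039830fbdb0397643bf343be5c3b8283a8896994c3ab3e3a110faa243a97cbb6143b21cfb154fa6143b5903bbb038d1c3acb038c50fb4225afb038b6039360f9f643a7a0b9c401b3601adb40c0583b0b0388366b99c39b9c389a03a5683bab03876839668bae74195b40bca8392a8b9db0385b40b77c39194f9eb4147b0384b4146b4143b40a4b0383b40a0b409ab4094b0382b408eb408ab4086b038100000)))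
noncomputable def e_2_c5 : BT (Bx Nat) := (BT.leaf (Bx.mk (nat_lit 0xac80c00000000001e43a285329851a2881f623172c53945ca83292c30d24b05114453c44d2f1052b1c52944814b050e2e44022841b050d4083665a271883049c3b385192053d15a3549d333851eb050a48537b050971a1838d109c53f3452a85738a4d1270820ac8087591c2e43e6c8235ce347418ca0525a0e2da081da85053c526b050434521b40b1b40aeb0503b4144a4506b40a2b0502b409bb4095b4093b408fb408bb4087b418100000)))
noncomputable def e_2_c6 : BT (Bx Nat) := (BT.leaf (Bx.mk (nat_lit 0xb048b00000000001c4b0284b1a10202849925fa9490b7444ab184c1310bc8049e4dea43c4ae104a858497444a72e4c0b048e144ac404b6b048d9c4942c4ba15fb539f9f20c34404bb604ad41011a4c152c4b968498b04893908f6c49c244be3cc269c4937049ab04879d0bf3df2a6c4a25c4bd7418bb0486404b3b0485a049db40b8344a1b0484b40b2b40afa9244b0483b40a5b40a3a849bb0482a8a8aac912b4090b408cb4088b048100000)))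
noncomputable def e_2_c7 : BT (Bx Nat) := (BT.leaf (Bx.mk (nat_lit 0xb020ab02221603c2c226b02176c23b102407223d6579db02125821e882143c225b0210217993e12b1271f1a10fb020d3821b4a8ae48224b020c3823304223b020b257a0367983273f417b64e12d0a72ab40c1b0208202280c2325e0386023ab02073ebaf7820e1c23430227b40beb0206a02098d6374c18ab40b9b0204b40b5142317d79ab40b0b40acb40a9b4142a4995b40a1b409cb4096acb03b4091a8205b0201b408200000)))
noncomputable def e_2_p : BT (Bx Nat) := (BT.leaf (Bx.mk (nat_lit 0x83848304830182c582c48287a8878844860385c785c3854485428541848784468444844184078402840183868385834783468345834383078303830282c782c382c282c182868284824682456207620462036202620161c761c561c461c361c261c1618761856184614561436107610661056104610360c660c560c460c3408640854084408340824081204700000000)))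
noncomputable def e_2_e0 : BT Nat := (BT.node (nat_lit 1413) (BT.node (nat_lit 1027) (BT.node (nat_lit 69) (BT.node (nat_lit 67) (BT.leaf (nat_lit 524290)) (BT.leaf (nat_lit 262146))) (BT.node (nat_lit 963) (BT.leaf (nat_lit 2)) (BT.leaf (nat_lit 268)))) (BT.node (nat_lit 1410) (BT.node (nat_lit 1223) (BT.leaf (nat_lit 280)) (BT.leaf (nat_lit 264))) (BT.node (nat_lit 1412) (BT.leaf (nat_lit 272)) (BT.leaf (nat_lit 272))))) (BT.node (nat_lit 2179) (BT.node (nat_lit 2177) (BT.node (nat_lit 1414) (BT.leaf (nat_lit 272)) (BT.leaf (nat_lit 272))) (BT.node (nat_lit 2178) (BT.leaf (nat_lit 284)) (BT.leaf (nat_lit 284)))) (BT.node (nat_lit 2241) (BT.node (nat_lit 2180) (BT.leaf (nat_lit 284)) (BT.leaf (nat_lit 284))) (BT.node (nat_lit 2242) (BT.leaf (nat_lit 276)) (BT.node (nat_lit 2244) (BT.leaf (nat_lit 276)) (BT.leaf (nat_lit 276)))))))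
noncomputable def e_2_e : BT Nat := e_2_e0
noncomputable def e_2_cols : List (BT (Bx Nat)) := [e_2_c0, e_2_c1, e_2_c2, e_2_c3, e_2_c4, e_2_c5, e_2_c6, e_2_c7]
noncomputable def e_2_ch (x j : Nat) : Bx Nat := chunkG e_2_cols (nat_lit 1) x j
noncomputable def e_2_L (x : Nat) : Bx (Nat → Nat) := lookG e_2_ch (nat_lit 8) (nat_lit 255) (nat_lit 20) (nat_lit 1048575) x
noncomputable def e_2_pc (_ j : Nat) : Bx Nat := e_2_p.get j
noncomputable def e_2_pb : Bx (Nat → Nat) := lookG e_2_pc (nat_lit 8) (nat_lit 255) (nat_lit 16) (nat_lit 65535) (nat_lit 0)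
noncomputable def e_2_rots : BT CW := (BT.node (nat_lit 43) (BT.node (nat_lit 21) (BT.node (nat_lit 10) (BT.node (nat_lit 5) (BT.node (nat_lit 2) (BT.node (nat_lit 1) (BT.leaf ⟨[], (nat_lit 1000000), (nat_lit 0), (nat_lit 0), (nat_lit 0)⟩) (BT.leaf ⟨[], (nat_lit 1000000), (nat_lit 0), (nat_lit 0), (nat_lit 1)⟩)) (BT.node (nat_lit 3) (BT.leaf ⟨[], (nat_lit 1000000), (nat_lit 0), (nat_lit 0), (nat_lit 2)⟩) (BT.node (nat_lit 4) (BT.leaf ⟨[(nat_lit 7), (nat_lit 7)], (nat_lit 6), (nat_lit 0), (nat_lit 0), (nat_lit 3)⟩) (BT.leaf ⟨[(nat_lit 2), (nat_lit 1)], (nat_lit 14), (nat_lit 1), (nat_lit 0), (nat_lit 3)⟩)))) (BT.node (nat_lit 7) (BT.node (nat_lit 6) (BT.leaf ⟨[(nat_lit 1), (nat_lit 2)], (nat_lit 14), (nat_lit 0), (nat_lit 0), (nat_lit 3)⟩) (BT.leaf ⟨[(nat_lit 4), (nat_lit 3)], (nat_lit 13), (nat_lit 1), (nat_lit 0), (nat_lit 3)⟩)) (BT.node (nat_lit 8) (BT.leaf ⟨[(nat_lit 3), (nat_lit 4)], (nat_lit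 13), (nat_lit 0), (nat_lit 0), (nat_lit 3)⟩) (BT.node (nat_lit 9) (BT.leaf ⟨[(nat_lit 6), (nat_lit 5)], (nat_lit 12), (nat_lit 1), (nat_lit 0), (nat_lit 3)⟩) (BT.leaf ⟨[(nat_lit 5), (nat_lit 6)], (nat_lit 12), (nat_lit 0), (nat_lit 0), (nat_lit 3)⟩))))) (BT.node (nat_lit 15) (BT.node (nat_lit 12) (BT.node (nat_lit 11) (BT.leaf ⟨[(nat_lit 1), (nat_lit 1), (nat_lit 1)], (nat_lit 0), (nat_lit 0), (nat_lit 0), (nat_lit 3)⟩) (BT.leaf ⟨[(nat_lit 2), (nat_lit 3), (nat_lit 1), (nat_lit 4)], (nat_lit 2), (nat_lit 1), (nat_lit 0), (nat_lit 3)⟩)) (BT.node (nat_lit 13) (BT.leaf ⟨[(nat_lit 2), (nat_lit 4), (nat_lit 1), (nat_lit 3)], (nat_lit 17), (nat_lit 0), (nat_lit 0), (nat_lit 3)⟩) (BT.node (nat_lit 14) (BT.leaf ⟨[(nat_lit 1), (nat_lit 4), (nat_lit 2), (nat_lit 3)], (nat_lit 2), (nat_lit 3), (nat_lit 0), (nat_lit 3)⟩) (BT.leaf ⟨[(nat_lit 1), (nat_lit 3), (nat_lit 2), (nat_lit 4)], (nat_lit 17), (nat_lit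 2), (nat_lit 0), (nat_lit 3)⟩)))) (BT.node (nat_lit 18) (BT.node (nat_lit 16) (BT.leaf ⟨[(nat_lit 5), (nat_lit 5), (nat_lit 5), (nat_lit 5)], (nat_lit 3), (nat_lit 0), (nat_lit 0), (nat_lit 3)⟩) (BT.node (nat_lit 17) (BT.leaf ⟨[(nat_lit 3), (nat_lit 3), (nat_lit 3), (nat_lit 3), (nat_lit 3)], (nat_lit 1), (nat_lit 0), (nat_lit 0), (nat_lit 3)⟩) (BT.leaf ⟨[(nat_lit 6), (nat_lit 4), (nat_lit 4), (nat_lit 7), (nat_lit 3), (nat_lit 3), (nat_lit 5), (nat_lit 4), (nat_lit 7), (nat_lit 3)], (nat_lit 7), (nat_lit 4), (nat_lit 0), (nat_lit 3)⟩))) (BT.node (nat_lit 19) (BT.leaf ⟨[(nat_lit 7), (nat_lit 6), (nat_lit 3), (nat_lit 7), (nat_lit 4), (nat_lit 5), (nat_lit 3), (nat_lit 1), (nat_lit 7), (nat_lit 3), (nat_lit 1)], (nat_lit 8), (nat_lit 3), (nat_lit 0), (nat_lit 3)⟩) (BT.node (nat_lit 20) (BT.leaf ⟨[(nat_lit 1), (nat_lit 6), (nat_lit 4), (nat_lit 7), (nat_lit 4), (nat_lit 1), (nat_lit 5), (nat_lit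 3), (nat_lit 7), (nat_lit 6), (nat_lit 3)], (nat_lit 9), (nat_lit 10), (nat_lit 0), (nat_lit 3)⟩) (BT.leaf ⟨[(nat_lit 6), (nat_lit 2), (nat_lit 3), (nat_lit 7), (nat_lit 3), (nat_lit 5), (nat_lit 2), (nat_lit 4), (nat_lit 5), (nat_lit 7), (nat_lit 4)], (nat_lit 24), (nat_lit 5), (nat_lit 0), (nat_lit 3)⟩)))))) (BT.node (nat_lit 32) (BT.node (nat_lit 26) (BT.node (nat_lit 23) (BT.node (nat_lit 22) (BT.leaf ⟨[(nat_lit 7), (nat_lit 2), (nat_lit 7), (nat_lit 5), (nat_lit 1), (nat_lit 6), (nat_lit 4), (nat_lit 4), (nat_lit 1), (nat_lit 7), (nat_lit 3)], (nat_lit 10), (nat_lit 2), (nat_lit 0), (nat_lit 3)⟩) (BT.leaf ⟨[(nat_lit 4), (nat_lit 2), (nat_lit 3), (nat_lit 1)], (nat_lit 2), (nat_lit 0), (nat_lit 0), (nat_lit 3)⟩)) (BT.node (nat_lit 24) (BT.leaf ⟨[(nat_lit 6), (nat_lit 6), (nat_lit 6), (nat_lit 6)], (nat_lit 18), (nat_lit 0), (nat_lit 0), (nat_lit 3)⟩) (BT.node (nat_lit 25) (BT.leaf ⟨[(nat_lit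 3), (nat_lit 6), (nat_lit 6), (nat_lit 4), (nat_lit 6), (nat_lit 6)], (nat_lit 19), (nat_lit 3), (nat_lit 0), (nat_lit 3)⟩) (BT.leaf ⟨[(nat_lit 5), (nat_lit 5), (nat_lit 3), (nat_lit 5), (nat_lit 5), (nat_lit 4)], (nat_lit 4), (nat_lit 3), (nat_lit 0), (nat_lit 3)⟩)))) (BT.node (nat_lit 29) (BT.node (nat_lit 27) (BT.leaf ⟨[(nat_lit 3), (nat_lit 5), (nat_lit 5), (nat_lit 4), (nat_lit 5), (nat_lit 5)], (nat_lit 4), (nat_lit 5), (nat_lit 0), (nat_lit 3)⟩) (BT.node (nat_lit 28) (BT.leaf ⟨[(nat_lit 5), (nat_lit 1), (nat_lit 4), (nat_lit 6), (nat_lit 3), (nat_lit 3), (nat_lit 6), (nat_lit 2), (nat_lit 4)], (nat_lit 20), (nat_lit 2), (nat_lit 0), (nat_lit 3)⟩) (BT.leaf ⟨[(nat_lit 2), (nat_lit 6), (nat_lit 3), (nat_lit 1), (nat_lit 5), (nat_lit 4), (nat_lit 4), (nat_lit 5), (nat_lit 3)], (nat_lit 5), (nat_lit 5), (nat_lit 0), (nat_lit 3)⟩))) (BT.node (nat_lit 30) (BT.leaf ⟨[(nat_lit 2), (nat_lit 2), (nat_lit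 2)], (nat_lit 15), (nat_lit 0), (nat_lit 0), (nat_lit 3)⟩) (BT.node (nat_lit 31) (BT.leaf ⟨[(nat_lit 4), (nat_lit 1), (nat_lit 3), (nat_lit 2)], (nat_lit 17), (nat_lit 1), (nat_lit 0), (nat_lit 3)⟩) (BT.leaf ⟨[(nat_lit 6), (nat_lit 3), (nat_lit 1), (nat_lit 5), (nat_lit 4), (nat_lit 4), (nat_lit 5), (nat_lit 3), (nat_lit 2)], (nat_lit 5), (nat_lit 6), (nat_lit 0), (nat_lit 3)⟩))))) (BT.node (nat_lit 37) (BT.node (nat_lit 34) (BT.node (nat_lit 33) (BT.leaf ⟨[(nat_lit 6), (nat_lit 6), (nat_lit 3), (nat_lit 6), (nat_lit 6), (nat_lit 4)], (nat_lit 19), (nat_lit 1), (nat_lit 0), (nat_lit 3)⟩) (BT.leaf ⟨[(nat_lit 2), (nat_lit 4), (nat_lit 7), (nat_lit 2), (nat_lit 4), (nat_lit 6), (nat_lit 3), (nat_lit 7), (nat_lit 4), (nat_lit 5), (nat_lit 7)], (nat_lit 23), (nat_lit 8), (nat_lit 0), (nat_lit 3)⟩)) (BT.node (nat_lit 35) (BT.leaf ⟨[(nat_lit 3), (nat_lit 2), (nat_lit 4), (nat_lit 1)], (nat_lit 17), (nat_lit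 3), (nat_lit 0), (nat_lit 3)⟩) (BT.node (nat_lit 36) (BT.leaf ⟨[(nat_lit 6), (nat_lit 5)], (nat_lit 12), (nat_lit 1), (nat_lit 0), (nat_lit 5)⟩) (BT.leaf ⟨[(nat_lit 4), (nat_lit 5), (nat_lit 5), (nat_lit 3), (nat_lit 5), (nat_lit 5)], (nat_lit 4), (nat_lit 2), (nat_lit 0), (nat_lit 3)⟩)))) (BT.node (nat_lit 40) (BT.node (nat_lit 38) (BT.leaf ⟨[(nat_lit 3), (nat_lit 4)], (nat_lit 13), (nat_lit 0), (nat_lit 0), (nat_lit 5)⟩) (BT.node (nat_lit 39) (BT.leaf ⟨[(nat_lit 1), (nat_lit 4), (nat_lit 6), (nat_lit 3), (nat_lit 3), (nat_lit 6), (nat_lit 2), (nat_lit 4), (nat_lit 5)], (nat_lit 20), (nat_lit 3), (nat_lit 0), (nat_lit 5)⟩) (BT.leaf ⟨[(nat_lit 3), (nat_lit 1), (nat_lit 4), (nat_lit 2)], (nat_lit 2), (nat_lit 2), (nat_lit 0), (nat_lit 3)⟩))) (BT.node (nat_lit 41) (BT.leaf ⟨[(nat_lit 2), (nat_lit 1)], (nat_lit 14), (nat_lit 1), (nat_lit 0), (nat_lit 5)⟩) (BT.node (nat_lit 42) (BT.leaf ⟨[(nat_lit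 1), (nat_lit 2)], (nat_lit 14), (nat_lit 0), (nat_lit 0), (nat_lit 5)⟩) (BT.leaf ⟨[(nat_lit 3), (nat_lit 2), (nat_lit 4), (nat_lit 1)], (nat_lit 17), (nat_lit 3), (nat_lit 0), (nat_lit 5)⟩))))))) (BT.node (nat_lit 65) (BT.node (nat_lit 54) (BT.node (nat_lit 48) (BT.node (nat_lit 45) (BT.node (nat_lit 44) (BT.leaf ⟨[(nat_lit 7), (nat_lit 3), (nat_lit 7), (nat_lit 2), (nat_lit 7), (nat_lit 5), (nat_lit 1), (nat_lit 6), (nat_lit 4), (nat_lit 4), (nat_lit 1)], (nat_lit 10), (nat_lit 0), (nat_lit 0), (nat_lit 3)⟩) (BT.leaf ⟨[(nat_lit 4), (nat_lit 4), (nat_lit 7), (nat_lit 3), (nat_lit 3), (nat_lit 5), (nat_lit 4), (nat_lit 7), (nat_lit 3), (nat_lit 6)], (nat_lit 7), (nat_lit 5), (nat_lit 0), (nat_lit 3)⟩)) (BT.node (nat_lit 46) (BT.leaf ⟨[(nat_lit 5), (nat_lit 4), (nat_lit 4), (nat_lit 5), (nat_lit 3), (nat_lit 2), (nat_lit 6), (nat_lit 3), (nat_lit 1)], (nat_lit 5), (nat_lit 0), (nat_lit 0), (nat_lit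 3)⟩) (BT.node (nat_lit 47) (BT.leaf ⟨[(nat_lit 7), (nat_lit 3), (nat_lit 6), (nat_lit 4), (nat_lit 4), (nat_lit 7), (nat_lit 3), (nat_lit 3), (nat_lit 5), (nat_lit 4)], (nat_lit 7), (nat_lit 2), (nat_lit 0), (nat_lit 3)⟩) (BT.leaf ⟨[(nat_lit 0), (nat_lit 7), (nat_lit 6), (nat_lit 3), (nat_lit 1), (nat_lit 6), (nat_lit 4), (nat_lit 7), (nat_lit 4), (nat_lit 1), (nat_lit 5), (nat_lit 3)], (nat_lit 9), (nat_lit 7), (nat_lit 1), (nat_lit 3)⟩)))) (BT.node (nat_lit 51) (BT.node (nat_lit 49) (BT.leaf ⟨[(nat_lit 2), (nat_lit 4), (nat_lit 6), (nat_lit 3), (nat_lit 7), (nat_lit 4), (nat_lit 5), (nat_lit 7), (nat_lit 2), (nat_lit 4), (nat_lit 7)], (nat_lit 23), (nat_lit 0), (nat_lit 0), (nat_lit 3)⟩) (BT.node (nat_lit 50) (BT.leaf ⟨[(nat_lit 5), (nat_lit 1), (nat_lit 6), (nat_lit 4), (nat_lit 4), (nat_lit 1), (nat_lit 7), (nat_lit 3), (nat_lit 7), (nat_lit 2), (nat_lit 7)], (nat_lit 10), (nat_lit 5), (nat_lit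 0), (nat_lit 5)⟩) (BT.leaf ⟨[(nat_lit 3), (nat_lit 3), (nat_lit 3), (nat_lit 3), (nat_lit 3)], (nat_lit 1), (nat_lit 0), (nat_lit 0), (nat_lit 5)⟩))) (BT.node (nat_lit 52) (BT.leaf ⟨[(nat_lit 5), (nat_lit 3), (nat_lit 5), (nat_lit 5), (nat_lit 4), (nat_lit 5)], (nat_lit 4), (nat_lit 4), (nat_lit 0), (nat_lit 3)⟩) (BT.node (nat_lit 53) (BT.leaf ⟨[(nat_lit 1), (nat_lit 4), (nat_lit 6), (nat_lit 3), (nat_lit 3), (nat_lit 6), (nat_lit 2), (nat_lit 4), (nat_lit 5)], (nat_lit 20), (nat_lit 3), (nat_lit 0), (nat_lit 3)⟩) (BT.leaf ⟨[(nat_lit 0), (nat_lit 2), (nat_lit 3), (nat_lit 1), (nat_lit 4)], (nat_lit 2), (nat_lit 1), (nat_lit 1), (nat_lit 3)⟩))))) (BT.node (nat_lit 59) (BT.node (nat_lit 56) (BT.node (nat_lit 55) (BT.leaf ⟨[(nat_lit 0), (nat_lit 5), (nat_lit 5), (nat_lit 3), (nat_lit 5), (nat_lit 5), (nat_lit 4)], (nat_lit 4), (nat_lit 3), (nat_lit 1), (nat_lit 5)⟩) (BT.leaf ⟨[(nat_lit 5), (nat_lit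 3), (nat_lit 2), (nat_lit 6), (nat_lit 3), (nat_lit 1), (nat_lit 5), (nat_lit 4), (nat_lit 4)], (nat_lit 5), (nat_lit 3), (nat_lit 0), (nat_lit 3)⟩)) (BT.node (nat_lit 57) (BT.leaf ⟨[(nat_lit 5), (nat_lit 4), (nat_lit 5), (nat_lit 5), (nat_lit 3), (nat_lit 5)], (nat_lit 4), (nat_lit 1), (nat_lit 0), (nat_lit 5)⟩) (BT.node (nat_lit 58) (BT.leaf ⟨[(nat_lit 5), (nat_lit 3), (nat_lit 2), (nat_lit 6), (nat_lit 3), (nat_lit 1), (nat_lit 5), (nat_lit 4), (nat_lit 4)], (nat_lit 5), (nat_lit 3), (nat_lit 0), (nat_lit 5)⟩) (BT.leaf ⟨[(nat_lit 0), (nat_lit 5), (nat_lit 4), (nat_lit 4), (nat_lit 5), (nat_lit 3), (nat_lit 2), (nat_lit 6), (nat_lit 3), (nat_lit 1)], (nat_lit 5), (nat_lit 0), (nat_lit 1), (nat_lit 3)⟩)))) (BT.node (nat_lit 62) (BT.node (nat_lit 60) (BT.leaf ⟨[(nat_lit 0), (nat_lit 5), (nat_lit 5), (nat_lit 4), (nat_lit 5), (nat_lit 5), (nat_lit 3)], (nat_lit 4), (nat_lit 0), (nat_lit 1), (nat_lit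 3)⟩) (BT.node (nat_lit 61) (BT.leaf ⟨[(nat_lit 6), (nat_lit 2), (nat_lit 4), (nat_lit 5), (nat_lit 1), (nat_lit 4), (nat_lit 6), (nat_lit 3), (nat_lit 3)], (nat_lit 20), (nat_lit 8), (nat_lit 0), (nat_lit 3)⟩) (BT.leaf ⟨[(nat_lit 6), (nat_lit 2), (nat_lit 4), (nat_lit 5), (nat_lit 1), (nat_lit 4), (nat_lit 6), (nat_lit 3), (nat_lit 3)], (nat_lit 20), (nat_lit 8), (nat_lit 0), (nat_lit 5)⟩))) (BT.node (nat_lit 63) (BT.leaf ⟨[(nat_lit 6), (nat_lit 3), (nat_lit 6), (nat_lit 6), (nat_lit 4), (nat_lit 6)], (nat_lit 19), (nat_lit 2), (nat_lit 0), (nat_lit 3)⟩) (BT.node (nat_lit 64) (BT.leaf ⟨[(nat_lit 7), (nat_lit 3), (nat_lit 3), (nat_lit 5), (nat_lit 4), (nat_lit 7), (nat_lit 3), (nat_lit 6), (nat_lit 4), (nat_lit 4)], (nat_lit 7), (nat_lit 7), (nat_lit 0), (nat_lit 5)⟩) (BT.leaf ⟨[(nat_lit 3), (nat_lit 3), (nat_lit 5), (nat_lit 4), (nat_lit 7), (nat_lit 3), (nat_lit 6), (nat_lit 4), (nat_lit 4), (nat_lit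 7)], (nat_lit 7), (nat_lit 8), (nat_lit 0), (nat_lit 3)⟩)))))) (BT.node (nat_lit 76) (BT.node (nat_lit 70) (BT.node (nat_lit 67) (BT.node (nat_lit 66) (BT.leaf ⟨[(nat_lit 7), (nat_lit 3), (nat_lit 6), (nat_lit 4), (nat_lit 4), (nat_lit 7), (nat_lit 3), (nat_lit 3), (nat_lit 5), (nat_lit 4)], (nat_lit 7), (nat_lit 2), (nat_lit 0), (nat_lit 5)⟩) (BT.leaf ⟨[(nat_lit 0), (nat_lit 3), (nat_lit 6), (nat_lit 4), (nat_lit 4), (nat_lit 7), (nat_lit 3), (nat_lit 3), (nat_lit 5), (nat_lit 4), (nat_lit 7)], (nat_lit 7), (nat_lit 3), (nat_lit 1), (nat_lit 3)⟩)) (BT.node (nat_lit 68) (BT.leaf ⟨[(nat_lit 7), (nat_lit 2), (nat_lit 4), (nat_lit 6), (nat_lit 3), (nat_lit 7), (nat_lit 4), (nat_lit 5), (nat_lit 7), (nat_lit 2), (nat_lit 4)], (nat_lit 23), (nat_lit 10), (nat_lit 0), (nat_lit 3)⟩) (BT.node (nat_lit 69) (BT.leaf ⟨[(nat_lit 3), (nat_lit 5), (nat_lit 2), (nat_lit 4), (nat_lit 5), (nat_lit 7), (nat_lit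 4), (nat_lit 6), (nat_lit 2), (nat_lit 3), (nat_lit 7)], (nat_lit 24), (nat_lit 9), (nat_lit 0), (nat_lit 5)⟩) (BT.leaf ⟨[(nat_lit 5), (nat_lit 2), (nat_lit 6), (nat_lit 7), (nat_lit 1), (nat_lit 7), (nat_lit 4), (nat_lit 7), (nat_lit 2), (nat_lit 3), (nat_lit 3)], (nat_lit 25), (nat_lit 3), (nat_lit 0), (nat_lit 3)⟩)))) (BT.node (nat_lit 73) (BT.node (nat_lit 71) (BT.leaf ⟨[(nat_lit 4), (nat_lit 7), (nat_lit 2), (nat_lit 3), (nat_lit 3), (nat_lit 5), (nat_lit 2), (nat_lit 6), (nat_lit 7), (nat_lit 1), (nat_lit 7)], (nat_lit 25), (nat_lit 9), (nat_lit 0), (nat_lit 5)⟩) (BT.node (nat_lit 72) (BT.leaf ⟨[(nat_lit 5), (nat_lit 4), (nat_lit 5), (nat_lit 5), (nat_lit 3), (nat_lit 5)], (nat_lit 4), (nat_lit 1), (nat_lit 0), (nat_lit 3)⟩) (BT.leaf ⟨[(nat_lit 6), (nat_lit 4), (nat_lit 6), (nat_lit 6), (nat_lit 3), (nat_lit 6)], (nat_lit 19), (nat_lit 5), (nat_lit 0), (nat_lit 3)⟩))) (BT.node (nat_lit 74)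 (BT.leaf ⟨[(nat_lit 3), (nat_lit 6), (nat_lit 4), (nat_lit 4), (nat_lit 7), (nat_lit 3), (nat_lit 3), (nat_lit 5), (nat_lit 4), (nat_lit 7)], (nat_lit 7), (nat_lit 3), (nat_lit 0), (nat_lit 3)⟩) (BT.node (nat_lit 75) (BT.leaf ⟨[(nat_lit 4), (nat_lit 6), (nat_lit 6), (nat_lit 3), (nat_lit 6), (nat_lit 6)], (nat_lit 19), (nat_lit 0), (nat_lit 0), (nat_lit 3)⟩) (BT.leaf ⟨[(nat_lit 3), (nat_lit 3), (nat_lit 5), (nat_lit 4), (nat_lit 7), (nat_lit 3), (nat_lit 6), (nat_lit 4), (nat_lit 4), (nat_lit 7)], (nat_lit 7), (nat_lit 8), (nat_lit 0), (nat_lit 5)⟩))))) (BT.node (nat_lit 81) (BT.node (nat_lit 78) (BT.node (nat_lit 77) (BT.leaf ⟨[(nat_lit 4), (nat_lit 7), (nat_lit 3), (nat_lit 6), (nat_lit 4), (nat_lit 4), (nat_lit 7), (nat_lit 3), (nat_lit 3), (nat_lit 5)], (nat_lit 7), (nat_lit 1), (nat_lit 0), (nat_lit 3)⟩) (BT.leaf ⟨[(nat_lit 7), (nat_lit 3), (nat_lit 3), (nat_lit 5), (nat_lit 4), (nat_lit 7),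 (nat_lit 3), (nat_lit 6), (nat_lit 4), (nat_lit 4)], (nat_lit 7), (nat_lit 7), (nat_lit 0), (nat_lit 3)⟩)) (BT.node (nat_lit 79) (BT.leaf ⟨[(nat_lit 7), (nat_lit 3), (nat_lit 5), (nat_lit 2), (nat_lit 4), (nat_lit 5), (nat_lit 7), (nat_lit 4), (nat_lit 6), (nat_lit 2), (nat_lit 3)], (nat_lit 24), (nat_lit 8), (nat_lit 0), (nat_lit 3)⟩) (BT.node (nat_lit 80) (BT.leaf ⟨[(nat_lit 5), (nat_lit 7), (nat_lit 2), (nat_lit 4), (nat_lit 7), (nat_lit 2), (nat_lit 4), (nat_lit 6), (nat_lit 3), (nat_lit 7), (nat_lit 4)], (nat_lit 23), (nat_lit 6), (nat_lit 0), (nat_lit 3)⟩) (BT.leaf ⟨[(nat_lit 7), (nat_lit 2), (nat_lit 4), (nat_lit 7), (nat_lit 2), (nat_lit 4), (nat_lit 6), (nat_lit 3), (nat_lit 7), (nat_lit 4), (nat_lit 5)], (nat_lit 23), (nat_lit 7), (nat_lit 0), (nat_lit 3)⟩)))) (BT.node (nat_lit 84) (BT.node (nat_lit 82) (BT.leaf ⟨[(nat_lit 5), (nat_lit 7), (nat_lit 4), (nat_lit 6), (nat_lit 2), (nat_lit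 3), (nat_lit 7), (nat_lit 3), (nat_lit 5), (nat_lit 2), (nat_lit 4)], (nat_lit 24), (nat_lit 2), (nat_lit 0), (nat_lit 5)⟩) (BT.node (nat_lit 83) (BT.leaf ⟨[(nat_lit 1), (nat_lit 6), (nat_lit 4), (nat_lit 4), (nat_lit 1), (nat_lit 7), (nat_lit 3), (nat_lit 7), (nat_lit 2), (nat_lit 7), (nat_lit 5)], (nat_lit 10), (nat_lit 6), (nat_lit 0), (nat_lit 3)⟩) (BT.leaf ⟨[(nat_lit 3), (nat_lit 2), (nat_lit 6), (nat_lit 3), (nat_lit 1), (nat_lit 5), (nat_lit 4), (nat_lit 4), (nat_lit 5)], (nat_lit 5), (nat_lit 4), (nat_lit 0), (nat_lit 3)⟩))) (BT.node (nat_lit 85) (BT.leaf ⟨[(nat_lit 2), (nat_lit 4), (nat_lit 5), (nat_lit 1), (nat_lit 4), (nat_lit 6), (nat_lit 3), (nat_lit 3), (nat_lit 6)], (nat_lit 20), (nat_lit 0), (nat_lit 0), (nat_lit 5)⟩) (BT.node (nat_lit 86) (BT.leaf ⟨[(nat_lit 2), (nat_lit 4), (nat_lit 5), (nat_lit 1), (nat_lit 4), (nat_lit 6), (nat_lit 3), (nat_lit 3), (nat_lit 6)], (nat_lit 20),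 (nat_lit 0), (nat_lit 0), (nat_lit 3)⟩) (BT.leaf ⟨[(nat_lit 7), (nat_lit 6), (nat_lit 3), (nat_lit 1), (nat_lit 6), (nat_lit 4), (nat_lit 7), (nat_lit 4), (nat_lit 1), (nat_lit 5), (nat_lit 3)], (nat_lit 9), (nat_lit 7), (nat_lit 0), (nat_lit 3)⟩))))))))
noncomputable def e_2_hcs : List CW := [⟨[(nat_lit 5)], (nat_lit 0), (nat_lit 0), (nat_lit 0), (nat_lit 0)⟩, ⟨[(nat_lit 3)], (nat_lit 1), (nat_lit 0), (nat_lit 0), (nat_lit 0)⟩, ⟨[(nat_lit 1)], (nat_lit 2), (nat_lit 0), (nat_lit 0), (nat_lit 0)⟩, ⟨[(nat_lit 6)], (nat_lit 3), (nat_lit 0), (nat_lit 0), (nat_lit 0)⟩, ⟨[(nat_lit 4)], (nat_lit 4), (nat_lit 0), (nat_lit 0), (nat_lit 0)⟩, ⟨[(nat_lit 2)], (nat_lit 5), (nat_lit 0), (nat_lit 0), (nat_lit 0)⟩]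
noncomputable def e_2_H (x j : Nat) : Bx (Nat → Nat → Nat) := mkH e_2_L e_2_pb.1 e_2_e.get (lmap CW.w e_2_hcs) (nat_lit 65) (nat_lit 66) (nat_lit 8) (nat_lit 128) (nat_lit 16384) (nat_lit 8191) x (e_2_rots.get j)
noncomputable def e_2_F (x b : Nat) : Bool := blkOK e_2_H e_2_ch (nat_lit 66) (nat_lit 128) (nat_lit 128) (nat_lit 8) (nat_lit 255) (nat_lit 20) (nat_lit 1048575) x b

theorem e_2_k0_0 : allFrom (e_2_F (nat_lit 0)) (nat_lit 0) (nat_lit 4) = true := by decide +kernel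
theorem e_2_k1_0 : allFrom (e_2_F (nat_lit 1)) (nat_lit 0) (nat_lit 4) = true := by decide +kernel
theorem e_2_k2_0 : allFrom (e_2_F (nat_lit 2)) (nat_lit 0) (nat_lit 4) = true := by decide +kernel
theorem e_2_k3_0 : allFrom (e_2_F (nat_lit 3)) (nat_lit 0) (nat_lit 4) = true := by decide +kernel
theorem e_2_k4_0 : allFrom (e_2_F (nat_lit 4)) (nat_lit 0) (nat_lit 4) = true := by decide +kernel
theorem e_2_k5_0 : allFrom (e_2_F (nat_lit 5)) (nat_lit 0) (nat_lit 4) = true := by decide +kernel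
theorem e_2_k6_0 : allFrom (e_2_F (nat_lit 6)) (nat_lit 0) (nat_lit 4) = true := by decide +kernel
theorem e_2_k7_0 : allFrom (e_2_F (nat_lit 7)) (nat_lit 0) (nat_lit 4) = true := by decide +kernel

noncomputable def C : List Lvl := [⟨(nat_lit 1), [[(nat_lit 7)],
  [(nat_lit 5)],
  [(nat_lit 3)],
  [(nat_lit 1)]], (nat_lit 3)⟩,
  ⟨(nat_lit 0), [[(nat_lit 5)],
  [(nat_lit 3)],
  [(nat_lit 1)]], (nat_lit 4)⟩,
  ⟨(nat_lit 5), [[(nat_lit 3)],
  [(nat_lit 1)]], (nat_lit 4)⟩]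

noncomputable def UV : List (List Nat) := [[(nat_lit 31), (nat_lit 0x1ffffffffffffffe0), (nat_lit 0), (nat_lit 0), (nat_lit 0), (nat_lit 0), (nat_lit 0), (nat_lit 0), (nat_lit 0), (nat_lit 0), (nat_lit 0), (nat_lit 0), (nat_lit 0), (nat_lit 0), (nat_lit 0), (nat_lit 0)],
  [(nat_lit 0x10020820000000400), (nat_lit 63), (nat_lit 0x800400808400000), (nat_lit 0x4000080404200000), (nat_lit 0x401010000021000), (nat_lit 0x88008000010800), (nat_lit 0x210004000104000), (nat_lit 0x8000200222000000), (nat_lit 64), (nat_lit 0x102002000082000), (nat_lit 128), (nat_lit 0x1000100111000000), (nat_lit 256), (nat_lit 0x20000400c0800000), (nat_lit 0x44001000048000), (nat_lit 512)],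
  [(nat_lit 992), (nat_lit 1025), (nat_lit 0x300000000038000), (nat_lit 0x14000000081800), (nat_lit 0xa00000000d000000), (nat_lit 0x300040600000), (nat_lit 0x5000440200000000), (nat_lit 0x44a004000000000), (nat_lit 0x20000000004), (nat_lit 0x808b0000000), (nat_lit 0x800000000010), (nat_lit 0x100a000140000), (nat_lit 0x20000000000002), (nat_lit 0x80011000006000), (nat_lit 0x800000502800000), (nat_lit 0x10000000000000008)]]
noncomputable def Uσ : Net := (Net.cons (nat_lit 1) (nat_lit 0x4155100050115004) (Net.cons (nat_lit 2) (nat_lit 0x1002220211000000) (Net.cons (nat_lit 4) (nat_lit 0x90b080403060500) (Net.cons (nat_lit 8) (nat_lit 0x8b004e00060000) (Net.cons (nat_lit 16) (nat_lit 0x740200000000) (Net.cons (nat_lit 64) (nat_lit 1) (Net.cons (nat_lit 32) (nat_lit 472999999) (Net.cons (nat_lit 16) (nat_lit 0xc27f000089e2) (Net.cons (nat_lit 8) (nat_lit 0x1e001b0001000f) (Net.cons (nat_lit 4) (nat_lit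 0xe0d0a0d070a0b05) (Net.cons (nat_lit 2) (nat_lit 0x1032133021230310) (Net.cons (nat_lit 1) (nat_lit 0x444454145400451) Net.nil))))))))))))
noncomputable def UCs : List (List Nat) := [[(nat_lit 0), (nat_lit 0x1ffffffffffffffe0), (nat_lit 0), (nat_lit 0), (nat_lit 0), (nat_lit 8), (nat_lit 2), (nat_lit 1), (nat_lit 0), (nat_lit 0), (nat_lit 16), (nat_lit 0), (nat_lit 0), (nat_lit 4), (nat_lit 0), (nat_lit 0)],
  [(nat_lit 0), (nat_lit 0), (nat_lit 0), (nat_lit 0), (nat_lit 0), (nat_lit 0), (nat_lit 0), (nat_lit 0), (nat_lit 0), (nat_lit 0), (nat_lit 0), (nat_lit 0), (nat_lit 0x1ffffffffffffffe0), (nat_lit 0), (nat_lit 0), (nat_lit 31)],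
  [(nat_lit 0), (nat_lit 16394), (nat_lit 0x1040000020012000), (nat_lit 0x400008800200000), (nat_lit 0x2004200000020004), (nat_lit 0x10402000800000), (nat_lit 0x800080000840), (nat_lit 0x5401000000), (nat_lit 0x4002000000000480), (nat_lit 0x800040000180010), (nat_lit 0x180000310000000), (nat_lit 0x220000002000020), (nat_lit 0x9080000400001), (nat_lit 0x1000000000c040100), (nat_lit 0x8000000040009000), (nat_lit 0x130000000200)],
  [(nat_lit 0), (nat_lit 0x8000000000000000), (nat_lit 4227072), (nat_lit 0x400002000), (nat_lit 0x4410001000080), (nat_lit 0x2002080000010100), (nat_lit 0x10108001000101000), (nat_lit 0x400000140000828), (nat_lit 0x800000020044040), (nat_lit 0x40000000002), (nat_lit 0x40c0b00000000001), (nat_lit 0x11020084000000), (nat_lit 0x8028a0410), (nat_lit 0x102000c008000000), (nat_lit 268435460), (nat_lit 0x200002200200200)]]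
noncomputable def UA : List (List (List Nat)) := [[[1, 0, 0], [0, 2, 4], [0, 5, 3]],
  [[10, 0, 0], [0, 8, 0], [0, 0, 8]],
  [[1, 4, 14], [5, 9, 15], [9, 10, 9]],
  [[7, 1, 13], [1, 6, 5], [11, 4, 0]]]
noncomputable def UD : List (List (List (List Nat))) := [[[[1, 0, 0], [0, 1, 0], [0, 11, 1]],
  [[1, 0, 0], [0, 2, 4], [0, 0, 9]]],
 [[[10, 0, 0], [0, 8, 0], [0, 0, 8]]],
 [[[1, 0, 0], [5, 1, 0], [9, 11, 1]],
  [[1, 4, 14], [0, 14, 12], [0, 0, 3]]],
 [[[1, 0, 0], [0, 1, 1], [0, 0, 1]],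
  [[1, 0, 0], [9, 1, 0], [15, 1, 1]],
  [[7, 1, 13], [0, 11, 10], [0, 0, 13]]]]
noncomputable def y3 : List Nat := [(nat_lit 4), (nat_lit 1)]
noncomputable def T3 : Tr := (.sym [[1], [3]] (.cons [] 0 15 (.op 2 0 (.xor 0 1 (.focus 0 (.sym [[1], [3]] (.cons [] 0 15 .triv (.cons [2] 4 0 (.op 5 0 (.and 1 0 (.dead0 0))) (.cons [1] 4 0 (.op 5 0 (.and 1 0 (.dead0 0))) (.cons [2, 2] 2 0 (.op 5 0 (.and 1 0 (.dead0 0))) (.cons [2, 6, 1] 4 0 (.op 5 0 (.and 1 0 (.dead0 0))) (.cons [2, 5, 1] 4 0 (.op 5 0 (.and 1 0 (.dead0 0))) .nil)))))))))) (.cons [1] 4 0 (.op 5 0 (.and 1 0 (.dead0 0))) (.cons [4, 1] 4 0 (.op 5 0 (.and 1 0 (.dead0 0))) (.cons [3, 1] 4 0 (.op 5 0 (.and 1 0 (.dead0 0))) (.cons [1, 7, 1] 4 0 (.op 5 0 (.and 1 0 (.dead0 0))) (.cons [1, 6, 3, 1] 2 0 (.op 5 0 (.and 1 0 (.dead0 0))) (.cons [1, 3, 7, 4, 1] 0 0 (.op 2 0 (.xor 0 1 (.focus 0 (.sym [[1], [3]] (.cons [] 4 0 (.op 5 0 (.and 1 0 (.dead0 0)))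 (.cons [1] 4 0 (.op 5 0 (.and 1 0 (.dead0 0))) (.cons [2] 4 0 (.op 5 0 (.and 1 0 (.dead0 0))) (.cons [6, 2] 0 0 (.base (nat_lit 0xa0004405306003e0) (.focus 0 (.sym [[1], [3]] (.cons [] 4 0 (.base (nat_lit 4) (.op 4 0 (.base (nat_lit 8) (.and 1 0 (.dead0 0))))) .nil)))) (.cons [6, 1] 2 0 (.op 5 0 (.and 1 0 (.dead0 0))) (.cons [3, 2] 4 0 (.op 5 0 (.and 1 0 (.dead0 0))) .nil)))))))))) .nil))))))))
noncomputable def T3K : List (List Nat) := [[3], [1]]
noncomputable def T3F : List (List Nat) := [[], [1]]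
noncomputable def y13 : List Nat := [(nat_lit 1), (nat_lit 7), (nat_lit 5)]
noncomputable def T13_1 : Tr := (.cons [3, 3, 1] 0 0 (.base (nat_lit 0xa0004405306003e0) (.and 0 23 (.dead0 0))) (.cons [3, 6, 1] 0 0 (.base (nat_lit 0xa0004405306003e0) (.and 0 23 (.dead0 0))) (.cons [2, 6, 1] 0 0 (.base (nat_lit 0xa0004405306003e0) (.and 0 25 (.dead0 0))) (.cons [5, 4, 1] 0 0 (.base (nat_lit 0xa0004405306003e0) (.and 0 17 (.dead0 0))) (.cons [3, 5, 2] 0 0 (.base (nat_lit 0xa0004405306003e0) (.and 0 21 (.dead0 0))) (.cons [6, 2, 2] 0 0 (.base (nat_lit 0xa0004405306003e0) (.and 0 23 (.dead0 0))) (.cons [1, 3, 2] 0 0 (.base (nat_lit 0xa0004405306003e0) (.and 0 23 (.dead0 0))) (.cons [3, 3, 2] 0 0 (.base (nat_lit 0xa0004405306003e0) (.and 0 25 (.dead0 0))) (.cons [1, 4, 1] 0 0 (.base (nat_lit 0xa0004405306003e0) (.and 0 23 (.dead0 0))) (.cons [4, 4, 1] 0 0 (.base (nat_lit 0xa0004405306003e0) (.and 0 25 (.dead0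 0))) (.cons [2, 4, 1] 0 0 (.base (nat_lit 0xa0004405306003e0) (.and 0 23 (.dead0 0))) (.cons [4, 6, 2] 0 0 (.base (nat_lit 0xa0004405306003e0) (.and 0 23 (.dead0 0))) (.cons [4, 4, 2] 0 0 (.base (nat_lit 0xa0004405306003e0) (.and 0 23 (.dead0 0))) (.cons [1, 6, 2] 0 0 (.base (nat_lit 0xa0004405306003e0) (.and 0 23 (.dead0 0))) (.cons [4, 5, 2] 0 0 (.base (nat_lit 0xa0004405306003e0) (.and 0 25 (.dead0 0))) (.cons [6, 4, 1] 0 0 (.base (nat_lit 0xa0004405306003e0) (.and 0 23 (.dead0 0))) (.cons [2, 5, 1] 0 0 (.base (nat_lit 0xa0004405306003e0) (.and 0 21 (.dead0 0))) (.cons [1, 4, 4, 2] 0 0 (.base (nat_lit 0xa0004405306003e0) (.and 0 23 (.dead0 0))) (.cons [5, 3, 3, 1] 0 0 (.base (nat_lit 0xa0004405306003e0) (.and 0 25 (.dead0 0))) (.cons [2, 4, 5, 2] 0 0 (.base (nat_lit 0xa0004405306003e0) (.and 0 23 (.dead0 0))) (.cons [1, 6, 2, 2] 0 0 (.base (nat_lit 0xa0004405306003e0) (.and 0 13 (.dead0 0)))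 (.cons [3, 1, 4, 1] 0 0 (.base (nat_lit 0xa0004405306003e0) (.and 0 25 (.dead0 0))) (.cons [1, 4, 6, 2] 0 0 (.base (nat_lit 0xa0004405306003e0) (.and 0 23 (.dead0 0))) (.cons [6, 3, 3, 1] 0 0 (.base (nat_lit 0xa0004405306003e0) (.and 0 23 (.dead0 0))) (.cons [6, 4, 4, 2] 0 0 (.base (nat_lit 0xa0004405306003e0) (.and 0 19 (.dead0 0))) (.cons [4, 6, 4, 1] 0 0 (.base (nat_lit 0xa0004405306003e0) (.and 0 23 (.dead0 0))) (.cons [4, 2, 6, 1] 0 0 (.base (nat_lit 0xa0004405306003e0) (.and 0 23 (.dead0 0))) (.cons [5, 1, 4, 1] 0 0 (.base (nat_lit 0xa0004405306003e0) (.op 7 1 (.and 1 0 (.dead0 0)))) (.cons [3, 1, 5, 2] 0 0 (.base (nat_lit 0xa0004405306003e0) (.and 0 23 (.dead0 0))) (.cons [2, 5, 4, 1] 0 0 (.base (nat_lit 0xa0004405306003e0) (.and 0 23 (.dead0 0))) (.cons [1, 3, 5, 2] 0 0 (.base (nat_lit 0xa0004405306003e0) (.and 0 23 (.dead0 0))) (.cons [4, 4, 5, 2] 0 0 (.base (nat_lit 0xa0004405306003e0)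 (.and 0 21 (.dead0 0))) (.cons [6, 2, 3, 2] 0 0 (.base (nat_lit 0xa0004405306003e0) (.and 0 23 (.dead0 0))) (.cons [6, 1, 4, 1] 0 0 (.base (nat_lit 0xa0004405306003e0) (.and 0 23 (.dead0 0))) (.cons [2, 3, 3, 1] 0 0 (.base (nat_lit 0xa0004405306003e0) (.and 0 23 (.dead0 0))) (.cons [1, 4, 4, 5, 2] 0 0 (.base (nat_lit 0xa0004405306003e0) (.and 0 23 (.dead0 0))) (.cons [4, 1, 4, 4, 2] 0 0 (.base (nat_lit 0xa0004405306003e0) (.and 0 25 (.dead0 0))) (.cons [2, 4, 4, 5, 2] 0 0 (.base (nat_lit 0xa0004405306003e0) (.and 0 23 (.dead0 0))) (.cons [4, 1, 6, 2, 2] 0 0 (.base (nat_lit 0xa0004405306003e0) (.and 0 15 (.dead0 0))) (.cons [6, 2, 3, 6, 1] 0 0 (.base (nat_lit 0xa0004405306003e0) (.and 0 23 (.dead0 0))) .nil))))))))))))))))))))))))))))))))))))))))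
noncomputable def T13_2 : Tr := (.cons [2, 3, 2] 0 0 (.base (nat_lit 0xa0004405306003e0) (.and 0 23 (.dead0 0))) (.cons [2, 5, 1] 0 0 (.base (nat_lit 0xa0004405306003e0) (.and 0 23 (.dead0 0))) (.cons [5, 4, 1] 0 0 (.base (nat_lit 0xa0004405306003e0) (.and 0 17 (.dead0 0))) (.cons [2, 4, 1] 0 0 (.base (nat_lit 0xa0004405306003e0) (.and 0 25 (.dead0 0))) (.cons [3, 6, 1] 0 0 (.base (nat_lit 0xa0004405306003e0) (.and 0 25 (.dead0 0))) (.cons [1, 4, 1] 0 0 (.base (nat_lit 0xa0004405306003e0) (.and 0 23 (.dead0 0))) (.cons [3, 5, 2] 0 0 (.base (nat_lit 0xa0004405306003e0) (.and 0 23 (.dead0 0))) (.cons [3, 5, 1] 0 0 (.base (nat_lit 0xa0004405306003e0) (.and 0 23 (.dead0 0))) (.cons [3, 3, 2] 0 0 (.base (nat_lit 0xa0004405306003e0) (.and 0 23 (.dead0 0))) (.cons [4, 4, 1] 0 0 (.base (nat_lit 0xa0004405306003e0) (.and 0 25 (.dead0 0))) (.cons [1, 6, 2] 0 0 (.base (nat_lit 0xa0004405306003e0) (.and 0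 25 (.dead0 0))) (.cons [1, 3, 2] 0 0 (.base (nat_lit 0xa0004405306003e0) (.and 0 15 (.dead0 0))) (.cons [6, 2, 2] 0 0 (.base (nat_lit 0xa0004405306003e0) (.and 0 23 (.dead0 0))) (.cons [4, 4, 2] 0 0 (.base (nat_lit 0xa0004405306003e0) (.and 0 23 (.dead0 0))) (.cons [6, 4, 1] 0 0 (.base (nat_lit 0xa0004405306003e0) (.and 0 25 (.dead0 0))) (.cons [2, 6, 1] 0 0 (.base (nat_lit 0xa0004405306003e0) (.and 0 23 (.dead0 0))) (.cons [1, 4, 4, 2] 0 0 (.base (nat_lit 0xa0004405306003e0) (.and 0 23 (.dead0 0))) (.cons [2, 4, 5, 2] 0 0 (.base (nat_lit 0xa0004405306003e0) (.and 0 19 (.dead0 0))) (.cons [5, 3, 3, 1] 0 0 (.base (nat_lit 0xa0004405306003e0) (.and 0 23 (.dead0 0))) (.cons [5, 2, 4, 1] 0 0 (.base (nat_lit 0xa0004405306003e0) (.and 0 25 (.dead0 0))) (.cons [6, 4, 4, 2] 0 0 (.base (nat_lit 0xa0004405306003e0) (.and 0 25 (.dead0 0))) (.cons [4, 2, 5, 1] 0 0 (.base (nat_lit 0xa0004405306003e0) (.op 7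 1 (.and 1 0 (.dead0 0)))) (.cons [2, 3, 6, 1] 0 0 (.base (nat_lit 0xa0004405306003e0) (.and 0 23 (.dead0 0))) (.cons [6, 1, 4, 1] 0 0 (.base (nat_lit 0xa0004405306003e0) (.and 0 23 (.dead0 0))) (.cons [6, 3, 3, 1] 0 0 (.base (nat_lit 0xa0004405306003e0) (.and 0 23 (.dead0 0))) (.cons [4, 2, 3, 2] 0 0 (.base (nat_lit 0xa0004405306003e0) (.and 0 23 (.dead0 0))) (.cons [3, 1, 4, 1] 0 0 (.base (nat_lit 0xa0004405306003e0) (.and 0 23 (.dead0 0))) (.cons [4, 6, 4, 1] 0 0 (.base (nat_lit 0xa0004405306003e0) (.and 0 23 (.dead0 0))) (.cons [1, 4, 6, 2] 0 0 (.base (nat_lit 0xa0004405306003e0) (.and 0 23 (.dead0 0))) (.cons [1, 3, 5, 2] 0 0 (.base (nat_lit 0xa0004405306003e0) (.and 0 23 (.dead0 0))) (.cons [1, 6, 2, 2] 0 0 (.base (nat_lit 0xa0004405306003e0) (.and 0 23 (.dead0 0))) (.cons [6, 2, 3, 2] 0 0 (.base (nat_lit 0xa0004405306003e0) (.and 0 15 (.dead0 0))) (.cons [3, 1, 5, 2] 0 0 (.base (nat_lit 0xa0004405306003e0)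 (.and 0 19 (.dead0 0))) (.cons [2, 5, 4, 1] 0 0 (.base (nat_lit 0xa0004405306003e0) (.and 0 25 (.dead0 0))) (.cons [2, 3, 3, 1] 0 0 (.base (nat_lit 0xa0004405306003e0) (.and 0 23 (.dead0 0))) (.cons [2, 6, 2, 2] 0 0 (.base (nat_lit 0xa0004405306003e0) (.and 0 23 (.dead0 0))) (.cons [6, 2, 3, 6, 1] 0 0 (.base (nat_lit 0xa0004405306003e0) (.and 0 23 (.dead0 0))) (.cons [2, 4, 4, 5, 2] 0 0 (.base (nat_lit 0xa0004405306003e0) (.and 0 23 (.dead0 0))) (.cons [4, 1, 4, 4, 2] 0 0 (.base (nat_lit 0xa0004405306003e0) (.and 0 23 (.dead0 0))) (.cons [4, 1, 6, 2, 2] 0 0 (.base (nat_lit 0xa0004405306003e0) (.and 0 13 (.dead0 0))) .nil))))))))))))))))))))))))))))))))))))))))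
noncomputable def T13_3 : Tr := (.cons [4, 5, 2] 0 0 (.base (nat_lit 0xa0004405306003e0) (.and 0 15 (.dead0 0))) (.cons [5, 4, 1] 0 0 (.base (nat_lit 0xa0004405306003e0) (.and 0 23 (.dead0 0))) (.cons [2, 6, 1] 0 0 (.base (nat_lit 0xa0004405306003e0) (.and 0 23 (.dead0 0))) (.cons [4, 6, 2] 0 0 (.base (nat_lit 0xa0004405306003e0) (.and 0 23 (.dead0 0))) (.cons [3, 6, 2] 0 0 (.base (nat_lit 0xa0004405306003e0) (.and 0 23 (.dead0 0))) (.cons [1, 3, 2] 0 0 (.base (nat_lit 0xa0004405306003e0) (.and 0 23 (.dead0 0))) (.cons [3, 5, 1] 0 0 (.base (nat_lit 0xa0004405306003e0) (.and 0 21 (.dead0 0))) (.cons [2, 3, 2] 0 0 (.base (nat_lit 0xa0004405306003e0) (.and 0 25 (.dead0 0))) (.cons [1, 6, 2] 0 0 (.base (nat_lit 0xa0004405306003e0) (.and 0 17 (.dead0 0))) (.cons [4, 4, 2] 0 0 (.base (nat_lit 0xa0004405306003e0) (.and 0 23 (.dead0 0))) (.cons [5, 2, 2] 0 0 (.base (nat_lit 0xa0004405306003e0) (.and 0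 25 (.dead0 0))) (.cons [3, 5, 2] 0 0 (.base (nat_lit 0xa0004405306003e0) (.and 0 25 (.dead0 0))) (.cons [6, 2, 2] 0 0 (.base (nat_lit 0xa0004405306003e0) (.and 0 23 (.dead0 0))) (.cons [2, 4, 1] 0 0 (.base (nat_lit 0xa0004405306003e0) (.and 0 23 (.dead0 0))) (.cons [4, 4, 1] 0 0 (.base (nat_lit 0xa0004405306003e0) (.and 0 23 (.dead0 0))) (.cons [3, 3, 2] 0 0 (.base (nat_lit 0xa0004405306003e0) (.and 0 25 (.dead0 0))) (.cons [1, 4, 4, 2] 0 0 (.base (nat_lit 0xa0004405306003e0) (.op 7 1 (.and 1 0 (.dead0 0)))) (.cons [5, 3, 3, 1] 0 0 (.base (nat_lit 0xa0004405306003e0) (.and 0 25 (.dead0 0))) (.cons [2, 4, 5, 2] 0 0 (.base (nat_lit 0xa0004405306003e0) (.and 0 23 (.dead0 0))) (.cons [3, 1, 4, 1] 0 0 (.base (nat_lit 0xa0004405306003e0) (.and 0 23 (.dead0 0))) (.cons [6, 1, 4, 1] 0 0 (.base (nat_lit 0xa0004405306003e0) (.and 0 13 (.dead0 0))) (.cons [2, 3, 3, 1] 0 0 (.base (nat_lit 0xa0004405306003e0)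 (.and 0 25 (.dead0 0))) (.cons [1, 4, 6, 2] 0 0 (.base (nat_lit 0xa0004405306003e0) (.and 0 23 (.dead0 0))) (.cons [2, 6, 2, 2] 0 0 (.base (nat_lit 0xa0004405306003e0) (.and 0 21 (.dead0 0))) (.cons [2, 5, 4, 1] 0 0 (.base (nat_lit 0xa0004405306003e0) (.and 0 23 (.dead0 0))) (.cons [3, 1, 5, 2] 0 0 (.base (nat_lit 0xa0004405306003e0) (.and 0 23 (.dead0 0))) (.cons [4, 2, 3, 2] 0 0 (.base (nat_lit 0xa0004405306003e0) (.and 0 21 (.dead0 0))) (.cons [6, 4, 4, 2] 0 0 (.base (nat_lit 0xa0004405306003e0) (.and 0 23 (.dead0 0))) (.cons [1, 3, 5, 2] 0 0 (.base (nat_lit 0xa0004405306003e0) (.and 0 25 (.dead0 0))) (.cons [6, 3, 3, 1] 0 0 (.base (nat_lit 0xa0004405306003e0) (.and 0 23 (.dead0 0))) (.cons [4, 2, 5, 1] 0 0 (.base (nat_lit 0xa0004405306003e0) (.and 0 23 (.dead0 0))) (.cons [5, 1, 4, 1] 0 0 (.base (nat_lit 0xa0004405306003e0) (.and 0 23 (.dead0 0))) (.cons [4, 6, 4, 1] 0 0 (.base (nat_lit 0xa0004405306003e0)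 (.and 0 25 (.dead0 0))) (.cons [2, 3, 6, 1] 0 0 (.base (nat_lit 0xa0004405306003e0) (.and 0 23 (.dead0 0))) (.cons [1, 4, 4, 5, 2] 0 0 (.base (nat_lit 0xa0004405306003e0) (.and 0 25 (.dead0 0))) (.cons [4, 1, 6, 2, 2] 0 0 (.base (nat_lit 0xa0004405306003e0) (.and 0 25 (.dead0 0))) (.cons [2, 4, 4, 5, 2] 0 0 (.base (nat_lit 0xa0004405306003e0) (.and 0 23 (.dead0 0))) (.cons [5, 1, 4, 4, 2] 0 0 (.base (nat_lit 0xa0004405306003e0) (.and 0 23 (.dead0 0))) (.cons [6, 2, 3, 6, 1] 0 0 (.base (nat_lit 0xa0004405306003e0) (.and 0 23 (.dead0 0))) (.cons [4, 1, 4, 4, 2] 0 0 (.base (nat_lit 0xa0004405306003e0) (.and 0 19 (.dead0 0))) .nil))))))))))))))))))))))))))))))))))))))))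
noncomputable def T13_4 : Tr := (.cons [3, 3, 1] 0 0 (.base (nat_lit 0xa0004405306003e0) (.and 0 25 (.dead0 0))) (.cons [1, 4, 1] 0 0 (.base (nat_lit 0xa0004405306003e0) (.and 0 23 (.dead0 0))) (.cons [1, 6, 2] 0 0 (.base (nat_lit 0xa0004405306003e0) (.and 0 19 (.dead0 0))) (.cons [3, 6, 1] 0 0 (.base (nat_lit 0xa0004405306003e0) (.and 0 23 (.dead0 0))) (.cons [2, 4, 1] 0 0 (.base (nat_lit 0xa0004405306003e0) (.and 0 25 (.dead0 0))) (.cons [2, 3, 2] 0 0 (.base (nat_lit 0xa0004405306003e0) (.and 0 25 (.dead0 0))) (.cons [3, 6, 2] 0 0 (.base (nat_lit 0xa0004405306003e0) (.and 0 19 (.dead0 0))) (.cons [3, 5, 1] 0 0 (.base (nat_lit 0xa0004405306003e0) (.and 0 25 (.dead0 0))) (.cons [4, 6, 2] 0 0 (.base (nat_lit 0xa0004405306003e0) (.and 0 25 (.dead0 0))) (.cons [1, 5, 2] 0 0 (.base (nat_lit 0xa0004405306003e0) (.and 0 23 (.dead0 0))) (.cons [5, 2, 2] 0 0 (.base (nat_lit 0xa0004405306003e0) (.and 0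 23 (.dead0 0))) (.cons [2, 6, 1] 0 0 (.base (nat_lit 0xa0004405306003e0) (.and 0 23 (.dead0 0))) (.cons [5, 4, 1] 0 0 (.base (nat_lit 0xa0004405306003e0) (.op 7 1 (.and 1 0 (.dead0 0)))) (.cons [1, 3, 2] 0 0 (.base (nat_lit 0xa0004405306003e0) (.and 0 19 (.dead0 0))) (.cons [6, 4, 1] 0 0 (.base (nat_lit 0xa0004405306003e0) (.and 0 23 (.dead0 0))) (.cons [4, 4, 2] 0 0 (.base (nat_lit 0xa0004405306003e0) (.and 0 25 (.dead0 0))) (.cons [4, 4, 1] 0 0 (.base (nat_lit 0xa0004405306003e0) (.and 0 23 (.dead0 0))) (.cons [4, 6, 4, 1] 0 0 (.base (nat_lit 0xa0004405306003e0) (.and 0 23 (.dead0 0))) (.cons [1, 4, 4, 2] 0 0 (.base (nat_lit 0xa0004405306003e0) (.and 0 9 (.dead0 0))) (.cons [2, 3, 3, 1] 0 0 (.base (nat_lit 0xa0004405306003e0) (.and 0 25 (.dead0 0))) (.cons [6, 2, 3, 2] 0 0 (.base (nat_lit 0xa0004405306003e0) (.and 0 23 (.dead0 0))) (.cons [2, 6, 2, 2] 0 0 (.base (nat_lit 0xa0004405306003e0) (.and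 0 23 (.dead0 0))) (.cons [5, 1, 4, 1] 0 0 (.base (nat_lit 0xa0004405306003e0) (.and 0 23 (.dead0 0))) (.cons [6, 1, 4, 1] 0 0 (.base (nat_lit 0xa0004405306003e0) (.and 0 23 (.dead0 0))) (.cons [2, 5, 4, 1] 0 0 (.base (nat_lit 0xa0004405306003e0) (.and 0 17 (.dead0 0))) (.cons [4, 2, 5, 1] 0 0 (.base (nat_lit 0xa0004405306003e0) (.and 0 23 (.dead0 0))) (.cons [2, 3, 6, 1] 0 0 (.base (nat_lit 0xa0004405306003e0) (.and 0 23 (.dead0 0))) (.cons [5, 3, 3, 1] 0 0 (.base (nat_lit 0xa0004405306003e0) (.and 0 23 (.dead0 0))) (.cons [6, 4, 4, 2] 0 0 (.base (nat_lit 0xa0004405306003e0) (.and 0 23 (.dead0 0))) (.cons [5, 2, 4, 1] 0 0 (.base (nat_lit 0xa0004405306003e0) (.and 0 25 (.dead0 0))) (.cons [6, 3, 3, 1] 0 0 (.base (nat_lit 0xa0004405306003e0) (.and 0 23 (.dead0 0))) (.cons [3, 1, 4, 1] 0 0 (.base (nat_lit 0xa0004405306003e0) (.and 0 23 (.dead0 0))) (.cons [4, 2, 3, 2] 0 0 (.base (nat_lit 0xa0004405306003e0)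 (.and 0 7 (.dead0 0))) (.cons [5, 2, 3, 2] 0 0 (.base (nat_lit 0xa0004405306003e0) (.and 0 23 (.dead0 0))) (.cons [4, 2, 6, 1] 0 0 (.base (nat_lit 0xa0004405306003e0) (.and 0 23 (.dead0 0))) (.cons [1, 6, 2, 2] 0 0 (.base (nat_lit 0xa0004405306003e0) (.and 0 25 (.dead0 0))) (.cons [4, 1, 6, 2, 2] 0 0 (.base (nat_lit 0xa0004405306003e0) (.and 0 23 (.dead0 0))) (.cons [2, 4, 4, 5, 2] 0 0 (.base (nat_lit 0xa0004405306003e0) (.and 0 25 (.dead0 0))) (.cons [4, 1, 4, 4, 2] 0 0 (.base (nat_lit 0xa0004405306003e0) (.and 0 25 (.dead0 0))) (.cons [5, 1, 4, 4, 2] 0 0 (.base (nat_lit 0xa0004405306003e0) (.and 0 11 (.dead0 0))) .nil))))))))))))))))))))))))))))))))))))))))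
noncomputable def T13_5 : Tr := (.cons [6, 2, 2] 0 0 (.base (nat_lit 0xa0004405306003e0) (.and 0 25 (.dead0 0))) (.cons [5, 2, 2] 0 0 (.base (nat_lit 0xa0004405306003e0) (.and 0 23 (.dead0 0))) (.cons [4, 5, 2] 0 0 (.base (nat_lit 0xa0004405306003e0) (.and 0 23 (.dead0 0))) (.cons [2, 4, 1] 0 0 (.base (nat_lit 0xa0004405306003e0) (.and 0 19 (.dead0 0))) (.cons [3, 5, 2] 0 0 (.base (nat_lit 0xa0004405306003e0) (.and 0 23 (.dead0 0))) (.cons [5, 4, 1] 0 0 (.base (nat_lit 0xa0004405306003e0) (.and 0 25 (.dead0 0))) (.cons [6, 4, 1] 0 0 (.base (nat_lit 0xa0004405306003e0) (.and 0 23 (.dead0 0))) (.cons [3, 6, 1] 0 0 (.base (nat_lit 0xa0004405306003e0) (.and 0 21 (.dead0 0))) (.cons [2, 5, 1] 0 0 (.base (nat_lit 0xa0004405306003e0) (.and 0 23 (.dead0 0))) (.cons [3, 3, 2] 0 0 (.base (nat_lit 0xa0004405306003e0) (.and 0 23 (.dead0 0))) (.cons [1, 6, 2] 0 0 (.base (nat_lit 0xa0004405306003e0) (.and 0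 23 (.dead0 0))) (.cons [4, 4, 1] 0 0 (.base (nat_lit 0xa0004405306003e0) (.and 0 25 (.dead0 0))) (.cons [3, 5, 1] 0 0 (.base (nat_lit 0xa0004405306003e0) (.and 0 17 (.dead0 0))) (.cons [3, 6, 2] 0 0 (.base (nat_lit 0xa0004405306003e0) (.and 0 23 (.dead0 0))) (.cons [1, 3, 2] 0 0 (.base (nat_lit 0xa0004405306003e0) (.and 0 23 (.dead0 0))) (.cons [4, 6, 2] 0 0 (.base (nat_lit 0xa0004405306003e0) (.and 0 23 (.dead0 0))) (.cons [4, 4, 5, 2] 0 0 (.base (nat_lit 0xa0004405306003e0) (.and 0 23 (.dead0 0))) (.cons [2, 3, 6, 1] 0 0 (.base (nat_lit 0xa0004405306003e0) (.and 0 25 (.dead0 0))) (.cons [3, 1, 5, 2] 0 0 (.base (nat_lit 0xa0004405306003e0) (.and 0 23 (.dead0 0))) (.cons [6, 4, 4, 2] 0 0 (.base (nat_lit 0xa0004405306003e0) (.and 0 23 (.dead0 0))) (.cons [2, 6, 2, 2] 0 0 (.base (nat_lit 0xa0004405306003e0) (.and 0 25 (.dead0 0))) (.cons [4, 2, 3, 2] 0 0 (.base (nat_lit 0xa0004405306003e0) (.and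 0 23 (.dead0 0))) (.cons [5, 2, 4, 1] 0 0 (.base (nat_lit 0xa0004405306003e0) (.and 0 25 (.dead0 0))) (.cons [4, 2, 5, 1] 0 0 (.base (nat_lit 0xa0004405306003e0) (.and 0 9 (.dead0 0))) (.cons [1, 4, 6, 2] 0 0 (.base (nat_lit 0xa0004405306003e0) (.and 0 23 (.dead0 0))) (.cons [2, 5, 4, 1] 0 0 (.base (nat_lit 0xa0004405306003e0) (.and 0 23 (.dead0 0))) (.cons [5, 2, 3, 2] 0 0 (.base (nat_lit 0xa0004405306003e0) (.and 0 25 (.dead0 0))) (.cons [2, 4, 5, 2] 0 0 (.base (nat_lit 0xa0004405306003e0) (.and 0 25 (.dead0 0))) (.cons [4, 2, 6, 1] 0 0 (.base (nat_lit 0xa0004405306003e0) (.and 0 19 (.dead0 0))) (.cons [5, 1, 4, 1] 0 0 (.base (nat_lit 0xa0004405306003e0) (.and 0 11 (.dead0 0))) (.cons [3, 1, 4, 1] 0 0 (.base (nat_lit 0xa0004405306003e0) (.and 0 5 (.dead0 0))) (.cons [6, 2, 3, 2] 0 0 (.base (nat_lit 0xa0004405306003e0) (.and 0 23 (.dead0 0))) (.cons [2, 3, 3, 1] 0 0 (.base (nat_lit 0xa0004405306003e0)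 (.and 0 25 (.dead0 0))) (.cons [6, 1, 4, 1] 0 0 (.base (nat_lit 0xa0004405306003e0) (.and 0 23 (.dead0 0))) (.cons [5, 3, 3, 1] 0 0 (.base (nat_lit 0xa0004405306003e0) (.and 0 23 (.dead0 0))) (.cons [1, 4, 4, 5, 2] 0 0 (.base (nat_lit 0xa0004405306003e0) (.and 0 23 (.dead0 0))) (.cons [6, 2, 3, 6, 1] 0 0 (.base (nat_lit 0xa0004405306003e0) (.and 0 23 (.dead0 0))) (.cons [2, 4, 4, 5, 2] 0 0 (.base (nat_lit 0xa0004405306003e0) (.and 0 23 (.dead0 0))) (.cons [4, 1, 4, 4, 2] 0 0 (.base (nat_lit 0xa0004405306003e0) (.and 0 23 (.dead0 0))) (.cons [4, 1, 6, 2, 2] 0 0 (.base (nat_lit 0xa0004405306003e0) (.and 0 23 (.dead0 0))) .nil))))))))))))))))))))))))))))))))))))))))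
noncomputable def T13 : Tr := (.sym [[1]] (.cons [] 12 1 (.op 2 0 (.xor 0 1 (.focus 0 (.op 4 2 (.xor 2 0 (.focus 0 (.op 7 4 (.xor 4 0 (.focus 0 (.op 4 3 (.xor 6 0 (.focus 0 (.op 7 3 (.xor 8 0 (.focus 0 (.op 4 3 (.xor 10 0 (.focus 0 (.op 7 3 (.xor 12 0 (.focus 0 (.op 4 3 (.xor 14 0 (.focus 0 (.op 7 3 (.xor 16 0 (.focus 0 (.op 4 3 (.xor 18 0 (.focus 0 (.op 7 3 (.xor 20 0 (.focus 0 (.op 4 3 (.xor 22 0 (.focus 0 (.op 7 3 (.xor 24 0 (.focus 0 (.cons [] 0 1 (.base (nat_lit 0xa0004405306003e0) (.focus 0 (.op 7 1 (.focus 0 (.cons [] 0 1 .triv .nil))))) (.cons [2] 0 0 (.base (nat_lit 0xa0004405306003e0) (.and 0 23 (.dead0 0))) (.cons [1] 0 0 (.base (nat_lit 0xa0004405306003e0) (.and 0 23 (.dead0 0))) (.cons [2, 2] 0 0 (.base (nat_lit 0xa0004405306003e0) (.and 0 23 (.dead0 0))) (.cons [5, 2] 0 0 (.base (nat_lit 0xa0004405306003e0) (.and 0 7 (.dead0 0))) (.cons [4, 1] 0 0 (.base (nat_lit 0xa0004405306003e0)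 (.and 0 23 (.dead0 0))) (.cons [6, 2] 0 0 (.base (nat_lit 0xa0004405306003e0) (.and 0 23 (.dead0 0))) (.cons [6, 1] 0 0 (.base (nat_lit 0xa0004405306003e0) (.and 0 23 (.dead0 0))) (.cons [3, 2] 0 0 (.base (nat_lit 0xa0004405306003e0) (.and 0 23 (.dead0 0))) (.cons [5, 1] 0 0 (.base (nat_lit 0xa0004405306003e0) (.and 0 25 (.dead0 0))) (.cons [3, 1] 0 0 (.base (nat_lit 0xa0004405306003e0) (.and 0 25 (.dead0 0))) (.cons [4, 2] 0 0 (.base (nat_lit 0xa0004405306003e0) (.and 0 21 (.dead0 0))) T13_5))))))))))))))))))))))))))))))))))))))))))))))))))) (.cons [3, 1] 12 0 (.op 2 0 (.xor 0 1 (.focus 0 (.op 4 2 (.xor 2 0 (.focus 0 (.op 7 4 (.xor 4 0 (.focus 0 (.op 4 3 (.xor 6 0 (.focus 0 (.op 7 3 (.xor 8 0 (.focus 0 (.op 4 3 (.xor 10 0 (.focus 0 (.op 7 3 (.xor 12 0 (.focus 0 (.op 4 3 (.xor 14 0 (.focus 0 (.op 7 3 (.xor 16 0 (.focus 0 (.op 4 3 (.xor 18 0 (.focus 0 (.op 7 3 (.xor 20 0 (.focus 0 (.op 4 3 (.xor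 22 0 (.focus 0 (.op 7 3 (.xor 24 0 (.focus 0 (.cons [] 0 0 (.base (nat_lit 0xa0004405306003e0) (.and 0 23 (.dead0 0))) (.cons [2] 0 0 (.base (nat_lit 0xa0004405306003e0) (.and 0 23 (.dead0 0))) (.cons [2, 2] 0 0 (.base (nat_lit 0xa0004405306003e0) (.and 0 25 (.dead0 0))) (.cons [3, 1] 0 0 (.base (nat_lit 0xa0004405306003e0) (.and 0 23 (.dead0 0))) (.cons [5, 1] 0 0 (.base (nat_lit 0xa0004405306003e0) (.and 0 25 (.dead0 0))) (.cons [4, 1] 0 0 (.base (nat_lit 0xa0004405306003e0) (.and 0 25 (.dead0 0))) (.cons [5, 2] 0 0 (.base (nat_lit 0xa0004405306003e0) (.and 0 23 (.dead0 0))) (.cons [6, 2] 0 0 (.base (nat_lit 0xa0004405306003e0) (.and 0 23 (.dead0 0))) (.cons [3, 2] 0 0 (.base (nat_lit 0xa0004405306003e0) (.and 0 23 (.dead0 0))) (.cons [6, 1] 0 0 (.base (nat_lit 0xa0004405306003e0) (.and 0 23 (.dead0 0))) (.cons [3, 5, 2] 0 0 (.base (nat_lit 0xa0004405306003e0) (.and 0 23 (.dead0 0))) (.cons [4,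 5, 2] 0 0 (.base (nat_lit 0xa0004405306003e0) (.and 0 25 (.dead0 0))) T13_4))))))))))))))))))))))))))))))))))))))))))))))))))) (.cons [6, 1] 12 0 (.op 2 0 (.xor 0 1 (.focus 0 (.op 4 2 (.xor 2 0 (.focus 0 (.op 7 4 (.xor 4 0 (.focus 0 (.op 4 3 (.xor 6 0 (.focus 0 (.op 7 3 (.xor 8 0 (.focus 0 (.op 4 3 (.xor 10 0 (.focus 0 (.op 7 3 (.xor 12 0 (.focus 0 (.op 4 3 (.xor 14 0 (.focus 0 (.op 7 3 (.xor 16 0 (.focus 0 (.op 4 3 (.xor 18 0 (.focus 0 (.op 7 3 (.xor 20 0 (.focus 0 (.op 4 3 (.xor 22 0 (.focus 0 (.op 7 3 (.xor 24 0 (.focus 0 (.cons [2] 0 0 (.base (nat_lit 0xa0004405306003e0) (.and 0 25 (.dead0 0))) (.cons [1] 0 0 (.base (nat_lit 0xa0004405306003e0) (.and 0 23 (.dead0 0))) (.cons [3, 1] 0 0 (.base (nat_lit 0xa0004405306003e0) (.and 0 7 (.dead0 0))) (.cons [4, 1] 0 0 (.base (nat_lit 0xa0004405306003e0) (.and 0 23 (.dead0 0))) (.cons [6, 1] 0 0 (.base (nat_lit 0xa0004405306003e0) (.and 0 23 (.dead0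 0))) (.cons [5, 2] 0 0 (.base (nat_lit 0xa0004405306003e0) (.and 0 23 (.dead0 0))) (.cons [2, 2] 0 0 (.base (nat_lit 0xa0004405306003e0) (.and 0 23 (.dead0 0))) (.cons [5, 1] 0 0 (.base (nat_lit 0xa0004405306003e0) (.and 0 25 (.dead0 0))) (.cons [6, 2] 0 0 (.base (nat_lit 0xa0004405306003e0) (.and 0 25 (.dead0 0))) (.cons [4, 2] 0 0 (.base (nat_lit 0xa0004405306003e0) (.and 0 23 (.dead0 0))) (.cons [3, 3, 1] 0 0 (.base (nat_lit 0xa0004405306003e0) (.and 0 23 (.dead0 0))) (.cons [1, 5, 2] 0 0 (.base (nat_lit 0xa0004405306003e0) (.and 0 23 (.dead0 0))) T13_3))))))))))))))))))))))))))))))))))))))))))))))))))) (.cons [8, 1] 12 0 (.op 2 0 (.xor 0 1 (.focus 0 (.op 4 2 (.xor 2 0 (.focus 0 (.op 7 4 (.xor 4 0 (.focus 0 (.op 4 3 (.xor 6 0 (.focus 0 (.op 7 3 (.xor 8 0 (.focus 0 (.op 4 3 (.xor 10 0 (.focus 0 (.op 7 3 (.xor 12 0 (.focus 0 (.op 4 3 (.xor 14 0 (.focus 0 (.op 7 3 (.xor 16 0 (.focus 0 (.op 4 3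 (.xor 18 0 (.focus 0 (.op 7 3 (.xor 20 0 (.focus 0 (.op 4 3 (.xor 22 0 (.focus 0 (.op 7 3 (.xor 24 0 (.focus 0 (.cons [] 0 0 (.base (nat_lit 0xa0004405306003e0) (.and 0 23 (.dead0 0))) (.cons [1] 0 0 (.base (nat_lit 0xa0004405306003e0) (.and 0 13 (.dead0 0))) (.cons [2] 0 0 (.base (nat_lit 0xa0004405306003e0) (.and 0 25 (.dead0 0))) (.cons [6, 2] 0 0 (.base (nat_lit 0xa0004405306003e0) (.and 0 21 (.dead0 0))) (.cons [5, 1] 0 0 (.base (nat_lit 0xa0004405306003e0) (.and 0 23 (.dead0 0))) (.cons [3, 1] 0 0 (.base (nat_lit 0xa0004405306003e0) (.and 0 23 (.dead0 0))) (.cons [4, 2] 0 0 (.base (nat_lit 0xa0004405306003e0) (.and 0 23 (.dead0 0))) (.cons [3, 2] 0 0 (.base (nat_lit 0xa0004405306003e0) (.and 0 21 (.dead0 0))) (.cons [6, 1] 0 0 (.base (nat_lit 0xa0004405306003e0) (.and 0 23 (.dead0 0))) (.cons [4, 1] 0 0 (.base (nat_lit 0xa0004405306003e0) (.and 0 23 (.dead0 0))) (.cons [4, 5, 2] 0 0 (.base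 (nat_lit 0xa0004405306003e0) (.and 0 23 (.dead0 0))) (.cons [5, 2, 2] 0 0 (.base (nat_lit 0xa0004405306003e0) (.and 0 23 (.dead0 0))) T13_2))))))))))))))))))))))))))))))))))))))))))))))))))) (.cons [5, 5, 1] 12 0 (.op 2 0 (.xor 0 1 (.focus 0 (.op 4 2 (.xor 2 0 (.focus 0 (.op 7 4 (.xor 4 0 (.focus 0 (.op 4 3 (.xor 6 0 (.focus 0 (.op 7 3 (.xor 8 0 (.focus 0 (.op 4 3 (.xor 10 0 (.focus 0 (.op 7 3 (.xor 12 0 (.focus 0 (.op 4 3 (.xor 14 0 (.focus 0 (.op 7 3 (.xor 16 0 (.focus 0 (.op 4 3 (.xor 18 0 (.focus 0 (.op 7 3 (.xor 20 0 (.focus 0 (.op 4 3 (.xor 22 0 (.focus 0 (.op 7 3 (.xor 24 0 (.focus 0 (.cons [] 0 0 (.base (nat_lit 0xa0004405306003e0) (.and 0 23 (.dead0 0))) (.cons [1] 0 0 (.base (nat_lit 0xa0004405306003e0) (.and 0 25 (.dead0 0))) (.cons [2] 0 0 (.base (nat_lit 0xa0004405306003e0) (.and 0 23 (.dead0 0))) (.cons [3, 1] 0 0 (.base (nat_lit 0xa0004405306003e0) (.and 0 17 (.dead0 0))) (.cons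 [5, 2] 0 0 (.base (nat_lit 0xa0004405306003e0) (.and 0 23 (.dead0 0))) (.cons [6, 1] 0 0 (.base (nat_lit 0xa0004405306003e0) (.and 0 23 (.dead0 0))) (.cons [2, 2] 0 0 (.base (nat_lit 0xa0004405306003e0) (.and 0 15 (.dead0 0))) (.cons [3, 2] 0 0 (.base (nat_lit 0xa0004405306003e0) (.and 0 25 (.dead0 0))) (.cons [5, 1] 0 0 (.base (nat_lit 0xa0004405306003e0) (.and 0 19 (.dead0 0))) (.cons [4, 2] 0 0 (.base (nat_lit 0xa0004405306003e0) (.and 0 23 (.dead0 0))) (.cons [6, 2] 0 0 (.base (nat_lit 0xa0004405306003e0) (.and 0 23 (.dead0 0))) (.cons [4, 1] 0 0 (.base (nat_lit 0xa0004405306003e0) (.and 0 23 (.dead0 0))) T13_1))))))))))))))))))))))))))))))))))))))))))))))))))) .nil))))))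
noncomputable def T13K : List (List Nat) := [[7, 4, 5, 4, 4, 6, 1, 3]]
noncomputable def T13F : List (List Nat) := [[], [1]]
noncomputable def Wo : List (List Nat) := [[(nat_lit 7), (nat_lit 5)],
  [(nat_lit 3), (nat_lit 2)]]
noncomputable def Y : PK := ⟨5, 12, 16, 3, 205, 10⟩
noncomputable def M : List Nat := [(nat_lit 0x30002000000000002000100040003000400010000000000040003000300020004000100030000000000030004000000010003000000000003000400030001000100020004000400010004000200020003000100000003000200030000000400020002000100010000000000010003000200000004000400030000000200000004000200040000000300010001000400030003000400030004000400020002000400040003000400040000000200040001000300020004000400010000000000040001000300020004000300020001000200040003000000000004000400040003000300000002000100040000000000030004000000020002000000040000000100020004000000000002000200020004000400000001000000020001),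
  (nat_lit 0x300040001000000040000000200030001000400030003000200020000000100000004000100040001000400020004000000000000000100040001000100030000000000010001000200040001000100010000000300000002000200040000000200010000000100030000000400020000000400010003000300030004000100030004000000020000000000010002000300040000000100010000000300000000000100010002000300020004000100040003000400030001000400010003000100040001000100020003000300010003000100020003000100040002000000020002000200040003000000000001000200030000000000000004000400020002000300040000000300020001000000010001000100020004000200000004),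
  (nat_lit 0x300040000000400040004000000010003000200020000000300020002000300010003000300010004000300040001000300000002000100030000000000040003000400030001000200040001000200030001000200000002000300040003000000040003000000020000000200000004000000000001000400040004000000030000000300000002000000000004000300040004000300020003000200010003000000030004000100010002000200040000000100030004000200040001000000020002000400010004000100010001000400020001000000040004000200040003000300040003000300020000000200020004000400000002000100020003000000000004000100030001000300030003000000030002000200010002),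
  (nat_lit 0x400030001000000000004000300000004000200030001000200020001000200020003000100000001000300000001000400010002000100000001000300020002000300030001000400020000000400020004000000010003000100030001000400010002000100040004000300030001000200040001000000040004000000000000000200030002000200030001000000010003000200010004000300040002000200020001000400020002000400000004000000030002000000040001000000000004000200000004000400010002000200020001000100040004000100010002000000010000000300030001000400000001000000030002000000020001000000000000000200000004000000030003000400010001000300010000),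
  (nat_lit 0x40000000400030003000000030002000000000002000000010004000100040004000300000001000100010001000100000004000300010000000000020002000300040002000000030002000100020002000400040003000300020001000200040000000200030003000100000001000300010000000300010001000000000000000000010003000000020003000100000004000200020002000300030002000200010001000300030004000200000004000000040001000200040000000300000001000100030001000000020004000300020003000300010000000200040002000200010002000400020004000400030002000200000000000400020002000100020000000300020004000200030001000100030003000000040004),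
  (nat_lit 0x100020003000000020001000000020003000000000002000100000000000000040000000000040004000100040003000100030001000200040001000400030003000100040004000200040002000100020001000000000002000100010001000100040000000300000004000200030004000000000000000000040000000300020003000000010002000000030002000000040001000400030001000400010003000100040000000400010000000300000000000300030004000400000003000100020001000100010004000100010001000400010004000200040004000100030003000000000003000400030001000000010001000200030001000400010003000200040004000100040000000100040001000400030002000100020003),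
  (nat_lit 0x300040001000000000004000000020001000400020002000400020000000000010002000200010002000100020003000100040001000200030000000100010002000300000004000000010002000000010000000400000002000000000000000200040003000000040003000100000001000200030001000000000004000000010000000000010000000200010001000200010003000100030003000200040002000100010003000300010001000300000000000200000003000200010001000200010004000400010004000100030000000100030003000100040002000100000001000000010004000300040002000100000001000000030001000200040000000200040001000300010002000200010000000100000000000100040002),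
  (nat_lit 0x300040001000000000004000000020001000400020002000400020000000000010002000200010002000100020003000100040001000200030000000100010002000300000004000000010002000000010000000400000002000000000000000200040003000000040003000100000001000200030001000000000004000000010000000000010000000200010001000200010003000100030003000200040002000100010003000300010001000300000000000200000003000200010001000200010004000400010004000100030000000100030003000100040002000100000001000000010004000300040002000100000001000000030001000200040000000200040001000300010002000200010000000100000000000100040002)]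

theorem e_0_all : CF.Comp.Cov e_0_F 4 5 0 := by
  have h := CF.Comp.Cov.zero e_0_F 4
  have h := h.blk (b := 4) e_0_k0_0 rfl
  have h := h.next (y := 1) rfl rfl
  have h := h.blk (b := 4) e_0_k1_0 rfl
  have h := h.next (y := 2) rfl rfl
  have h := h.blk (b := 4) e_0_k2_0 rfl
  have h := h.next (y := 3) rfl rfl
  have h := h.blk (b := 4) e_0_k3_0 rfl
  have h := h.next (y := 4) rfl rfl
  have h := h.blk (b := 4) e_0_k4_0 rfl
  have h := h.next (y := 5) rfl rfl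
  exact h

theorem e_0 : Enum R_0 [] (gensW 2) 15 :=
  ⟨e_0_cols, e_0_ch, e_0_L, e_0_H, e_0_pb.1, e_0_e.get, [(nat_lit 0), (nat_lit 1), (nat_lit 2), (nat_lit 3), (nat_lit 4)], (nat_lit 0), (nat_lit 4), e_0_rots, e_0_hcs,
    (nat_lit 16), (nat_lit 5), (nat_lit 16), (nat_lit 32), (nat_lit 512), (nat_lit 1023), (nat_lit 8), (nat_lit 255), (nat_lit 12), (nat_lit 4095), (nat_lit 1), (nat_lit 4),
    fun _ _ => rfl, fun _ => rfl, fun _ _ => rfl, by decide +kernel, e_0_all.1⟩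

theorem e_1_all : CF.Comp.Cov e_1_F 4 7 0 := by
  have h := CF.Comp.Cov.zero e_1_F 4
  have h := h.blk (b := 4) e_1_k0_0 rfl
  have h := h.next (y := 1) rfl rfl
  have h := h.blk (b := 4) e_1_k1_0 rfl
  have h := h.next (y := 2) rfl rfl
  have h := h.blk (b := 4) e_1_k2_0 rfl
  have h := h.next (y := 3) rfl rfl
  have h := h.blk (b := 4) e_1_k3_0 rfl
  have h := h.next (y := 4) rfl rfl
  have h := h.blk (b := 4) e_1_k4_0 rfl
  have h := h.next (y := 5) rfl rfl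
  have h := h.blk (b := 4) e_1_k5_0 rfl
  have h := h.next (y := 6) rfl rfl
  have h := h.blk (b := 4) e_1_k6_0 rfl
  have h := h.next (y := 7) rfl rfl
  exact h

theorem e_1 : Enum R_1 (gensW 2) (gensW 3) 64 :=
  ⟨e_1_cols, e_1_ch, e_1_L, e_1_H, e_1_pb.1, e_1_e.get, [(nat_lit 0), (nat_lit 1), (nat_lit 2), (nat_lit 3), (nat_lit 4), (nat_lit 5), (nat_lit 6)], (nat_lit 0), (nat_lit 4), e_1_rots, e_1_hcs,
    (nat_lit 65), (nat_lit 7), (nat_lit 128), (nat_lit 64), (nat_lit 8192), (nat_lit 8191), (nat_lit 8), (nat_lit 255), (nat_lit 18), (nat_lit 262143), (nat_lit 1), (nat_lit 4),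
    fun _ _ => rfl, fun _ => rfl, fun _ _ => rfl, by decide +kernel, e_1_all.1⟩

theorem e_2_all : CF.Comp.Cov e_2_F 4 8 0 := by
  have h := CF.Comp.Cov.zero e_2_F 4
  have h := h.blk (b := 4) e_2_k0_0 rfl
  have h := h.next (y := 1) rfl rfl
  have h := h.blk (b := 4) e_2_k1_0 rfl
  have h := h.next (y := 2) rfl rfl
  have h := h.blk (b := 4) e_2_k2_0 rfl
  have h := h.next (y := 3) rfl rfl
  have h := h.blk (b := 4) e_2_k3_0 rfl
  have h := h.next (y := 4) rfl rfl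
  have h := h.blk (b := 4) e_2_k4_0 rfl
  have h := h.next (y := 5) rfl rfl
  have h := h.blk (b := 4) e_2_k5_0 rfl
  have h := h.next (y := 6) rfl rfl
  have h := h.blk (b := 4) e_2_k6_0 rfl
  have h := h.next (y := 7) rfl rfl
  have h := h.blk (b := 4) e_2_k7_0 rfl
  have h := h.next (y := 8) rfl rfl
  exact h

theorem e_2 : Enum rels (gensW 3) (gensW 4) 65 :=
  ⟨e_2_cols, e_2_ch, e_2_L, e_2_H, e_2_pb.1, e_2_e.get, [(nat_lit 0), (nat_lit 1), (nat_lit 2), (nat_lit 3), (nat_lit 4), (nat_lit 5), (nat_lit 6), (nat_lit 7)], (nat_lit 8), (nat_lit 4), e_2_rots, e_2_hcs,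
    (nat_lit 66), (nat_lit 8), (nat_lit 128), (nat_lit 128), (nat_lit 16384), (nat_lit 8191), (nat_lit 8), (nat_lit 255), (nat_lit 20), (nat_lit 1048575), (nat_lit 1), (nat_lit 4),
    fun _ _ => rfl, fun _ => rfl, fun _ _ => rfl, by decide +kernel, e_2_all.1⟩

theorem bnd {K : Type*} [Group K] {g : ℕ → K} (hr : ∀ r ∈ rels, ev g r = 1) : Bound g (gensW 4) 62400 :=
  (e_2.bound (rels_sub hr (by decide +kernel))
    (e_1.bound (rels_sub hr (by decide +kernel))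
    (e_0.bound (rels_sub hr (by decide +kernel))
    (bound_nil _))))

theorem okC : (Bool.rec false (Nat.ble 62400 (chainProd N 65 C)) (chainOK N 65 C) : Bool) = true := by decide +kernel
theorem lab : LabOK 65 7 (repl 65 7) (full 64) := labOK_spec (by decide +kernel)
theorem linU_a : linAll T16 65 3 UV UA N UCs 4 = true := by decide +kernel
theorem linU : LinOK T16 65 3 4 UV UA N :=
  ⟨⟨Uσ, by decide +kernel⟩, by decide +kernel, by decide +kernel, rfl,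
    UCs, by decide +kernel, rfl, linAll_iff.1 linU_a⟩
theorem memU : allFrom (suAt T16 3 4 UA UD) 0 4 = true := by decide +kernel
theorem c3 : cycOK N 65 7 (repl 65 7) (full 64) C y3 3 5 T3F T3K T3 = true := by decide +kernel
theorem c13 : cycOK N 65 7 (repl 65 7) (full 64) C y13 13 1 T13F T13K T13 = true := by decide +kernel
theorem wo : ordWs N 65 7 (repl 65 7) (full 64) Wo [10, 15] = true := by decide +kernel
theorem o13 : ordW N 65 7 (repl 65 7) (full 64) y13 13 = true := by decide +kernel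
theorem iM_0 : allFrom (Y.invAt M) 0 4 = true := by decide +kernel
theorem iM : ∀ j < 4, Y.invAt M j = true := by
  have h : ∀ j < 0, Y.invAt M j = true := by simp
  have h := forall_lt_add h (allFrom_iff.1 iM_0)
  exact h
theorem rM_0 : allFrom (relNo (Y.same M) rels) 0 11 = true := by decide +kernel
theorem rM : ∀ j < 11, relNo (Y.same M) rels j = true := by
  have h : ∀ j < 0, relNo (Y.same M) rels j = true := by simp
  have h := forall_lt_add h (allFrom_iff.1 rM_0)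
  exact h
theorem k13 : nmP Y M y13 13 = true := by decide +kernel
theorem fld : FldOK 16 4 (nat_lit 0x123456789abcdef1032547698badcfe23016745ab89efcd32107654ba98fedc45670123cdef89ab54761032dcfe98ba67452301efcdab8976543210fedcba9889abcdef0123456798badcfe10325476ab89efcd23016745ba98fedc32107654cdef89ab45670123dcfe98ba54761032efcdab8967452301fedcba9876543210) (nat_lit 0xa5783ce1b4692df05ba48679c23d1fe07ae36bf258c149d0843fd16a2e957bc0386d92c74f1ae5b0c6b1285f394ed7a0e7f6c5d4a3b28190192a7f4cd5e6b380bc5243ad618f9e70428ef93517dbac6063c914be8d27fa509d15ae26fb73c8402147ed8b9afc5630df9b5713eca86420fedcba98765432100000000000000000) := by decide +kernel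

variable {F : Type*} [Field F] [Fintype F] (hF : Fintype.card F = 16)
include hF

theorem card : Nat.card (PSU 3 F 4) = 62400 := by
  have h := Cfsg.Agent.S0280.result (q := 4) hF 3 (by norm_num)
  simp [Finset.prod_range_succ] at h
  norm_num at h
  omega

theorem pg : Pg (PSU 3 F 4) [2, 3, 5, 13] [10, 15] ∧ ∃ ρ : PSU 3 F 4 →* Matrix (Fin 12) (Fin 12) (ZMod 5),
    Pg (Aff (Lin ρ) (PSU 3 F 4)) [2, 3, 5, 13] [10, 15] := by
  have hc := card hF
  have : Finite (PSU 3 F 4) := Nat.finite_of_card_ne_zero (by rw [hc]; decide)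
  obtain ⟨el, hT⟩ := exists_ok_tab fld hF
  obtain ⟨_, _, _, g, hE, h1⟩ := exact_of_reps (c := C) (linU.hasReps_PSU hT (q := 4) hF (by norm_num) memU) (by decide) hc
    (by decide) okC
  have h3 := fun l => ne_of_cyc hE lab (by decide) (m := 20800) (by decide) hc (by decide) c3 (l := l)
  have h13 := fun l => ne_of_cyc hE lab (by decide) (m := 4800) (by decide) hc (by decide) c13 (l := l)
  have hp := primes_of_card (π := [2, 3, 5, 13]) hc (by decide) (by decide +kernel)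
  have hN : ∀ m ∈ [6, 26, 39, 65], ∀ g : PSU 3 F 4, orderOf g ≠ m := by
    simp only [List.forall_mem_cons, List.not_mem_nil, false_imp_iff, implies_true, and_true]
    exact ⟨h3 _ (by decide) (by decide), h13 _ (by decide) (by decide), h13 _ (by decide) (by decide),
      h13 _ (by decide) (by decide)⟩
  have hl := lb_ordWs hE lab wo
  obtain ⟨ρ, h⟩ := (presents_of_exact hE (bnd (ug_rels _)) hc (by decide +kernel) (by decide +kernel)
    (by decide +kernel)).exists_pm h1 (P := Y) (by decide +kernel) (by decide +kernel) iM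
    (fun j hj => rM j (lt_of_lt_of_eq hj (by decide +kernel)))
  have o := ordW_spec hE.reps lab hE.faithful trivial o13
  have e : ∀ v : Lin ρ, 5 • v = 0 := Lin.exp (K := ZMod 5)
  have : Finite (Lin ρ) := Lin.fin (K := ZMod 5)
  refine ⟨Pg.mk' hp hl hN (by decide), ρ, Pg.aff (by decide) e (K := [13]) hp
    (fun m hm => exists_of_right (hl m hm)) hN ?_ (by decide)⟩
  simp only [List.forall_mem_cons, List.not_mem_nil, false_imp_iff, implies_true, and_true]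
  exact kills_sylow (m := 4800) (by decide) hc (by decide) o
    (kills_pm h (by decide) (o ▸ pow_orderOf_eq_one _) k13) e (by decide)

end CF.Spec.U34
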