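import Cfsg.Agent.Spec.Mod

set_option autoImplicit false
set_option maxRecDepth 1000000
set_option maxHeartbeats 0
set_option Elab.async false

namespace CF.Spec.Sz83

open CF.Comp CF.Bt CF.Schur.Pc Cfsg

noncomputable def N_0 : Net := (Net.cons (nat_lit 1) (nat_lit 0x1540411105411400) (Net.cons (nat_lit 2) (nat_lit 0x2101023322112010) (Net.cons (nat_lit 4) (nat_lit 0x80104090d070600) (Net.cons (nat_lit 8) (nat_lit 0xb500a800200001) (Net.cons (nat_lit 16) (nat_lit 0x100900000001) (Net.cons (nat_lit 64) (nat_lit 1) (Net.cons (nat_lit 32) (nat_lit 1015817073) (Net.cons (nat_lit 16) (nat_lit 0x9d370000fc10) (Net.cons (nat_lit 8) (nat_lit 0xa3008a001600b1) (Net.cons (nat_lit 4) (nat_lit 0xa0306090d060900) (Net.cons (nat_lit 2) (nat_lit 0x102020203130110) (Net.cons (nat_lit 1) (nat_lit 0x5101551110151000) Net.nil))))))))))))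
noncomputable def N_1 : Net := (Net.cons (nat_lit 1) (nat_lit 0x1005444104000010) (Net.cons (nat_lit 2) (nat_lit 0x1000302300213001) (Net.cons (nat_lit 4) (nat_lit 0xc0a040103000400) (Net.cons (nat_lit 8) (nat_lit 0x49000c00910000) (Net.cons (nat_lit 16) (nat_lit 0x803700000000) (Net.cons (nat_lit 32) (nat_lit 1) (Net.cons (nat_lit 64) (nat_lit 1) (Net.cons (nat_lit 32) (nat_lit 2255104020) (Net.cons (nat_lit 16) (nat_lit 0x55f400001ce5) (Net.cons (nat_lit 8) (nat_lit 0x9007100780001) (Net.cons (nat_lit 4) (nat_lit 0x409080b01080601) (Net.cons (nat_lit 2) (nat_lit 0x1322103112010211) (Net.cons (nat_lit 1) (nat_lit 0x1545541040045400) Net.nil)))))))))))))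
noncomputable def N_2 : Net := (Net.cons (nat_lit 1) (nat_lit 0x5115400105114110) (Net.cons (nat_lit 2) (nat_lit 0x2333122110120300) (Net.cons (nat_lit 4) (nat_lit 0x6050d0a080d0000) (Net.cons (nat_lit 8) (nat_lit 0xb300e300610001) (Net.cons (nat_lit 16) (nat_lit 0x49a000000001) (Net.cons (nat_lit 32) (nat_lit 1) (Net.cons (nat_lit 64) (nat_lit 1) (Net.cons (nat_lit 32) (nat_lit 4226392593) (Net.cons (nat_lit 16) (nat_lit 0xcfb3000086cd) (Net.cons (nat_lit 8) (nat_lit 0xd1005b005b00e4) (Net.cons (nat_lit 4) (nat_lit 0x7090b05080c0a04) (Net.cons (nat_lit 2) (nat_lit 0x3232332300331031) (Net.cons (nat_lit 1) (nat_lit 0x1504015555450040) Net.nil)))))))))))))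
noncomputable def N_3 : Net := (Net.cons (nat_lit 1) (nat_lit 0x1400051140444) (Net.cons (nat_lit 2) (nat_lit 0x3002111011201211) (Net.cons (nat_lit 4) (nat_lit 0x906000f06030200) (Net.cons (nat_lit 8) (nat_lit 0xa1000400200000) (Net.cons (nat_lit 16) (nat_lit 0x802100000000) (Net.cons (nat_lit 32) (nat_lit 1) (Net.cons (nat_lit 64) (nat_lit 1) (Net.cons (nat_lit 32) (nat_lit 699245447) (Net.cons (nat_lit 16) (nat_lit 0x3f1f0000cfee) (Net.cons (nat_lit 8) (nat_lit 0x5300f5007100f8) (Net.cons (nat_lit 4) (nat_lit 0x30c000f0c090800) (Net.cons (nat_lit 2) (nat_lit 0x1220333233023033) (Net.cons (nat_lit 1) (nat_lit 0x1400051140444) Net.nil)))))))))))))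
noncomputable def N : List Net := [N_0, N_1, N_2, N_3]
noncomputable def R_0 : List (List Nat) := [[(nat_lit 1), (nat_lit 1), (nat_lit 1)],
  [(nat_lit 3), (nat_lit 3), (nat_lit 3)],
  [(nat_lit 4), (nat_lit 2), (nat_lit 3), (nat_lit 2), (nat_lit 3), (nat_lit 1)]]

noncomputable def R_1 : List (List Nat) := [[(nat_lit 1), (nat_lit 1), (nat_lit 1)],
  [(nat_lit 3), (nat_lit 3), (nat_lit 3)],
  [(nat_lit 4), (nat_lit 2), (nat_lit 3), (nat_lit 2), (nat_lit 3), (nat_lit 1)],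
  [(nat_lit 5), (nat_lit 5), (nat_lit 5)],
  [(nat_lit 6), (nat_lit 4), (nat_lit 5), (nat_lit 4), (nat_lit 5), (nat_lit 3)],
  [(nat_lit 5), (nat_lit 1), (nat_lit 3), (nat_lit 5), (nat_lit 1), (nat_lit 5), (nat_lit 4), (nat_lit 1)]]

noncomputable def rels : List (List Nat) := [[(nat_lit 1), (nat_lit 1), (nat_lit 1)],
  [(nat_lit 3), (nat_lit 3), (nat_lit 3)],
  [(nat_lit 4), (nat_lit 2), (nat_lit 3), (nat_lit 2), (nat_lit 3), (nat_lit 1)],
  [(nat_lit 5), (nat_lit 5), (nat_lit 5)],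
  [(nat_lit 6), (nat_lit 4), (nat_lit 5), (nat_lit 4), (nat_lit 5), (nat_lit 3)],
  [(nat_lit 5), (nat_lit 1), (nat_lit 3), (nat_lit 5), (nat_lit 1), (nat_lit 5), (nat_lit 4), (nat_lit 1)],
  [(nat_lit 7), (nat_lit 7)],
  [(nat_lit 7), (nat_lit 2), (nat_lit 4), (nat_lit 7), (nat_lit 3), (nat_lit 1)],
  [(nat_lit 7), (nat_lit 3), (nat_lit 7), (nat_lit 3), (nat_lit 7), (nat_lit 3)],
  [(nat_lit 7), (nat_lit 6), (nat_lit 7), (nat_lit 1), (nat_lit 3), (nat_lit 5), (nat_lit 2), (nat_lit 7), (nat_lit 6), (nat_lit 1), (nat_lit 3), (nat_lit 1)],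
  [(nat_lit 6), (nat_lit 1), (nat_lit 7), (nat_lit 1), (nat_lit 7), (nat_lit 6), (nat_lit 7), (nat_lit 2), (nat_lit 7), (nat_lit 6), (nat_lit 3), (nat_lit 1)]]

noncomputable def e_0_c0 : BT (Bx Nat) := (BT.leaf (Bx.mk (nat_lit 0x0)))
noncomputable def e_0_c1 : BT (Bx Nat) := (BT.leaf (Bx.mk (nat_lit 0x3153515c54544f14f511c53543f14b50dc52542f869c32e1870bb859c2ac50d40f844000)))
noncomputable def e_0_c2 : BT (Bx Nat) := (BT.leaf (Bx.mk (nat_lit 0x21298898496222121887847621a119885845621386bc33e18f0bf85bc2b8416207846000)))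
noncomputable def e_0_c3 : BT (Bx Nat) := (BT.leaf (Bx.mk (nat_lit 0x11e08eead5a3c6a9956a69993b61e90f287793d71c7529c71549f1c3525e14709b848000)))
noncomputable def e_0_c4 : BT (Bx Nat) := (BT.leaf (Bx.mk (nat_lit 0x14155ed467d731c24df5ac5b75141d0d1869c3421918c3863630a1898c1e14f09f84a000)))
noncomputable def e_0_p : BT (Bx Nat) := (BT.leaf (Bx.mk (nat_lit 0x3485a41d0168073859c1cc1660628514188144061890c3842420d0888434212104000000)))
noncomputable def e_0_e : BT Nat := BT.leaf (nat_lit 0)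
noncomputable def e_0_cols : List (BT (Bx Nat)) := [e_0_c0, e_0_c1, e_0_c2, e_0_c3, e_0_c4]
noncomputable def e_0_ch (x j : Nat) : Bx Nat := chunkG e_0_cols (nat_lit 1) x j
noncomputable def e_0_L (x : Nat) : Bx (Nat → Nat) := lookG e_0_ch (nat_lit 8) (nat_lit 255) (nat_lit 13) (nat_lit 8191) x
noncomputable def e_0_pc (_ j : Nat) : Bx Nat := e_0_p.get j
noncomputable def e_0_pb : Bx (Nat → Nat) := lookG e_0_pc (nat_lit 8) (nat_lit 255) (nat_lit 13) (nat_lit 8191) (nat_lit 0)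
noncomputable def e_0_rots : BT CW := (BT.node (nat_lit 8) (BT.node (nat_lit 4) (BT.node (nat_lit 2) (BT.node (nat_lit 1) (BT.leaf ⟨[], (nat_lit 1000000), (nat_lit 0), (nat_lit 0), (nat_lit 0)⟩) (BT.leaf ⟨[], (nat_lit 1000000), (nat_lit 0), (nat_lit 0), (nat_lit 1)⟩)) (BT.node (nat_lit 3) (BT.leaf ⟨[], (nat_lit 1000000), (nat_lit 0), (nat_lit 0), (nat_lit 2)⟩) (BT.leaf ⟨[(nat_lit 2), (nat_lit 1)], (nat_lit 6), (nat_lit 1), (nat_lit 0), (nat_lit 3)⟩))) (BT.node (nat_lit 6) (BT.node (nat_lit 5) (BT.leaf ⟨[(nat_lit 1), (nat_lit 2)], (nat_lit 6), (nat_lit 0), (nat_lit 0), (nat_lit 3)⟩) (BT.leaf ⟨[(nat_lit 4), (nat_lit 3)], (nat_lit 5), (nat_lit 1), (nat_lit 0), (nat_lit 3)⟩)) (BT.node (nat_lit 7) (BT.leaf ⟨[(nat_lit 3), (nat_lit 4)], (nat_lit 5), (nat_lit 0), (nat_lit 0), (nat_lit 3)⟩) (BT.leaf ⟨[(nat_lit 1), (nat_lit 1), (nat_lit 1)], (nat_lit 0), (nat_lit 0), (nat_lit 0), (nat_lit 3)⟩)))) (BT.node (nat_lit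 12) (BT.node (nat_lit 10) (BT.node (nat_lit 9) (BT.leaf ⟨[(nat_lit 3), (nat_lit 3), (nat_lit 3)], (nat_lit 1), (nat_lit 0), (nat_lit 0), (nat_lit 3)⟩) (BT.leaf ⟨[(nat_lit 3), (nat_lit 2), (nat_lit 3), (nat_lit 1), (nat_lit 4), (nat_lit 2)], (nat_lit 2), (nat_lit 2), (nat_lit 0), (nat_lit 3)⟩)) (BT.node (nat_lit 11) (BT.leaf ⟨[(nat_lit 3), (nat_lit 2), (nat_lit 4), (nat_lit 1), (nat_lit 4), (nat_lit 1)], (nat_lit 9), (nat_lit 5), (nat_lit 0), (nat_lit 3)⟩) (BT.leaf ⟨[(nat_lit 4), (nat_lit 1), (nat_lit 4), (nat_lit 1), (nat_lit 3), (nat_lit 2)], (nat_lit 9), (nat_lit 1), (nat_lit 0), (nat_lit 3)⟩))) (BT.node (nat_lit 14) (BT.node (nat_lit 13) (BT.leaf ⟨[(nat_lit 3), (nat_lit 1), (nat_lit 4), (nat_lit 2), (nat_lit 3), (nat_lit 2)], (nat_lit 2), (nat_lit 4), (nat_lit 0), (nat_lit 3)⟩) (BT.leaf ⟨[(nat_lit 4), (nat_lit 2), (nat_lit 3), (nat_lit 2), (nat_lit 3), (nat_lit 1)], (nat_lit 2), (nat_lit 0), (nat_lit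 0), (nat_lit 3)⟩)) (BT.node (nat_lit 15) (BT.leaf ⟨[(nat_lit 4), (nat_lit 1), (nat_lit 3), (nat_lit 2), (nat_lit 4), (nat_lit 1)], (nat_lit 9), (nat_lit 3), (nat_lit 0), (nat_lit 3)⟩) (BT.leaf ⟨[(nat_lit 4), (nat_lit 4), (nat_lit 4)], (nat_lit 8), (nat_lit 0), (nat_lit 0), (nat_lit 3)⟩)))))
noncomputable def e_0_hcs : List CW := []
noncomputable def e_0_H (x j : Nat) : Bx (Nat → Nat → Nat) := mkH e_0_L e_0_pb.1 e_0_e.get (lmap CW.w e_0_hcs) (nat_lit 21) (nat_lit 22) (nat_lit 5) (nat_lit 32) (nat_lit 1024) (nat_lit 2047) x (e_0_rots.get j)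
noncomputable def e_0_F (x b : Nat) : Bool := blkOK e_0_H e_0_ch (nat_lit 22) (nat_lit 32) (nat_lit 32) (nat_lit 8) (nat_lit 255) (nat_lit 13) (nat_lit 8191) x b

theorem e_0_k0_0 : allFrom (e_0_F (nat_lit 0)) (nat_lit 0) (nat_lit 4) = true := by decide +kernel
theorem e_0_k1_0 : allFrom (e_0_F (nat_lit 1)) (nat_lit 0) (nat_lit 4) = true := by decide +kernel
theorem e_0_k2_0 : allFrom (e_0_F (nat_lit 2)) (nat_lit 0) (nat_lit 4) = true := by decide +kernel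
theorem e_0_k3_0 : allFrom (e_0_F (nat_lit 3)) (nat_lit 0) (nat_lit 4) = true := by decide +kernel
theorem e_0_k4_0 : allFrom (e_0_F (nat_lit 4)) (nat_lit 0) (nat_lit 4) = true := by decide +kernel

noncomputable def e_1_c0 : BT (Bx Nat) := (BT.leaf (Bx.mk (nat_lit 0x0)))
noncomputable def e_1_c1 : BT (Bx Nat) := (BT.leaf (Bx.mk (nat_lit 0x125ac738fdae40a0e7265bd54ced03afa0e6665b91b8cda3b560e60933408ec84e37a0e4e65b138eb923ba3966d533ea0e4665aba0e4265a9a0e3e65a7a0e3a65a5a0e36838c9968a838b99682838a9967aa0bc4504a4f23a82e2a0b6a0e1e6597a0e1a6595a82c2a0ada82aaa0a8a829aa0a48966aa0a1a827ea09da0e0e6589a825aa094a0e0a6585a8222a084a86040000)))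
noncomputable def e_1_c2 : BT (Bx Nat) := (BT.leaf (Bx.mk (nat_lit 0x1833e68cfd232c90cf2831c48ced522e90ce2831908cca8318748d8633410cdc553390cc283134cee912afa0c49034090caa831190ca2831090c9a830f90c92830e88c6a4321a0c32431fa0c2e431da0c2aa0bd30cb6030da82e5b2b590c5a830790c528306a82c4e31ba82aea0a9a829ea0a5a828ea0a2a8282a09e90c228303a825ea09590c128302a8226a085a0c040000)))
noncomputable def e_1_c3 : BT (Bx Nat) := (BT.leaf (Bx.mk (nat_lit 0x284a7a129a663f812e204b6a126e663b99a7e699d7bed1e4a061294e4b1a124e6633412dc44b0a124a662f312b4c4c081e6a04a199e5604a349eb2a0be8927a263999a5a26297925e44bc92691a6b5792f68489a82e9e494a12226619912aa44a89128a29aba82caa0aea121666117123e249ca1212660da120e660b9123aa098a120a6607a8242a08ca822aa086a86040000)))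
noncomputable def e_1_c4 : BT (Bx Nat) := (BT.leaf (Bx.mk (nat_lit 0xe72c910fa84268247668a0910ea841b8109228bd4aec6283c61079c437910ca8413424d06730910ba84123a0b504278105268978108a6816a8302a0bf6a0d6241f8a4a267158a0aa0936910e64725910e2490ea82ede42b910628408824864423910a6071aa82cea0af9104284057b63e6b899103284049102a8403a8272a0999101a8402a8246a08da822ea087a10040000)))
noncomputable def e_1_c5 : BT (Bx Nat) := (BT.leaf (Bx.mk (nat_lit 0xa2a8494f9f0b840a996aae68a898a25842794a3fa0a6062b2a0a568294329018aaa428e842b030a8d0ca72c2f6829148ae482b6714d0a2b310af0852d38ac56a3b28a85452458abd6290514dd42ab63a76250ca0a22651b58ad56a1f58ab26ea060a65f029a0a16651360a5d8296a0a12650f88a3642899a82a6a8693272a09a90a1e450ba824aa08ea0a066503a82080000)))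
noncomputable def e_1_c6 : BT (Bx Nat) := (BT.leaf (Bx.mk (nat_lit 0xa233488e1023f208b46b2750890e231546adc23e4887cab2a64665a22932ca091b642c9475b062c85423c1889991975ac79623270850d140388b9313d588e922223b0bdcb3b3468e421650861e2395887622099086a82086c456a0b76b045b490a82d6a0b49084a8205a82b191a09083a820493436021c8881a420b9b032a09b9ac1e420aa824ea08f9080a8201a820c0000)))
noncomputable def e_1_p : BT (Bx Nat) := (BT.leaf (Bx.mk (nat_lit 0xa9c4a984a9838702870186c486c386428641860686018546850684c484c384c284c18484848384818446844284418402840183c283c18382838183428302830162c262c1628262816244620662056204620361c261c1618261816146614561446143610661056104610340c440c340c240c140844083408240812046204500000000)))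
noncomputable def e_1_e0 : BT Nat := (BT.node (nat_lit 67) (BT.leaf (nat_lit 262146)) (BT.leaf (nat_lit 2)))
noncomputable def e_1_e : BT Nat := e_1_e0
noncomputable def e_1_cols : List (BT (Bx Nat)) := [e_1_c0, e_1_c1, e_1_c2, e_1_c3, e_1_c4, e_1_c5, e_1_c6]
noncomputable def e_1_ch (x j : Nat) : Bx Nat := chunkG e_1_cols (nat_lit 1) x j
noncomputable def e_1_L (x : Nat) : Bx (Nat → Nat) := lookG e_1_ch (nat_lit 8) (nat_lit 255) (nat_lit 18) (nat_lit 262143) x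
noncomputable def e_1_pc (_ j : Nat) : Bx Nat := e_1_p.get j
noncomputable def e_1_pb : Bx (Nat → Nat) := lookG e_1_pc (nat_lit 8) (nat_lit 255) (nat_lit 16) (nat_lit 65535) (nat_lit 0)
noncomputable def e_1_rots : BT CW := (BT.node (nat_lit 21) (BT.node (nat_lit 10) (BT.node (nat_lit 5) (BT.node (nat_lit 2) (BT.node (nat_lit 1) (BT.leaf ⟨[], (nat_lit 1000000), (nat_lit 0), (nat_lit 0), (nat_lit 0)⟩) (BT.leaf ⟨[], (nat_lit 1000000), (nat_lit 0), (nat_lit 0), (nat_lit 1)⟩)) (BT.node (nat_lit 3) (BT.leaf ⟨[], (nat_lit 1000000), (nat_lit 0), (nat_lit 0), (nat_lit 2)⟩) (BT.node (nat_lit 4) (BT.leaf ⟨[(nat_lit 6), (nat_lit 5)], (nat_lit 7), (nat_lit 1), (nat_lit 0), (nat_lit 3)⟩) (BT.leaf ⟨[(nat_lit 5), (nat_lit 6)], (nat_lit 7), (nat_lit 0), (nat_lit 0), (nat_lit 3)⟩)))) (BT.node (nat_lit 7) (BT.node (nat_lit 6) (BT.leaf ⟨[(nat_lit 2), (nat_lit 1)], (nat_lit 9), (nat_lit 1), (nat_lit 0), (nat_lit 3)⟩) (BT.leaf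 ⟨[(nat_lit 1), (nat_lit 2)], (nat_lit 9), (nat_lit 0), (nat_lit 0), (nat_lit 3)⟩)) (BT.node (nat_lit 8) (BT.leaf ⟨[(nat_lit 4), (nat_lit 3)], (nat_lit 8), (nat_lit 1), (nat_lit 0), (nat_lit 3)⟩) (BT.node (nat_lit 9) (BT.leaf ⟨[(nat_lit 3), (nat_lit 4)], (nat_lit 8), (nat_lit 0), (nat_lit 0), (nat_lit 3)⟩) (BT.leaf ⟨[(nat_lit 5), (nat_lit 5), (nat_lit 5)], (nat_lit 3), (nat_lit 0), (nat_lit 0), (nat_lit 3)⟩))))) (BT.node (nat_lit 15) (BT.node (nat_lit 12) (BT.node (nat_lit 11) (BT.leaf ⟨[(nat_lit 1), (nat_lit 1), (nat_lit 1)], (nat_lit 0), (nat_lit 0), (nat_lit 0), (nat_lit 3)⟩) (BT.leaf ⟨[(nat_lit 3), (nat_lit 3), (nat_lit 3)], (nat_lit 1), (nat_lit 0), (nat_lit 0), (nat_lit 3)⟩)) (BT.node (nat_lit 13) (BT.leaf ⟨[(nat_lit 3), (nat_lit 2), (nat_lit 3), (nat_lit 1), (nat_lit 4), (nat_lit 2)], (nat_lit 2), (nat_lit 2), (nat_lit 0), (nat_lit 3)⟩) (BT.node (nat_lit 14) (BT.leaf ⟨[(nat_lit 4), (nat_lit 1), (nat_lit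 4), (nat_lit 1), (nat_lit 3), (nat_lit 2)], (nat_lit 12), (nat_lit 1), (nat_lit 0), (nat_lit 3)⟩) (BT.leaf ⟨[(nat_lit 3), (nat_lit 1), (nat_lit 4), (nat_lit 2), (nat_lit 3), (nat_lit 2)], (nat_lit 2), (nat_lit 4), (nat_lit 0), (nat_lit 3)⟩)))) (BT.node (nat_lit 18) (BT.node (nat_lit 16) (BT.leaf ⟨[(nat_lit 4), (nat_lit 2), (nat_lit 3), (nat_lit 2), (nat_lit 3), (nat_lit 1)], (nat_lit 2), (nat_lit 0), (nat_lit 0), (nat_lit 3)⟩) (BT.node (nat_lit 17) (BT.leaf ⟨[(nat_lit 4), (nat_lit 1), (nat_lit 3), (nat_lit 2), (nat_lit 4), (nat_lit 1)], (nat_lit 12), (nat_lit 3), (nat_lit 0), (nat_lit 3)⟩) (BT.leaf ⟨[(nat_lit 4), (nat_lit 4), (nat_lit 4)], (nat_lit 11), (nat_lit 0), (nat_lit 0), (nat_lit 3)⟩))) (BT.node (nat_lit 19) (BT.leaf ⟨[(nat_lit 3), (nat_lit 2), (nat_lit 4), (nat_lit 1), (nat_lit 4), (nat_lit 1)], (nat_lit 12), (nat_lit 5), (nat_lit 0), (nat_lit 3)⟩) (BT.node (nat_lit 20) (BT.leaf ⟨[(nat_lit 5), (nat_lit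 4), (nat_lit 5), (nat_lit 3), (nat_lit 6), (nat_lit 4)], (nat_lit 4), (nat_lit 2), (nat_lit 0), (nat_lit 3)⟩) (BT.leaf ⟨[(nat_lit 5), (nat_lit 4), (nat_lit 6), (nat_lit 3), (nat_lit 6), (nat_lit 3)], (nat_lit 14), (nat_lit 5), (nat_lit 0), (nat_lit 3)⟩)))))) (BT.node (nat_lit 32) (BT.node (nat_lit 26) (BT.node (nat_lit 23) (BT.node (nat_lit 22) (BT.leaf ⟨[(nat_lit 6), (nat_lit 3), (nat_lit 6), (nat_lit 3), (nat_lit 5), (nat_lit 4)], (nat_lit 14), (nat_lit 1), (nat_lit 0), (nat_lit 3)⟩) (BT.leaf ⟨[(nat_lit 4), (nat_lit 1), (nat_lit 5), (nat_lit 1), (nat_lit 3), (nat_lit 5), (nat_lit 1), (nat_lit 5)], (nat_lit 5), (nat_lit 6), (nat_lit 0), (nat_lit 3)⟩)) (BT.node (nat_lit 24) (BT.leaf ⟨[(nat_lit 6), (nat_lit 4), (nat_lit 2), (nat_lit 6), (nat_lit 2), (nat_lit 3), (nat_lit 6), (nat_lit 2)], (nat_lit 15), (nat_lit 4), (nat_lit 0), (nat_lit 3)⟩) (BT.node (nat_lit 25) (BT.leaf ⟨[(nat_lit 5), (nat_lit 3), (nat_lit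 6), (nat_lit 4), (nat_lit 5), (nat_lit 4)], (nat_lit 4), (nat_lit 4), (nat_lit 0), (nat_lit 3)⟩) (BT.leaf ⟨[(nat_lit 6), (nat_lit 3), (nat_lit 5), (nat_lit 4), (nat_lit 6), (nat_lit 3)], (nat_lit 14), (nat_lit 3), (nat_lit 0), (nat_lit 3)⟩)))) (BT.node (nat_lit 29) (BT.node (nat_lit 27) (BT.leaf ⟨[(nat_lit 4), (nat_lit 5), (nat_lit 3), (nat_lit 6), (nat_lit 4), (nat_lit 5)], (nat_lit 4), (nat_lit 3), (nat_lit 0), (nat_lit 3)⟩) (BT.node (nat_lit 28) (BT.leaf ⟨[(nat_lit 1), (nat_lit 3), (nat_lit 2), (nat_lit 4), (nat_lit 1), (nat_lit 4)], (nat_lit 12), (nat_lit 4), (nat_lit 0), (nat_lit 3)⟩) (BT.leaf ⟨[(nat_lit 5), (nat_lit 1), (nat_lit 3), (nat_lit 5), (nat_lit 1), (nat_lit 5), (nat_lit 4), (nat_lit 1)], (nat_lit 5), (nat_lit 0), (nat_lit 0), (nat_lit 3)⟩))) (BT.node (nat_lit 30) (BT.leaf ⟨[(nat_lit 1), (nat_lit 3), (nat_lit 5), (nat_lit 1), (nat_lit 5), (nat_lit 4), (nat_lit 1), (nat_lit 5)], (nat_lit 5),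 (nat_lit 1), (nat_lit 0), (nat_lit 3)⟩) (BT.node (nat_lit 31) (BT.leaf ⟨[(nat_lit 3), (nat_lit 5), (nat_lit 4), (nat_lit 6), (nat_lit 3), (nat_lit 6)], (nat_lit 14), (nat_lit 4), (nat_lit 0), (nat_lit 3)⟩) (BT.leaf ⟨[(nat_lit 5), (nat_lit 4), (nat_lit 1), (nat_lit 5), (nat_lit 1), (nat_lit 3), (nat_lit 5), (nat_lit 1)], (nat_lit 5), (nat_lit 5), (nat_lit 0), (nat_lit 3)⟩))))) (BT.node (nat_lit 37) (BT.node (nat_lit 34) (BT.node (nat_lit 33) (BT.leaf ⟨[(nat_lit 5), (nat_lit 1), (nat_lit 5), (nat_lit 4), (nat_lit 1), (nat_lit 5), (nat_lit 1), (nat_lit 3)], (nat_lit 5), (nat_lit 3), (nat_lit 0), (nat_lit 3)⟩) (BT.leaf ⟨[(nat_lit 6), (nat_lit 4), (nat_lit 5), (nat_lit 4), (nat_lit 5), (nat_lit 3)], (nat_lit 4), (nat_lit 0), (nat_lit 0), (nat_lit 3)⟩)) (BT.node (nat_lit 35) (BT.leaf ⟨[(nat_lit 6), (nat_lit 6), (nat_lit 6)], (nat_lit 13), (nat_lit 0), (nat_lit 0), (nat_lit 3)⟩) (BT.node (nat_lit 36) (BT.leaf ⟨[(nat_lit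 2), (nat_lit 3), (nat_lit 6), (nat_lit 2), (nat_lit 6), (nat_lit 4), (nat_lit 2), (nat_lit 6)], (nat_lit 15), (nat_lit 0), (nat_lit 0), (nat_lit 3)⟩) (BT.leaf ⟨[(nat_lit 2), (nat_lit 2), (nat_lit 2)], (nat_lit 10), (nat_lit 0), (nat_lit 0), (nat_lit 3)⟩)))) (BT.node (nat_lit 40) (BT.node (nat_lit 38) (BT.leaf ⟨[(nat_lit 1), (nat_lit 5), (nat_lit 4), (nat_lit 1), (nat_lit 5), (nat_lit 1), (nat_lit 3), (nat_lit 5)], (nat_lit 5), (nat_lit 4), (nat_lit 0), (nat_lit 3)⟩) (BT.node (nat_lit 39) (BT.leaf ⟨[(nat_lit 2), (nat_lit 3), (nat_lit 1), (nat_lit 4), (nat_lit 2), (nat_lit 3)], (nat_lit 2), (nat_lit 3), (nat_lit 0), (nat_lit 3)⟩) (BT.leaf ⟨[(nat_lit 1), (nat_lit 4), (nat_lit 2), (nat_lit 3), (nat_lit 2), (nat_lit 3)], (nat_lit 2), (nat_lit 5), (nat_lit 0), (nat_lit 3)⟩))) (BT.node (nat_lit 41) (BT.leaf ⟨[(nat_lit 6), (nat_lit 2), (nat_lit 6), (nat_lit 4), (nat_lit 2), (nat_lit 6), (nat_lit 2), (nat_lit 3)],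 (nat_lit 15), (nat_lit 2), (nat_lit 0), (nat_lit 3)⟩) (BT.node (nat_lit 42) (BT.leaf ⟨[(nat_lit 2), (nat_lit 3), (nat_lit 2), (nat_lit 3), (nat_lit 1), (nat_lit 4)], (nat_lit 2), (nat_lit 1), (nat_lit 0), (nat_lit 3)⟩) (BT.leaf ⟨[(nat_lit 6), (nat_lit 2), (nat_lit 3), (nat_lit 6), (nat_lit 2), (nat_lit 6), (nat_lit 4), (nat_lit 2)], (nat_lit 15), (nat_lit 7), (nat_lit 0), (nat_lit 3)⟩)))))))
noncomputable def e_1_hcs : List CW := [⟨[(nat_lit 3)], (nat_lit 0), (nat_lit 0), (nat_lit 0), (nat_lit 0)⟩, ⟨[(nat_lit 1)], (nat_lit 1), (nat_lit 0), (nat_lit 0), (nat_lit 0)⟩, ⟨[(nat_lit 4)], (nat_lit 2), (nat_lit 0), (nat_lit 0), (nat_lit 0)⟩, ⟨[(nat_lit 2)], (nat_lit 3), (nat_lit 0), (nat_lit 0), (nat_lit 0)⟩]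
noncomputable def e_1_H (x j : Nat) : Bx (Nat → Nat → Nat) := mkH e_1_L e_1_pb.1 e_1_e.get (lmap CW.w e_1_hcs) (nat_lit 64) (nat_lit 65) (nat_lit 7) (nat_lit 128) (nat_lit 8192) (nat_lit 8191) x (e_1_rots.get j)
noncomputable def e_1_F (x b : Nat) : Bool := blkOK e_1_H e_1_ch (nat_lit 65) (nat_lit 128) (nat_lit 64) (nat_lit 8) (nat_lit 255) (nat_lit 18) (nat_lit 262143) x b

theorem e_1_k0_0 : allFrom (e_1_F (nat_lit 0)) (nat_lit 0) (nat_lit 4) = true := by decide +kernel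
theorem e_1_k1_0 : allFrom (e_1_F (nat_lit 1)) (nat_lit 0) (nat_lit 4) = true := by decide +kernel
theorem e_1_k2_0 : allFrom (e_1_F (nat_lit 2)) (nat_lit 0) (nat_lit 4) = true := by decide +kernel
theorem e_1_k3_0 : allFrom (e_1_F (nat_lit 3)) (nat_lit 0) (nat_lit 4) = true := by decide +kernel
theorem e_1_k4_0 : allFrom (e_1_F (nat_lit 4)) (nat_lit 0) (nat_lit 4) = true := by decide +kernel
theorem e_1_k5_0 : allFrom (e_1_F (nat_lit 5)) (nat_lit 0) (nat_lit 4) = true := by decide +kernel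
theorem e_1_k6_0 : allFrom (e_1_F (nat_lit 6)) (nat_lit 0) (nat_lit 4) = true := by decide +kernel

noncomputable def e_2_c0 : BT (Bx Nat) := (BT.leaf (Bx.mk (nat_lit 0x0)))
noncomputable def e_2_c1 : BT (Bx Nat) := (BT.leaf (Bx.mk (nat_lit 0x3a20c431f3f44c45af951991c33844b4e544fcd1a01a31813a6230cda2189c25b52cb7a65acd5b5485a2a64b5ce0c722188425ad8861ea0c5032dbc430e81d34496ea2186c25a530b5680c797a0ec430b3867278c650dcab512f60b5095aee0191460bc3c640d1628f2d08e3308c16910c1a12c9460ac37a46cd06e3052383094062edc01dd182be3088c12d18245d1864430284b091820e30c080000)))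
noncomputable def e_2_c2 : BT (Bx Nat) := (BT.leaf (Bx.mk (nat_lit 0x21609ccb92457438af8a159c42984453440a98fb8f9ea3c085523dcda015a442932c564b28f4315b9171464538c0abe0156442902c54608ac14158ae29b4057670afe01524428d3051f0b864e14aa0c978c1808a8896150bafae6051cf8a9d064f1ccb84531710a1cf14eab72a8c16b00a462143460ad8c157182a23052bcc058c140c8a59d64640a086851518249e4c4c02838850518212214080000)))
noncomputable def e_2_c3 : BT (Bx Nat) := (BT.leaf (Bx.mk (nat_lit 0x41e0983b33c74a60efd01de1e39944768364ea21cac26b9187564fcb451dba639b3474096059a94d103a38872109abda1ce351ac5076b10e3a13552d2921c760b9a9091df3150d31a4f10e2e1351219408871509a7d71d9106b648776c9a46305ec438784d3088e76305c4438684d28a8e3e3058c60ae60751182a6305338d0c8c1431827a21c1c26898c12f1824e21c13e3858c11100e1230c080000)))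
noncomputable def e_2_c4 : BT (Bx Nat) := (BT.leaf (Bx.mk (nat_lit 0x5ae09e52036b7c54e96228ca38bd4e136294ea029c445151926a394715b15a493b35280c4c7622889092780a5d11440829b3252c1d06f014a622873338f2ca4711435041fac526278610148622859dc3380a3d11429298b370ad52c68c94c5049e4051788a0e894ca305cc051388a0ca94a1828d460af5ab25182a972923650c8c1451827e0284445038c131182520482428028c11318216228080000)))
noncomputable def e_2_c5 : BT (Bx Nat) := (BT.leaf (Bx.mk (nat_lit 0x222518c4c12c95851894e25e9d4bf4493c212ac5bdc1edb50896e392d0431ca77a10bc4f11245f6d68f7b070952f1299a90f9c4bc0c92af925df249b262a2bc40e9260b3ccb14921c980b98c8891b104b364c628125a2244c261d889110986e305f404ae69b51182ee305d2f2247cf5eb185189114448584c2111212130742f0c889070982e304e4609a889050981e3047c608d8c1151821a30c080000)))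
noncomputable def e_2_c6 : BT (Bx Nat) := (BT.leaf (Bx.mk (nat_lit 0x75a0107233487911064fd9e9faac8882d11054321a884390fb6e39084e21c11db627640b1089820f8c4307882709c61e21898b3f17b74c10a1d597b241704866faab8921f2c4148c182b9045221a124276485a92aee020e444098083511020a212bcb2680e548ac784595aa41281552b909230594040f8880b0103622024040c808151100e304ec609b8080d1100a30484608e8c1171821e220080000)))
noncomputable def e_2_c7 : BT (Bx Nat) := (BT.leaf (Bx.mk (nat_lit 0x1fe092bb188436288f0c11d8d9be3797a208a89116999b5884291084cb11c1a218884247e6808120442102974240890acdc9421e279382aee861071eb968841a58888d44b928ae8841662e9891179c232384145fab0a10d1022b8c17e5ae7621039cbb43044a708a22103460b78c16d182cc8e47c60b01c4223e6a63053c42038c1467ae7dc1043ab898c13318255e1023e8858c11910806304100000)))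
noncomputable def e_2_p : BT (Bx Nat) := (BT.leaf (Bx.mk (nat_lit 0xa8c6a7c2a6c78645864386018585854585448543850784c784c284c18487844684438407840484038402840183c2838483838382834783438342834182c782c482c382c282848283824682458206820561c761c461c361c161876184618361826181614661456106610560c760c660c560c460c340864085408440824081204700000000)))
noncomputable def e_2_e0 : BT Nat := (BT.node (nat_lit 67) (BT.leaf (nat_lit 524290)) (BT.node (nat_lit 69) (BT.leaf (nat_lit 262146)) (BT.leaf (nat_lit 2))))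
noncomputable def e_2_e : BT Nat := e_2_e0
noncomputable def e_2_cols : List (BT (Bx Nat)) := [e_2_c0, e_2_c1, e_2_c2, e_2_c3, e_2_c4, e_2_c5, e_2_c6, e_2_c7]
noncomputable def e_2_ch (x j : Nat) : Bx Nat := chunkG e_2_cols (nat_lit 1) x j
noncomputable def e_2_L (x : Nat) : Bx (Nat → Nat) := lookG e_2_ch (nat_lit 8) (nat_lit 255) (nat_lit 19) (nat_lit 524287) x
noncomputable def e_2_pc (_ j : Nat) : Bx Nat := e_2_p.get j
noncomputable def e_2_pb : Bx (Nat → Nat) := lookG e_2_pc (nat_lit 8) (nat_lit 255) (nat_lit 16) (nat_lit 65535) (nat_lit 0)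
noncomputable def e_2_rots : BT CW := (BT.node (nat_lit 31) (BT.node (nat_lit 15) (BT.node (nat_lit 7) (BT.node (nat_lit 3) (BT.node (nat_lit 1) (BT.leaf ⟨[], (nat_lit 1000000), (nat_lit 0), (nat_lit 0), (nat_lit 0)⟩) (BT.node (nat_lit 2) (BT.leaf ⟨[], (nat_lit 1000000), (nat_lit 0), (nat_lit 0), (nat_lit 1)⟩) (BT.leaf ⟨[], (nat_lit 1000000), (nat_lit 0), (nat_lit 0), (nat_lit 2)⟩))) (BT.node (nat_lit 5) (BT.node (nat_lit 4) (BT.leaf ⟨[(nat_lit 7), (nat_lit 7)], (nat_lit 6), (nat_lit 0), (nat_lit 0), (nat_lit 3)⟩) (BT.leaf ⟨[(nat_lit 2), (nat_lit 1)], (nat_lit 14), (nat_lit 1), (nat_lit 0), (nat_lit 3)⟩)) (BT.node (nat_lit 6) (BT.leaf ⟨[(nat_lit 1), (nat_lit 2)], (nat_lit 14), (nat_lit 0), (nat_lit 0), (nat_lit 3)⟩) (BT.leaf ⟨[(nat_lit 3), (nat_lit 4)], (nat_lit 13), (nat_lit 0), (nat_lit 0), (nat_lit 3)⟩)))) (BT.node (nat_lit 11) (BT.node (nat_lit 9) (BT.node (nat_lit 8) (BT.leaf ⟨[(nat_lit 6), (nat_lit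 5)], (nat_lit 12), (nat_lit 1), (nat_lit 0), (nat_lit 3)⟩) (BT.leaf ⟨[(nat_lit 5), (nat_lit 6)], (nat_lit 12), (nat_lit 0), (nat_lit 0), (nat_lit 3)⟩)) (BT.node (nat_lit 10) (BT.leaf ⟨[(nat_lit 4), (nat_lit 3)], (nat_lit 13), (nat_lit 1), (nat_lit 0), (nat_lit 3)⟩) (BT.leaf ⟨[(nat_lit 1), (nat_lit 1), (nat_lit 1)], (nat_lit 0), (nat_lit 0), (nat_lit 0), (nat_lit 3)⟩))) (BT.node (nat_lit 13) (BT.node (nat_lit 12) (BT.leaf ⟨[(nat_lit 5), (nat_lit 5), (nat_lit 5)], (nat_lit 3), (nat_lit 0), (nat_lit 0), (nat_lit 3)⟩) (BT.leaf ⟨[(nat_lit 3), (nat_lit 3), (nat_lit 3)], (nat_lit 1), (nat_lit 0), (nat_lit 0), (nat_lit 3)⟩)) (BT.node (nat_lit 14) (BT.leaf ⟨[(nat_lit 6), (nat_lit 3), (nat_lit 5), (nat_lit 4), (nat_lit 6), (nat_lit 3)], (nat_lit 19), (nat_lit 3), (nat_lit 0), (nat_lit 3)⟩) (BT.leaf ⟨[(nat_lit 5), (nat_lit 4), (nat_lit 6), (nat_lit 3), (nat_lit 6), (nat_lit 3)], (nat_lit 19), (nat_lit 5), (nat_lit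 0), (nat_lit 3)⟩))))) (BT.node (nat_lit 23) (BT.node (nat_lit 19) (BT.node (nat_lit 17) (BT.node (nat_lit 16) (BT.leaf ⟨[(nat_lit 4), (nat_lit 7), (nat_lit 3), (nat_lit 1), (nat_lit 7), (nat_lit 2)], (nat_lit 7), (nat_lit 2), (nat_lit 0), (nat_lit 3)⟩) (BT.leaf ⟨[(nat_lit 7), (nat_lit 3), (nat_lit 7), (nat_lit 3), (nat_lit 7), (nat_lit 3)], (nat_lit 8), (nat_lit 0), (nat_lit 0), (nat_lit 3)⟩)) (BT.node (nat_lit 18) (BT.leaf ⟨[(nat_lit 4), (nat_lit 4), (nat_lit 4)], (nat_lit 16), (nat_lit 0), (nat_lit 0), (nat_lit 3)⟩) (BT.leaf ⟨[(nat_lit 2), (nat_lit 3), (nat_lit 1), (nat_lit 4), (nat_lit 2), (nat_lit 3)], (nat_lit 2), (nat_lit 3), (nat_lit 0), (nat_lit 3)⟩))) (BT.node (nat_lit 21) (BT.node (nat_lit 20) (BT.leaf ⟨[(nat_lit 2), (nat_lit 4), (nat_lit 1), (nat_lit 4), (nat_lit 1), (nat_lit 3)], (nat_lit 17), (nat_lit 0), (nat_lit 0), (nat_lit 3)⟩) (BT.leaf ⟨[(nat_lit 6), (nat_lit 4), (nat_lit 5), (nat_lit 4),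 (nat_lit 5), (nat_lit 3)], (nat_lit 4), (nat_lit 0), (nat_lit 0), (nat_lit 3)⟩)) (BT.node (nat_lit 22) (BT.leaf ⟨[(nat_lit 6), (nat_lit 6), (nat_lit 6)], (nat_lit 18), (nat_lit 0), (nat_lit 0), (nat_lit 3)⟩) (BT.leaf ⟨[(nat_lit 7), (nat_lit 3), (nat_lit 1), (nat_lit 7), (nat_lit 2), (nat_lit 4)], (nat_lit 7), (nat_lit 3), (nat_lit 0), (nat_lit 3)⟩)))) (BT.node (nat_lit 27) (BT.node (nat_lit 25) (BT.node (nat_lit 24) (BT.leaf ⟨[(nat_lit 2), (nat_lit 4), (nat_lit 7), (nat_lit 3), (nat_lit 1), (nat_lit 7)], (nat_lit 7), (nat_lit 1), (nat_lit 0), (nat_lit 3)⟩) (BT.leaf ⟨[(nat_lit 2), (nat_lit 2), (nat_lit 2)], (nat_lit 15), (nat_lit 0), (nat_lit 0), (nat_lit 3)⟩)) (BT.node (nat_lit 26) (BT.leaf ⟨[(nat_lit 3), (nat_lit 2), (nat_lit 4), (nat_lit 1), (nat_lit 4), (nat_lit 1)], (nat_lit 17), (nat_lit 5), (nat_lit 0), (nat_lit 3)⟩) (BT.leaf ⟨[(nat_lit 5), (nat_lit 1), (nat_lit 5), (nat_lit 4), (nat_lit 1), (nat_lit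 5), (nat_lit 1), (nat_lit 3)], (nat_lit 5), (nat_lit 3), (nat_lit 0), (nat_lit 3)⟩))) (BT.node (nat_lit 29) (BT.node (nat_lit 28) (BT.leaf ⟨[(nat_lit 2), (nat_lit 7), (nat_lit 5), (nat_lit 7), (nat_lit 2), (nat_lit 4), (nat_lit 2), (nat_lit 5), (nat_lit 7), (nat_lit 1), (nat_lit 6), (nat_lit 4)], (nat_lit 24), (nat_lit 8), (nat_lit 0), (nat_lit 3)⟩) (BT.leaf ⟨[(nat_lit 1), (nat_lit 6), (nat_lit 4), (nat_lit 2), (nat_lit 7), (nat_lit 5), (nat_lit 7), (nat_lit 2), (nat_lit 4), (nat_lit 2), (nat_lit 5), (nat_lit 7)], (nat_lit 24), (nat_lit 5), (nat_lit 0), (nat_lit 3)⟩)) (BT.node (nat_lit 30) (BT.leaf ⟨[(nat_lit 5), (nat_lit 7), (nat_lit 2), (nat_lit 7), (nat_lit 2), (nat_lit 5), (nat_lit 2), (nat_lit 4), (nat_lit 5), (nat_lit 7), (nat_lit 1), (nat_lit 7)], (nat_lit 25), (nat_lit 6), (nat_lit 0), (nat_lit 3)⟩) (BT.leaf ⟨[(nat_lit 2), (nat_lit 4), (nat_lit 5), (nat_lit 7), (nat_lit 1), (nat_lit 7), (nat_lit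 5), (nat_lit 7), (nat_lit 2), (nat_lit 7), (nat_lit 2), (nat_lit 5)], (nat_lit 25), (nat_lit 0), (nat_lit 0), (nat_lit 3)⟩)))))) (BT.node (nat_lit 47) (BT.node (nat_lit 39) (BT.node (nat_lit 35) (BT.node (nat_lit 33) (BT.node (nat_lit 32) (BT.leaf ⟨[(nat_lit 1), (nat_lit 5), (nat_lit 4), (nat_lit 1), (nat_lit 5), (nat_lit 1), (nat_lit 3), (nat_lit 5)], (nat_lit 5), (nat_lit 4), (nat_lit 0), (nat_lit 3)⟩) (BT.leaf ⟨[(nat_lit 4), (nat_lit 1), (nat_lit 5), (nat_lit 1), (nat_lit 3), (nat_lit 5), (nat_lit 1), (nat_lit 5)], (nat_lit 5), (nat_lit 6), (nat_lit 0), (nat_lit 3)⟩)) (BT.node (nat_lit 34) (BT.leaf ⟨[(nat_lit 1), (nat_lit 3), (nat_lit 5), (nat_lit 1), (nat_lit 5), (nat_lit 4), (nat_lit 1), (nat_lit 5)], (nat_lit 5), (nat_lit 1), (nat_lit 0), (nat_lit 3)⟩) (BT.leaf ⟨[(nat_lit 3), (nat_lit 2), (nat_lit 3), (nat_lit 1), (nat_lit 4), (nat_lit 2)], (nat_lit 2), (nat_lit 2), (nat_lit 0), (nat_lit 3)⟩))) (BT.node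 (nat_lit 37) (BT.node (nat_lit 36) (BT.leaf ⟨[(nat_lit 5), (nat_lit 3), (nat_lit 6), (nat_lit 4), (nat_lit 5), (nat_lit 4)], (nat_lit 4), (nat_lit 4), (nat_lit 0), (nat_lit 3)⟩) (BT.leaf ⟨[(nat_lit 3), (nat_lit 6), (nat_lit 3), (nat_lit 5), (nat_lit 4), (nat_lit 6)], (nat_lit 19), (nat_lit 2), (nat_lit 0), (nat_lit 3)⟩)) (BT.node (nat_lit 38) (BT.leaf ⟨[(nat_lit 4), (nat_lit 5), (nat_lit 4), (nat_lit 5), (nat_lit 3), (nat_lit 6)], (nat_lit 4), (nat_lit 1), (nat_lit 0), (nat_lit 3)⟩) (BT.leaf ⟨[(nat_lit 4), (nat_lit 5), (nat_lit 3), (nat_lit 6), (nat_lit 4), (nat_lit 5)], (nat_lit 4), (nat_lit 3), (nat_lit 0), (nat_lit 3)⟩)))) (BT.node (nat_lit 43) (BT.node (nat_lit 41) (BT.node (nat_lit 40) (BT.leaf ⟨[(nat_lit 1), (nat_lit 5), (nat_lit 1), (nat_lit 3), (nat_lit 5), (nat_lit 1), (nat_lit 5), (nat_lit 4)], (nat_lit 5), (nat_lit 7), (nat_lit 0), (nat_lit 3)⟩) (BT.leaf ⟨[(nat_lit 5), (nat_lit 1), (nat_lit 3),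 (nat_lit 5), (nat_lit 1), (nat_lit 5), (nat_lit 4), (nat_lit 1)], (nat_lit 5), (nat_lit 0), (nat_lit 0), (nat_lit 3)⟩)) (BT.node (nat_lit 42) (BT.leaf ⟨[(nat_lit 3), (nat_lit 5), (nat_lit 1), (nat_lit 5), (nat_lit 4), (nat_lit 1), (nat_lit 5), (nat_lit 1)], (nat_lit 5), (nat_lit 2), (nat_lit 0), (nat_lit 3)⟩) (BT.leaf ⟨[(nat_lit 4), (nat_lit 6), (nat_lit 3), (nat_lit 6), (nat_lit 3), (nat_lit 5)], (nat_lit 19), (nat_lit 0), (nat_lit 0), (nat_lit 3)⟩))) (BT.node (nat_lit 45) (BT.node (nat_lit 44) (BT.leaf ⟨[(nat_lit 4), (nat_lit 1), (nat_lit 4), (nat_lit 1), (nat_lit 3), (nat_lit 2)], (nat_lit 17), (nat_lit 1), (nat_lit 0), (nat_lit 3)⟩) (BT.leaf ⟨[(nat_lit 1), (nat_lit 4), (nat_lit 2), (nat_lit 3), (nat_lit 2), (nat_lit 3)], (nat_lit 2), (nat_lit 5), (nat_lit 0), (nat_lit 3)⟩)) (BT.node (nat_lit 46) (BT.leaf ⟨[(nat_lit 2), (nat_lit 3), (nat_lit 2), (nat_lit 3), (nat_lit 1), (nat_lit 4)], (nat_lit 2), (nat_lit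 1), (nat_lit 0), (nat_lit 3)⟩) (BT.leaf ⟨[(nat_lit 5), (nat_lit 4), (nat_lit 5), (nat_lit 3), (nat_lit 6), (nat_lit 4)], (nat_lit 4), (nat_lit 2), (nat_lit 0), (nat_lit 3)⟩))))) (BT.node (nat_lit 55) (BT.node (nat_lit 51) (BT.node (nat_lit 49) (BT.node (nat_lit 48) (BT.leaf ⟨[(nat_lit 3), (nat_lit 5), (nat_lit 4), (nat_lit 6), (nat_lit 3), (nat_lit 6)], (nat_lit 19), (nat_lit 4), (nat_lit 0), (nat_lit 3)⟩) (BT.leaf ⟨[(nat_lit 4), (nat_lit 1), (nat_lit 3), (nat_lit 2), (nat_lit 4), (nat_lit 1)], (nat_lit 17), (nat_lit 3), (nat_lit 0), (nat_lit 3)⟩)) (BT.node (nat_lit 50) (BT.leaf ⟨[(nat_lit 3), (nat_lit 1), (nat_lit 4), (nat_lit 2), (nat_lit 3), (nat_lit 2)], (nat_lit 2), (nat_lit 4), (nat_lit 0), (nat_lit 3)⟩) (BT.leaf ⟨[(nat_lit 7), (nat_lit 2), (nat_lit 4), (nat_lit 7), (nat_lit 3), (nat_lit 1)], (nat_lit 7), (nat_lit 0), (nat_lit 0), (nat_lit 3)⟩))) (BT.node (nat_lit 53) (BT.node (nat_lit 52) (BT.leaf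 ⟨[(nat_lit 1), (nat_lit 4), (nat_lit 1), (nat_lit 3), (nat_lit 2), (nat_lit 4)], (nat_lit 17), (nat_lit 2), (nat_lit 0), (nat_lit 3)⟩) (BT.leaf ⟨[(nat_lit 6), (nat_lit 2), (nat_lit 6), (nat_lit 4), (nat_lit 2), (nat_lit 6), (nat_lit 2), (nat_lit 3)], (nat_lit 20), (nat_lit 2), (nat_lit 0), (nat_lit 3)⟩)) (BT.node (nat_lit 54) (BT.leaf ⟨[(nat_lit 6), (nat_lit 4), (nat_lit 2), (nat_lit 6), (nat_lit 2), (nat_lit 3), (nat_lit 6), (nat_lit 2)], (nat_lit 20), (nat_lit 4), (nat_lit 0), (nat_lit 3)⟩) (BT.leaf ⟨[(nat_lit 1), (nat_lit 7), (nat_lit 6), (nat_lit 7), (nat_lit 1), (nat_lit 3), (nat_lit 5), (nat_lit 2), (nat_lit 7), (nat_lit 6), (nat_lit 1), (nat_lit 3)], (nat_lit 9), (nat_lit 11), (nat_lit 0), (nat_lit 3)⟩)))) (BT.node (nat_lit 59) (BT.node (nat_lit 57) (BT.node (nat_lit 56) (BT.leaf ⟨[(nat_lit 4), (nat_lit 7), (nat_lit 4), (nat_lit 7), (nat_lit 4), (nat_lit 7)], (nat_lit 23), (nat_lit 0), (nat_lit 0),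 (nat_lit 3)⟩) (BT.leaf ⟨[(nat_lit 7), (nat_lit 4), (nat_lit 7), (nat_lit 4), (nat_lit 7), (nat_lit 4)], (nat_lit 23), (nat_lit 1), (nat_lit 0), (nat_lit 3)⟩)) (BT.node (nat_lit 58) (BT.leaf ⟨[(nat_lit 1), (nat_lit 7), (nat_lit 2), (nat_lit 4), (nat_lit 7), (nat_lit 3)], (nat_lit 7), (nat_lit 5), (nat_lit 0), (nat_lit 3)⟩) (BT.leaf ⟨[(nat_lit 6), (nat_lit 3), (nat_lit 6), (nat_lit 3), (nat_lit 5), (nat_lit 4)], (nat_lit 19), (nat_lit 1), (nat_lit 0), (nat_lit 3)⟩))) (BT.node (nat_lit 61) (BT.node (nat_lit 60) (BT.leaf ⟨[(nat_lit 5), (nat_lit 4), (nat_lit 1), (nat_lit 5), (nat_lit 1), (nat_lit 3), (nat_lit 5), (nat_lit 1)], (nat_lit 5), (nat_lit 5), (nat_lit 0), (nat_lit 3)⟩) (BT.leaf ⟨[(nat_lit 7), (nat_lit 6), (nat_lit 3), (nat_lit 1), (nat_lit 6), (nat_lit 1), (nat_lit 7), (nat_lit 1), (nat_lit 7), (nat_lit 6), (nat_lit 7), (nat_lit 2)], (nat_lit 10), (nat_lit 8), (nat_lit 0), (nat_lit 3)⟩)) (BT.node (nat_lit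 62) (BT.leaf ⟨[(nat_lit 3), (nat_lit 7), (nat_lit 3), (nat_lit 7), (nat_lit 3), (nat_lit 7)], (nat_lit 8), (nat_lit 1), (nat_lit 0), (nat_lit 3)⟩) (BT.leaf ⟨[(nat_lit 7), (nat_lit 2), (nat_lit 4), (nat_lit 2), (nat_lit 5), (nat_lit 7), (nat_lit 1), (nat_lit 6), (nat_lit 4), (nat_lit 2), (nat_lit 7), (nat_lit 5)], (nat_lit 24), (nat_lit 11), (nat_lit 0), (nat_lit 3)⟩)))))))
noncomputable def e_2_hcs : List CW := [⟨[(nat_lit 5)], (nat_lit 0), (nat_lit 0), (nat_lit 0), (nat_lit 0)⟩, ⟨[(nat_lit 3)], (nat_lit 1), (nat_lit 0), (nat_lit 0), (nat_lit 0)⟩, ⟨[(nat_lit 1)], (nat_lit 2), (nat_lit 0), (nat_lit 0), (nat_lit 0)⟩, ⟨[(nat_lit 6)], (nat_lit 3), (nat_lit 0), (nat_lit 0), (nat_lit 0)⟩, ⟨[(nat_lit 4)], (nat_lit 4), (nat_lit 0), (nat_lit 0), (nat_lit 0)⟩, ⟨[(nat_lit 2)], (nat_lit 5), (nat_lit 0), (nat_lit 0), (nat_lit 0)⟩]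
noncomputable def e_2_H (x j : Nat) : Bx (Nat → Nat → Nat) := mkH e_2_L e_2_pb.1 e_2_e.get (lmap CW.w e_2_hcs) (nat_lit 65) (nat_lit 66) (nat_lit 8) (nat_lit 128) (nat_lit 8192) (nat_lit 8191) x (e_2_rots.get j)
noncomputable def e_2_F (x b : Nat) : Bool := blkOK e_2_H e_2_ch (nat_lit 66) (nat_lit 128) (nat_lit 64) (nat_lit 8) (nat_lit 255) (nat_lit 19) (nat_lit 524287) x b

theorem e_2_k0_0 : allFrom (e_2_F (nat_lit 0)) (nat_lit 0) (nat_lit 4) = true := by decide +kernel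
theorem e_2_k1_0 : allFrom (e_2_F (nat_lit 1)) (nat_lit 0) (nat_lit 4) = true := by decide +kernel
theorem e_2_k2_0 : allFrom (e_2_F (nat_lit 2)) (nat_lit 0) (nat_lit 4) = true := by decide +kernel
theorem e_2_k3_0 : allFrom (e_2_F (nat_lit 3)) (nat_lit 0) (nat_lit 4) = true := by decide +kernel
theorem e_2_k4_0 : allFrom (e_2_F (nat_lit 4)) (nat_lit 0) (nat_lit 4) = true := by decide +kernel
theorem e_2_k5_0 : allFrom (e_2_F (nat_lit 5)) (nat_lit 0) (nat_lit 4) = true := by decide +kernel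
theorem e_2_k6_0 : allFrom (e_2_F (nat_lit 6)) (nat_lit 0) (nat_lit 4) = true := by decide +kernel
theorem e_2_k7_0 : allFrom (e_2_F (nat_lit 7)) (nat_lit 0) (nat_lit 4) = true := by decide +kernel

noncomputable def C : List Lvl := [⟨(nat_lit 1), [[(nat_lit 7)],
  [(nat_lit 5)],
  [(nat_lit 3)],
  [(nat_lit 1)]], (nat_lit 4)⟩,
  ⟨(nat_lit 3), [[(nat_lit 5)],
  [(nat_lit 3)],
  [(nat_lit 1)]], (nat_lit 5)⟩,
  ⟨(nat_lit 4), [[(nat_lit 3)],
  [(nat_lit 1)]], (nat_lit 3)⟩]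

noncomputable def y7 : List Nat := [(nat_lit 6), (nat_lit 3)]
noncomputable def T7 : Tr := (.op 5 0 (.focus 0 (.cons [] 0 7 (.op 2 0 (.xor 0 2 (.focus 0 (.sym [[1]] (.cons [] 6 1 (.base (nat_lit 0x105e310e130880170) (.focus 0 (.base (nat_lit 0x3004000a00028000) (.op 7 0 (.focus 0 (.base (nat_lit 0x18030000010005) (.op 4 0 (.xor 7 0 (.focus 0 (.cons [] 0 1 .triv .nil)))))))))) (.cons [5, 2] 6 0 (.base (nat_lit 0x105e310e130880170) (.op 4 1 (.op 4 0 (.and 2 0 (.dead0 0))))) (.cons [6, 2] 6 0 (.base (nat_lit 0x105e310e130880170) (.op 4 1 (.and 1 0 (.dead0 0)))) (.cons [6, 1] 6 0 (.base (nat_lit 0x105e310e130880170) (.and 0 5 (.dead0 0))) (.cons [2, 5, 2] 6 0 (.base (nat_lit 0x105e310e130880170) (.op 4 1 (.and 1 0 (.dead0 0)))) (.cons [5, 4, 2] 6 0 (.base (nat_lit 0x105e310e130880170) (.and 0 5 (.dead0 0))) (.cons [3, 5, 2] 6 0 (.base (nat_lit 0x105e310e130880170) (.op 4 1 (.op 4 0 (.op 4 0 (.and 3 0 (.dead0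 0)))))) (.cons [5, 4, 1] 6 0 (.base (nat_lit 0x105e310e130880170) (.and 0 5 (.dead0 0))) (.cons [6, 4, 1] 6 0 (.base (nat_lit 0x105e310e130880170) (.op 4 1 (.and 1 0 (.dead0 0)))) .nil))))))))))))) (.cons [8, 5, 1] 0 0 (.op 2 0 (.xor 0 2 (.focus 0 (.sym [[1]] (.cons [] 6 0 (.base (nat_lit 0x105e310e130880170) (.op 4 1 (.and 1 0 (.dead0 0)))) (.cons [1] 6 0 (.base (nat_lit 0x105e310e130880170) (.and 0 5 (.dead0 0))) (.cons [2] 6 0 (.base (nat_lit 0x105e310e130880170) (.op 4 1 (.and 1 0 (.dead0 0)))) (.cons [6, 2] 6 0 (.base (nat_lit 0x105e310e130880170) (.and 0 5 (.dead0 0))) (.cons [5, 1] 6 0 (.base (nat_lit 0x105e310e130880170) (.op 4 1 (.op 4 0 (.and 2 0 (.dead0 0))))) (.cons [4, 2] 6 0 (.base (nat_lit 0x105e310e130880170) (.op 4 1 (.and 1 0 (.dead0 0)))) (.cons [3, 1] 6 0 (.base (nat_lit 0x400081040c80) (.and 0 5 (.dead0 0))) (.cons [4, 1] 6 0 (.base (nat_lit 0x105e310e130880170) (.and 0 5 (.dead0 0)))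 (.cons [4, 6, 2] 6 0 (.base (nat_lit 0x105e310e130880170) (.op 4 1 (.and 1 0 (.dead0 0)))) .nil))))))))))))) .nil))))
noncomputable def T7K : List (List Nat) := [[5, 4]]
noncomputable def T7F : List (List Nat) := [[], [1]]
noncomputable def y13 : List Nat := [(nat_lit 5), (nat_lit 8), (nat_lit 2)]
noncomputable def T13 : Tr := (.sym [[1]] (.cons [] 12 1 (.op 7 0 (.op 7 0 (.op 7 0 (.op 7 0 (.op 7 0 (.op 7 0 (.focus 0 (.cons [] 0 1 (.focus 5 (.cons [] 0 1 .triv .nil)) .nil)))))))) (.cons [1] 12 0 (.op 7 0 (.op 7 0 (.op 7 0 (.op 7 0 (.op 7 0 (.op 7 0 (.focus 0 (.cons [4, 6, 4, 1] 0 0 (.base (nat_lit 0x105e310e130880170) (.and 0 6 (.dead0 0))) .nil)))))))) (.cons [7, 4, 1] 12 0 (.op 7 0 (.op 7 0 (.op 7 0 (.op 7 0 (.op 7 0 (.op 7 0 (.focus 0 (.cons [3, 2] 0 0 (.base (nat_lit 0x105e310e130880170) (.op 7 1 (.op 7 0 (.op 7 0 (.and 3 0 (.dead0 0)))))) .nil)))))))) (.cons [4, 5, 1] 12 0 (.op 7 0 (.op 7 0 (.op 7 0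 (.op 7 0 (.op 7 0 (.op 7 0 (.focus 0 (.cons [2, 5, 1] 0 0 (.base (nat_lit 0x105e310e130880170) (.and 0 7 (.dead0 0))) .nil)))))))) (.cons [4, 6, 1] 12 0 (.op 7 0 (.op 7 0 (.op 7 0 (.op 7 0 (.op 7 0 (.op 7 0 (.focus 0 (.cons [2, 6, 1] 0 0 (.base (nat_lit 0x105e310e130880170) (.and 0 7 (.dead0 0))) .nil)))))))) .nil))))))
noncomputable def T13K : List (List Nat) := [[4, 7, 3, 1, 6]]
noncomputable def T13F : List (List Nat) := [[], [1]]
noncomputable def Wo : List (List Nat) := [[(nat_lit 7), (nat_lit 5)],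
  [(nat_lit 3), (nat_lit 2), (nat_lit 6), (nat_lit 7)]]
noncomputable def y5 : List Nat := [(nat_lit 8), (nat_lit 6), (nat_lit 3)]
noncomputable def M : List Nat := [(nat_lit 0x800000000000e00000000000c00000000000180000000000100000000000040000000000c10000000000818000000000238000000000647000000000b82000000000544000000000000600000000000a000000000004000000000000800000000000c00000000001c0000000000408000000000630000000000e28000000000dc5000000000881000000000303000000600000e00000a000004000004000008000000800001000000c00001c00001c0000180000408000818000630000e28000e28000c10000dc5000b82000881000303000303000647000200c00000a00c00800000200a002000006001400400000c00401800001400c0140000080a20238000630238c10000a20630a20000408ec6544000881544647000ec6881ec6000dc5),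
  (nat_lit 0x800000000000a00000000000600000000000080000000000180000000000040000000000e18000000000220000000000a30000000000ac1000000000f02000000000987000000000000e00000000000200000000000a000000000000c0000000000100000000000180000000000428000000000c380000000002200000000003460000000005c3000000000f02000000a00000200000e00000400000800000e000001800001000000c00001400000800000c0000220000c38000428000608000e18000428000f020005c3000346000c44000ac1000346000400200000c00c00400000600200e000004001401000001c01c01400000401000c0000140608c38000810810608000a30c38428000608c445c3000685685c440009875c3346000c44),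
  (nat_lit 0x400000000000600000000000e00000000000180000000000100000000000040000000000838000000000e10000000000c20000000000f410000000004460000000008c5000000000000a000000000002000000000006000000000001c0000000000080000000000100000000000418000000000628000000000e10000000000784000000000b07000000000446000000e00000200000400000c00000800000a000000400000800001800000c00001400001c0000c20000628000838000a080002300004180008c5000b07000f410003c2000c83000784000200600000800c00a00000e00a00400000c000801000001400c01c00000401c01800000c0628e10000230a08418000c20418838000a08b07446000c833c27840008c5784f410003c2),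
  (nat_lit 0x600000000000800000000000c00000000000080000000000180000000000040000000000e08000000000210000000000a38000000000505000000000d470000000002c4000000000000c000000000006000000000004000000000000400000000000800000000001c0000000000a38000000000e080000000008280000000002c4000000000505000000000f83000000400000a00000c00000e000002000008000001c00000c0000040000100000140000180000828000430000a38000c18000620000210000f830007c10002c4000842000a86000d47000c00200000800600400000a00400e000006000401400001800801c00000c01c0100000080a38620000210e08828000430828c18000e082c4a86000d47505f830007c1f83842000505),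
  (nat_lit 0x800000000000e00000000000c00000000000580000000000700000000000e400000000001100000000001d80000000001b80000000002af000000000cca000000000bdc000000000e00600000000400a00000000800400000000700280000000bc0cc0000000580bc00000001d80c80000000a81700000001100a8000000ccae650000009735b90000002af973000000000800e00000000e00400000000c00800000000580700000000700bc0000000e405800000001101d80000001d80a80000001b81100000002afcca000000cca973000000bdc2af000c00e00400a00800400600200200800e00600e40700bc0cc0580bc02809409405807002801b81d80a81701100a80c80600601101d80c8bdccca9735b92af973e657167162afccae65),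
  (nat_lit 0x800000000000a00000000000600000000000c80000000000780000000000440000000000458000000000ca00000000003f0000000000e11000000000232000000000a0f000000000600e00000000800200000000c00a000000004408c0000000c80b000000003c07800000003f07a80000004588f8000000f50ca0000000a0f41e000000e11c2300000083d232000000e00c00200000200600400000a00400e000008c03c0b00000b00440f40000780f408c00007a8f508f80008f83f0b08000ca0b087a800041e83dc23000c23a0f62c00023262c41e000a00000e00c00e00000200600800000a004007800008c03c08c0000b00440c80000780f40ca00007a8f507a80008f83f0458000ca0b0823200041e83d41e000c23a0fe1100023262c),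
  (nat_lit 0x44d8da8da7b1b2644d44d3fc8da3fc3fcf6b541883883646b84541541307883307307ec5da9b53b5390eff4da9da94a7b534a74a725d392764764d1b9ed392392e89764e89e89a7f44d7b10008dab263fc00044d8daf6b0003fc541646000883b84307000541883ec5000307da990e000b53ff44a7000da9b5325d0004a7392d1b0007649ede89000392764a7f000e89b26b267b18dac97c973fc44d44d44df6b3fcb84b84646883dc2dc2307541541541ec5307ff4ff490eb536fa6fa4a7da9da9da925d4a79ed9edd1b7644f64f6e89392392392a7fe898dab2644d44d44dc97b26b263fc44d8da8da883b84541541541dc2b84b84307541883883b53ff4da9da9da96faff4ff44a7da9b53b537649ed3923923924f69ed9ede89392764764),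
  (nat_lit 0x44d8da8da7b1b2644d44d3fc8da3fc3fcf6b541883883646b84541541307883307307ec5da9b53b5390eff4da9da94a7b534a74a725d392764764d1b9ed392392e89764e89e89a7f44d7b10008dab263fc00044d8daf6b0003fc541646000883b84307000541883ec5000307da990e000b53ff44a7000da9b5325d0004a7392d1b0007649ede89000392764a7f000e89b26b267b18dac97c973fc44d44d44df6b3fcb84b84646883dc2dc2307541541541ec5307ff4ff490eb536fa6fa4a7da9da9da925d4a79ed9edd1b7644f64f6e89392392392a7fe898dab2644d44d44dc97b26b263fc44d8da8da883b84541541541dc2b84b84307541883883b53ff4da9da9da96faff4ff44a7da9b53b537649ed3923923924f69ed9ede89392764764)]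

theorem e_0_all : CF.Comp.Cov e_0_F 4 5 0 := by
  have h := CF.Comp.Cov.zero e_0_F 4
  have h := h.blk (b := 4) e_0_k0_0 rfl
  have h := h.next (y := 1) rfl rfl
  have h := h.blk (b := 4) e_0_k1_0 rfl
  have h := h.next (y := 2) rfl rfl
  have h := h.blk (b := 4) e_0_k2_0 rfl
  have h := h.next (y := 3) rfl rfl
  have h := h.blk (b := 4) e_0_k3_0 rfl
  have h := h.next (y := 4) rfl rfl
  have h := h.blk (b := 4) e_0_k4_0 rfl
  have h := h.next (y := 5) rfl rfl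
  exact h

theorem e_0 : Enum R_0 [] (gensW 2) 21 :=
  ⟨e_0_cols, e_0_ch, e_0_L, e_0_H, e_0_pb.1, e_0_e.get, [(nat_lit 0), (nat_lit 1), (nat_lit 2), (nat_lit 3), (nat_lit 4)], (nat_lit 0), (nat_lit 4), e_0_rots, e_0_hcs,
    (nat_lit 22), (nat_lit 5), (nat_lit 32), (nat_lit 32), (nat_lit 1024), (nat_lit 2047), (nat_lit 8), (nat_lit 255), (nat_lit 13), (nat_lit 8191), (nat_lit 1), (nat_lit 4),
    fun _ _ => rfl, fun _ => rfl, fun _ _ => rfl, by decide +kernel, e_0_all.1⟩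

theorem e_1_all : CF.Comp.Cov e_1_F 4 7 0 := by
  have h := CF.Comp.Cov.zero e_1_F 4
  have h := h.blk (b := 4) e_1_k0_0 rfl
  have h := h.next (y := 1) rfl rfl
  have h := h.blk (b := 4) e_1_k1_0 rfl
  have h := h.next (y := 2) rfl rfl
  have h := h.blk (b := 4) e_1_k2_0 rfl
  have h := h.next (y := 3) rfl rfl
  have h := h.blk (b := 4) e_1_k3_0 rfl
  have h := h.next (y := 4) rfl rfl
  have h := h.blk (b := 4) e_1_k4_0 rfl
  have h := h.next (y := 5) rfl rfl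
  have h := h.blk (b := 4) e_1_k5_0 rfl
  have h := h.next (y := 6) rfl rfl
  have h := h.blk (b := 4) e_1_k6_0 rfl
  have h := h.next (y := 7) rfl rfl
  exact h

theorem e_1 : Enum R_1 (gensW 2) (gensW 3) 64 :=
  ⟨e_1_cols, e_1_ch, e_1_L, e_1_H, e_1_pb.1, e_1_e.get, [(nat_lit 0), (nat_lit 1), (nat_lit 2), (nat_lit 3), (nat_lit 4), (nat_lit 5), (nat_lit 6)], (nat_lit 0), (nat_lit 4), e_1_rots, e_1_hcs,
    (nat_lit 65), (nat_lit 7), (nat_lit 128), (nat_lit 64), (nat_lit 8192), (nat_lit 8191), (nat_lit 8), (nat_lit 255), (nat_lit 18), (nat_lit 262143), (nat_lit 1), (nat_lit 4),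
    fun _ _ => rfl, fun _ => rfl, fun _ _ => rfl, by decide +kernel, e_1_all.1⟩

theorem e_2_all : CF.Comp.Cov e_2_F 4 8 0 := by
  have h := CF.Comp.Cov.zero e_2_F 4
  have h := h.blk (b := 4) e_2_k0_0 rfl
  have h := h.next (y := 1) rfl rfl
  have h := h.blk (b := 4) e_2_k1_0 rfl
  have h := h.next (y := 2) rfl rfl
  have h := h.blk (b := 4) e_2_k2_0 rfl
  have h := h.next (y := 3) rfl rfl
  have h := h.blk (b := 4) e_2_k3_0 rfl
  have h := h.next (y := 4) rfl rfl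
  have h := h.blk (b := 4) e_2_k4_0 rfl
  have h := h.next (y := 5) rfl rfl
  have h := h.blk (b := 4) e_2_k5_0 rfl
  have h := h.next (y := 6) rfl rfl
  have h := h.blk (b := 4) e_2_k6_0 rfl
  have h := h.next (y := 7) rfl rfl
  have h := h.blk (b := 4) e_2_k7_0 rfl
  have h := h.next (y := 8) rfl rfl
  exact h

theorem e_2 : Enum rels (gensW 3) (gensW 4) 65 :=
  ⟨e_2_cols, e_2_ch, e_2_L, e_2_H, e_2_pb.1, e_2_e.get, [(nat_lit 0), (nat_lit 1), (nat_lit 2), (nat_lit 3), (nat_lit 4), (nat_lit 5), (nat_lit 6), (nat_lit 7)], (nat_lit 8), (nat_lit 4), e_2_rots, e_2_hcs,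
    (nat_lit 66), (nat_lit 8), (nat_lit 128), (nat_lit 64), (nat_lit 8192), (nat_lit 8191), (nat_lit 8), (nat_lit 255), (nat_lit 19), (nat_lit 524287), (nat_lit 1), (nat_lit 4),
    fun _ _ => rfl, fun _ => rfl, fun _ _ => rfl, by decide +kernel, e_2_all.1⟩

theorem bnd {K : Type*} [Group K] {g : ℕ → K} (hr : ∀ r ∈ rels, ev g r = 1) : Bound g (gensW 4) 87360 :=
  (e_2.bound (rels_sub hr (by decide +kernel))
    (e_1.bound (rels_sub hr (by decide +kernel))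
    (e_0.bound (rels_sub hr (by decide +kernel))
    (bound_nil _))))

theorem okC : (Bool.rec false (Nat.ble 87360 (chainProd N 65 C)) (chainOK N 65 C) : Bool) = true := by decide +kernel
theorem lab : LabOK 65 7 (repl 65 7) (full 64) := labOK_spec (by decide +kernel)
theorem c7 : cycOK N 65 7 (repl 65 7) (full 64) C y7 7 1 T7F T7K T7 = true := by decide +kernel
theorem c13 : cycOK N 65 7 (repl 65 7) (full 64) C y13 13 1 T13F T13K T13 = true := by decide +kernel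
theorem wo : ordWs N 65 7 (repl 65 7) (full 64) Wo [6, 15] = true := by decide +kernel
theorem o5 : ordW N 65 7 (repl 65 7) (full 64) y5 5 = true := by decide +kernel
theorem o7 : ordW N 65 7 (repl 65 7) (full 64) y7 7 = true := by decide +kernel
theorem o13 : ordW N 65 7 (repl 65 7) (full 64) y13 13 = true := by decide +kernel
theorem iM : pairsB 48 M 4 = true := by decide +kernel
theorem rM_0 : allFrom (relNo (bsame 48 M) rels) 0 11 = true := by decide +kernel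
theorem rM : ∀ j < 11, relNo (bsame 48 M) rels j = true := by
  have h : ∀ j < 0, relNo (bsame 48 M) rels j = true := by simp
  have h := forall_lt_add h (allFrom_iff.1 rM_0)
  exact h

theorem exact : Exact (pD N 65) N (pg N) C ⊤ :=
  exact_pg (k := 7) (by decide +kernel) rfl (by decide) (by decide) (bnd (ug_rels _)) (by decide +kernel) okC

theorem card : Nat.card (PG N) = 87360 := card_of_top (exact.card.trans (by decide +kernel))

instance fin : Finite (PG N) := Nat.finite_of_card_ne_zero (by rw [card]; decide)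

theorem pg_aff : ∃ ρ : PG N →* Matrix (Fin 48) (Fin 48) (ZMod 2),
    Pg (Aff (Lin ρ) (PG N)) [2, 3, 5, 7, 13] [6, 10, 15, 14] := by
  have hE := exact
  have h7 := fun l => ne_of_cyc hE lab (by decide) (m := 12480) (by decide) card (by decide) c7 (l := l)
  have h13 := fun l => ne_of_cyc hE lab (by decide) (m := 6720) (by decide) card (by decide) c13 (l := l)
  have hl := lb_ordWs hE lab wo
  obtain ⟨ρ, h⟩ := (presents_of_exact hE (bnd (ug_rels _)) card (by decide +kernel) (by decide +kernel)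
    (by decide +kernel)).exists_bm (pg_one rfl) iM (fun j hj => rM j (lt_of_lt_of_eq hj (by decide +kernel)))
  have a5 := ordW_spec hE.reps lab hE.faithful trivial o5
  have a7 := ordW_spec hE.reps lab hE.faithful trivial o7
  have a13 := ordW_spec hE.reps lab hE.faithful trivial o13
  obtain ⟨v5, b5⟩ := nm_ne_bm h (w := y5) (r := 5) (i := 0) (j := 0) (by decide) (by decide) (by decide +kernel)
  obtain ⟨v7, b7⟩ := nm_ne_bm h (w := y7) (r := 7) (i := 0) (j := 3) (by decide) (by decide) (by decide +kernel)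
  refine ⟨ρ, Pg.aff Nat.prime_two Lin.exp (N := [21, 35, 26, 39, 65, 91]) (K := [13])
    (primes_of_card card (by decide) (by decide +kernel)) ?_ ?_ ?_ (by decide)⟩ <;>
  simp only [List.forall_mem_cons, List.not_mem_nil, false_imp_iff, implies_true, and_true]
  · exact ⟨exists_of_right (hl _ (by decide)), ⟨_, orderOf_mkA Nat.prime_two a5 b5 (Lin.exp _)⟩,
      exists_of_right (hl _ (by decide)), ⟨_, orderOf_mkA Nat.prime_two a7 b7 (Lin.exp _)⟩⟩
  · exact ⟨h7 _ (by decide) (by decide), h7 _ (by decide) (by decide), h13 _ (by decide) (by decide),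
      h13 _ (by decide) (by decide), h13 _ (by decide) (by decide), h13 _ (by decide) (by decide)⟩
  · exact kills_sylow (m := 6720) (by decide) card (by decide) a13
      (kills_bm h (a13 ▸ pow_orderOf_eq_one _) (by decide +kernel)) Lin.exp (by decide)

end CF.Spec.Sz83
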