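import Cfsg.Agent.Spec.Deg
import Cfsg.Agent.Spec.Cen
import Cfsg.Agent.Spec.U33

set_option autoImplicit false
set_option maxRecDepth 1000000
set_option maxHeartbeats 0
set_option Elab.async false

namespace CF.Spec.U33D

open CF.Comp CF.Bt CF.Schur.Pc Cfsg

noncomputable def N_0 : Net := (Net.cons (nat_lit 1) (nat_lit 0x515011044000014001401104014000041000) (Net.cons (nat_lit 2) (nat_lit 0x1020310011122202133221320130100002200) (Net.cons (nat_lit 4) (nat_lit 0xc03040809050001040d0a020c0203040800) (Net.cons (nat_lit 8) (nat_lit 0xa100aa0081006d00300012000000800000) (Net.cons (nat_lit 16) (nat_lit 0x1000020000000d1400000402000000000) (Net.cons (nat_lit 32) (nat_lit 0x3c0665bf0000000000000000) (Net.cons (nat_lit 64) (nat_lit 451047) (Net.cons (nat_lit 128) (nat_lit 451047) (Net.cons (nat_lit 64) (nat_lit 0x3c0045380106e1e7) (Net.cons (nat_lit 32) (nat_lit 0x3c2665bf0000000042000000) (Net.cons (nat_lit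 16) (nat_lit 0x10000b4180000d1c50000d0320000bc7c) (Net.cons (nat_lit 8) (nat_lit 0xb900730091006f00600003001000b40034) (Net.cons (nat_lit 4) (nat_lit 0xc030c00090d00050c0f0e0e0c0603040800) (Net.cons (nat_lit 2) (nat_lit 0x1020310013122212133321320330100002100) (Net.cons (nat_lit 1) (nat_lit 0x515011044000014001401104014000451500) Net.nil)))))))))))))))
noncomputable def N_1 : Net := (Net.cons (nat_lit 1) (nat_lit 0x4000141105000155440004111504501040) (Net.cons (nat_lit 2) (nat_lit 0x1030202213330202032003333212000033120) (Net.cons (nat_lit 4) (nat_lit 0x40404030106000f0b06010a08010b000202) (Net.cons (nat_lit 8) (nat_lit 0xdd004f004100e8004b00e8000900900000) (Net.cons (nat_lit 16) (nat_lit 0x20000a290000038ea0000130000000000) (Net.cons (nat_lit 32) (nat_lit 0x97efee970000000000000000) (Net.cons (nat_lit 64) (nat_lit 392923) (Net.cons (nat_lit 128) (nat_lit 392923) (Net.cons (nat_lit 64) (nat_lit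 0x97eea4054805fedb) (Net.cons (nat_lit 32) (nat_lit 0x97effe370000000003000000) (Net.cons (nat_lit 16) (nat_lit 0x7000085f9000071fd0000902f00008416) (Net.cons (nat_lit 8) (nat_lit 0xa0035009000ed005600b900aa00200056) (Net.cons (nat_lit 4) (nat_lit 0x50f07090a00010d070e0509030b0a0b0e) (Net.cons (nat_lit 2) (nat_lit 0x120010130112210121200320102302132010) (Net.cons (nat_lit 1) (nat_lit 0x445414540455514550054441551045051140) Net.nil)))))))))))))))
noncomputable def N_2 : Net := (Net.cons (nat_lit 1) (nat_lit 0x45515454000154000514400150005001144) (Net.cons (nat_lit 2) (nat_lit 0x1012210220110231010231200221003301000) (Net.cons (nat_lit 4) (nat_lit 0xa0705010a0a02010a030004070001020200) (Net.cons (nat_lit 8) (nat_lit 0x5400f50080000600520010000200010000) (Net.cons (nat_lit 16) (nat_lit 0x2000006520000d0410000000000004000) (Net.cons (nat_lit 32) (nat_lit 0xf62127730000000000010000) (Net.cons (nat_lit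 64) (nat_lit 218995) (Net.cons (nat_lit 128) (nat_lit 218995) (Net.cons (nat_lit 64) (nat_lit 0xf621236100035773) (Net.cons (nat_lit 32) (nat_lit 0xf621a7730000000000014000) (Net.cons (nat_lit 16) (nat_lit 0x6000036d20000f2750000223600004734) (Net.cons (nat_lit 8) (nat_lit 0x5c005d00ce000600520010008a001f0066) (Net.cons (nat_lit 4) (nat_lit 0xa0705010a0a02010e0b00040f080100000a) (Net.cons (nat_lit 2) (nat_lit 0x1112331020310331030231201221023311100) (Net.cons (nat_lit 1) (nat_lit 0x45515454000154000514500150001405154) Net.nil)))))))))))))))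
noncomputable def N_3 : Net := (Net.cons (nat_lit 1) (nat_lit 0x505444015400155105014155000105054510) (Net.cons (nat_lit 2) (nat_lit 0x1110022020113111022010030120100100100) (Net.cons (nat_lit 4) (nat_lit 0xb000d080d07040c0704010000000e000500) (Net.cons (nat_lit 8) (nat_lit 0x420060008600370085002a001200010004) (Net.cons (nat_lit 16) (nat_lit 0x4000000510000f8220000040000000000) (Net.cons (nat_lit 32) (nat_lit 0xc16a7fde0000000000000000) (Net.cons (nat_lit 64) (nat_lit 449758) (Net.cons (nat_lit 128) (nat_lit 449758) (Net.cons (nat_lit 64) (nat_lit 0xc16a3f080406dcde) (Net.cons (nat_lit 32) (nat_lit 0xc16b7ffe000000001a000000) (Net.cons (nat_lit 16) (nat_lit 0x60000f00300009a6a000004980000e114) (Net.cons (nat_lit 8) (nat_lit 0x33003d00d6007f00d5006a003800010017) (Net.cons (nat_lit 4) (nat_lit 0xb000d080d07040e0d0e0b0006060e090405) (Net.cons (nat_lit 2) (nat_lit 0x1110022020113111132011030120102102120)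 (Net.cons (nat_lit 1) (nat_lit 0x505444015400155105014155000105154510) Net.nil)))))))))))))))
noncomputable def N : List Net := [N_0, N_1, N_2, N_3]
noncomputable def R_0 : List (List Nat) := [[(nat_lit 1), (nat_lit 1)],
  [(nat_lit 3), (nat_lit 3), (nat_lit 3), (nat_lit 3), (nat_lit 3), (nat_lit 3), (nat_lit 3), (nat_lit 3)],
  [(nat_lit 3), (nat_lit 3), (nat_lit 3), (nat_lit 3), (nat_lit 1)]]

noncomputable def R_1 : List (List Nat) := [[(nat_lit 1), (nat_lit 1)],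
  [(nat_lit 3), (nat_lit 3), (nat_lit 3), (nat_lit 3), (nat_lit 3), (nat_lit 3), (nat_lit 3), (nat_lit 3)],
  [(nat_lit 3), (nat_lit 3), (nat_lit 3), (nat_lit 3), (nat_lit 1)],
  [(nat_lit 5), (nat_lit 5)],
  [(nat_lit 5), (nat_lit 1), (nat_lit 5), (nat_lit 1), (nat_lit 5), (nat_lit 1)],
  [(nat_lit 5), (nat_lit 4), (nat_lit 1), (nat_lit 5), (nat_lit 4), (nat_lit 5), (nat_lit 3), (nat_lit 5), (nat_lit 3), (nat_lit 1)]]

noncomputable def rels : List (List Nat) := [[(nat_lit 1), (nat_lit 1)],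
  [(nat_lit 3), (nat_lit 3), (nat_lit 3), (nat_lit 3), (nat_lit 3), (nat_lit 3), (nat_lit 3), (nat_lit 3)],
  [(nat_lit 3), (nat_lit 3), (nat_lit 3), (nat_lit 3), (nat_lit 1)],
  [(nat_lit 5), (nat_lit 5)],
  [(nat_lit 5), (nat_lit 1), (nat_lit 5), (nat_lit 1), (nat_lit 5), (nat_lit 1)],
  [(nat_lit 5), (nat_lit 4), (nat_lit 1), (nat_lit 5), (nat_lit 4), (nat_lit 5), (nat_lit 3), (nat_lit 5), (nat_lit 3), (nat_lit 1)],
  [(nat_lit 7), (nat_lit 7)],
  [(nat_lit 7), (nat_lit 3), (nat_lit 7), (nat_lit 3), (nat_lit 7), (nat_lit 3)],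
  [(nat_lit 7), (nat_lit 3), (nat_lit 1), (nat_lit 7), (nat_lit 3), (nat_lit 1), (nat_lit 7), (nat_lit 3), (nat_lit 1)],
  [(nat_lit 7), (nat_lit 1), (nat_lit 7), (nat_lit 5), (nat_lit 1), (nat_lit 7), (nat_lit 1), (nat_lit 5), (nat_lit 1)]]

noncomputable def e_0_c0 : BT (Bx Nat) := (BT.leaf (Bx.mk (nat_lit 0x0)))
noncomputable def e_0_c1 : BT (Bx Nat) := (BT.leaf (Bx.mk (nat_lit 0x347930a512194672b50709000)))
noncomputable def e_0_c2 : BT (Bx Nat) := (BT.leaf (Bx.mk (nat_lit 0x5646cd58a3c561c2f85709800)))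
noncomputable def e_0_c3 : BT (Bx Nat) := (BT.leaf (Bx.mk (nat_lit 0x355aa721ea9618aa385b0a000)))
noncomputable def e_0_p : BT (Bx Nat) := (BT.leaf (Bx.mk (nat_lit 0x9038c2883882443442441000000)))
noncomputable def e_0_e : BT Nat := BT.leaf (nat_lit 0)
noncomputable def e_0_cols : List (BT (Bx Nat)) := [e_0_c0, e_0_c1, e_0_c2, e_0_c3]
noncomputable def e_0_ch (x j : Nat) : Bx Nat := chunkG e_0_cols (nat_lit 1) x j
noncomputable def e_0_L (x : Nat) : Bx (Nat → Nat) := lookG e_0_ch (nat_lit 8) (nat_lit 255) (nat_lit 11) (nat_lit 2047) x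
noncomputable def e_0_pc (_ j : Nat) : Bx Nat := e_0_p.get j
noncomputable def e_0_pb : Bx (Nat → Nat) := lookG e_0_pc (nat_lit 8) (nat_lit 255) (nat_lit 12) (nat_lit 4095) (nat_lit 0)
noncomputable def e_0_rots : BT CW := (BT.node (nat_lit 4) (BT.node (nat_lit 2) (BT.node (nat_lit 1) (BT.leaf ⟨[], (nat_lit 1000000), (nat_lit 0), (nat_lit 0), (nat_lit 0)⟩) (BT.leaf ⟨[], (nat_lit 1000000), (nat_lit 0), (nat_lit 0), (nat_lit 1)⟩)) (BT.node (nat_lit 3) (BT.leaf ⟨[], (nat_lit 1000000), (nat_lit 0), (nat_lit 0), (nat_lit 2)⟩) (BT.leaf ⟨[(nat_lit 1), (nat_lit 1)], (nat_lit 0), (nat_lit 0), (nat_lit 0), (nat_lit 3)⟩))) (BT.node (nat_lit 6) (BT.node (nat_lit 5) (BT.leaf ⟨[(nat_lit 3), (nat_lit 2)], (nat_lit 5), (nat_lit 1), (nat_lit 0), (nat_lit 3)⟩) (BT.leaf ⟨[(nat_lit 2), (nat_lit 3)], (nat_lit 5), (nat_lit 0), (nat_lit 0), (nat_lit 3)⟩)) (BT.node (nat_lit 7) (BT.leaf ⟨[(nat_lit 2), (nat_lit 2), (nat_lit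 2), (nat_lit 1), (nat_lit 2)], (nat_lit 2), (nat_lit 1), (nat_lit 0), (nat_lit 3)⟩) (BT.node (nat_lit 8) (BT.leaf ⟨[(nat_lit 3), (nat_lit 3), (nat_lit 3), (nat_lit 1), (nat_lit 3)], (nat_lit 9), (nat_lit 2), (nat_lit 0), (nat_lit 3)⟩) (BT.leaf ⟨[(nat_lit 1), (nat_lit 2), (nat_lit 2), (nat_lit 2), (nat_lit 2)], (nat_lit 2), (nat_lit 4), (nat_lit 0), (nat_lit 3)⟩)))))
noncomputable def e_0_hcs : List CW := []
noncomputable def e_0_H (x j : Nat) : Bx (Nat → Nat → Nat) := mkH e_0_L e_0_pb.1 e_0_e.get (lmap CW.w e_0_hcs) (nat_lit 8) (nat_lit 9) (nat_lit 4) (nat_lit 16) (nat_lit 256) (nat_lit 1023) x (e_0_rots.get j)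
noncomputable def e_0_F (x b : Nat) : Bool := blkOK e_0_H e_0_ch (nat_lit 9) (nat_lit 16) (nat_lit 16) (nat_lit 8) (nat_lit 255) (nat_lit 11) (nat_lit 2047) x b

theorem e_0_k0_0 : allFrom (e_0_F (nat_lit 0)) (nat_lit 0) (nat_lit 4) = true := by decide +kernel
theorem e_0_k1_0 : allFrom (e_0_F (nat_lit 1)) (nat_lit 0) (nat_lit 4) = true := by decide +kernel
theorem e_0_k2_0 : allFrom (e_0_F (nat_lit 2)) (nat_lit 0) (nat_lit 4) = true := by decide +kernel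
theorem e_0_k3_0 : allFrom (e_0_F (nat_lit 3)) (nat_lit 0) (nat_lit 4) = true := by decide +kernel

noncomputable def e_1_c0 : BT (Bx Nat) := (BT.leaf (Bx.mk (nat_lit 0x0)))
noncomputable def e_1_c1 : BT (Bx Nat) := (BT.leaf (Bx.mk (nat_lit 0x496ce5a52cd4b4d2b8cb1d2b595867e74ab455acacd2a7837e0d71d0e0caca8e0bf14aa5168a4929ed46d28b823e184000)))
noncomputable def e_1_c2 : BT (Bx Nat) := (BT.leaf (Bx.mk (nat_lit 0x13e8b3bd3c9d1789bd8f95b45e8ed3ad4f55bcf83893b1aa9e0db83473b74e5e0c2ce7d38f10ad38b828e09b824e184000)))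
noncomputable def e_1_c3 : BT (Bx Nat) := (BT.leaf (Bx.mk (nat_lit 0x136899b74db4d063634cd684b4cc434783943574c9735d8d486ae98fe0cecc6533b4c4c4a34c3e0ab4c2e09f825d304000)))
noncomputable def e_1_c4 : BT (Bx Nat) := (BT.leaf (Bx.mk (nat_lit 0xd267494e0ed3182258d77824b83a98ce575d22a96f9243488d21f486d217831d21382ee0b782ce0af829c58f481e088000)))
noncomputable def e_1_p : BT (Bx Nat) := (BT.leaf (Bx.mk (nat_lit 0xd913504b20ec02ae06b42ad06b028b0e2c18a122428906204871218465119436411902630d8c2420d08242048440000000)))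
noncomputable def e_1_e0 : BT Nat := (BT.node (nat_lit 66) (BT.leaf (nat_lit 262146)) (BT.leaf (nat_lit 2)))
noncomputable def e_1_e : BT Nat := e_1_e0
noncomputable def e_1_cols : List (BT (Bx Nat)) := [e_1_c0, e_1_c1, e_1_c2, e_1_c3, e_1_c4]
noncomputable def e_1_ch (x j : Nat) : Bx Nat := chunkG e_1_cols (nat_lit 1) x j
noncomputable def e_1_L (x : Nat) : Bx (Nat → Nat) := lookG e_1_ch (nat_lit 8) (nat_lit 255) (nat_lit 14) (nat_lit 16383) x
noncomputable def e_1_pc (_ j : Nat) : Bx Nat := e_1_p.get j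
noncomputable def e_1_pb : Bx (Nat → Nat) := lookG e_1_pc (nat_lit 8) (nat_lit 255) (nat_lit 14) (nat_lit 16383) (nat_lit 0)
noncomputable def e_1_rots : BT CW := (BT.node (nat_lit 12) (BT.node (nat_lit 6) (BT.node (nat_lit 3) (BT.node (nat_lit 1) (BT.leaf ⟨[], (nat_lit 1000000), (nat_lit 0), (nat_lit 0), (nat_lit 0)⟩) (BT.node (nat_lit 2) (BT.leaf ⟨[], (nat_lit 1000000), (nat_lit 0), (nat_lit 0), (nat_lit 1)⟩) (BT.leaf ⟨[], (nat_lit 1000000), (nat_lit 0), (nat_lit 0), (nat_lit 2)⟩))) (BT.node (nat_lit 4) (BT.leaf ⟨[(nat_lit 4), (nat_lit 4)], (nat_lit 3), (nat_lit 0), (nat_lit 0), (nat_lit 3)⟩) (BT.node (nat_lit 5) (BT.leaf ⟨[(nat_lit 1), (nat_lit 1)], (nat_lit 0), (nat_lit 0), (nat_lit 0), (nat_lit 3)⟩) (BT.leaf ⟨[(nat_lit 3), (nat_lit 2)], (nat_lit 8), (nat_lit 1), (nat_lit 0), (nat_lit 3)⟩)))) (BT.node (nat_lit 9) (BT.node (nat_lit 7) (BT.leaf ⟨[(nat_lit 2), (nat_lit 3)], (nat_lit 8), (nat_lit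 0), (nat_lit 0), (nat_lit 3)⟩) (BT.node (nat_lit 8) (BT.leaf ⟨[(nat_lit 2), (nat_lit 2), (nat_lit 2), (nat_lit 1), (nat_lit 2)], (nat_lit 2), (nat_lit 1), (nat_lit 0), (nat_lit 3)⟩) (BT.leaf ⟨[(nat_lit 3), (nat_lit 3), (nat_lit 3), (nat_lit 1), (nat_lit 3)], (nat_lit 12), (nat_lit 2), (nat_lit 0), (nat_lit 3)⟩))) (BT.node (nat_lit 10) (BT.leaf ⟨[(nat_lit 1), (nat_lit 2), (nat_lit 2), (nat_lit 2), (nat_lit 2)], (nat_lit 2), (nat_lit 4), (nat_lit 0), (nat_lit 3)⟩) (BT.node (nat_lit 11) (BT.leaf ⟨[(nat_lit 4), (nat_lit 1), (nat_lit 4), (nat_lit 1), (nat_lit 4), (nat_lit 1)], (nat_lit 4), (nat_lit 0), (nat_lit 0), (nat_lit 3)⟩) (BT.leaf ⟨[(nat_lit 3), (nat_lit 1), (nat_lit 4), (nat_lit 3), (nat_lit 4), (nat_lit 2), (nat_lit 4), (nat_lit 2), (nat_lit 1), (nat_lit 4)], (nat_lit 5), (nat_lit 1), (nat_lit 0), (nat_lit 3)⟩))))) (BT.node (nat_lit 18) (BT.node (nat_lit 15) (BT.node (nat_lit 13) (BT.leaf ⟨[(nat_lit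 3), (nat_lit 4), (nat_lit 2), (nat_lit 4), (nat_lit 2), (nat_lit 1), (nat_lit 4), (nat_lit 3), (nat_lit 1), (nat_lit 4)], (nat_lit 5), (nat_lit 4), (nat_lit 0), (nat_lit 3)⟩) (BT.node (nat_lit 14) (BT.leaf ⟨[(nat_lit 1), (nat_lit 3), (nat_lit 4), (nat_lit 3), (nat_lit 4), (nat_lit 2), (nat_lit 4), (nat_lit 1), (nat_lit 2), (nat_lit 4)], (nat_lit 15), (nat_lit 0), (nat_lit 0), (nat_lit 3)⟩) (BT.leaf ⟨[(nat_lit 1), (nat_lit 3), (nat_lit 3), (nat_lit 3), (nat_lit 3)], (nat_lit 12), (nat_lit 0), (nat_lit 0), (nat_lit 3)⟩))) (BT.node (nat_lit 16) (BT.leaf ⟨[(nat_lit 3), (nat_lit 3), (nat_lit 3), (nat_lit 3), (nat_lit 1)], (nat_lit 12), (nat_lit 1), (nat_lit 0), (nat_lit 3)⟩) (BT.node (nat_lit 17) (BT.leaf ⟨[(nat_lit 4), (nat_lit 2), (nat_lit 4), (nat_lit 2), (nat_lit 1), (nat_lit 4), (nat_lit 3), (nat_lit 1), (nat_lit 4), (nat_lit 3)], (nat_lit 5), (nat_lit 5), (nat_lit 0), (nat_lit 3)⟩) (BT.leaf ⟨[(nat_lit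 1), (nat_lit 4), (nat_lit 1), (nat_lit 4), (nat_lit 1), (nat_lit 4)], (nat_lit 4), (nat_lit 1), (nat_lit 0), (nat_lit 3)⟩)))) (BT.node (nat_lit 21) (BT.node (nat_lit 19) (BT.leaf ⟨[(nat_lit 2), (nat_lit 4), (nat_lit 1), (nat_lit 3), (nat_lit 4), (nat_lit 3), (nat_lit 4), (nat_lit 2), (nat_lit 4), (nat_lit 1)], (nat_lit 15), (nat_lit 8), (nat_lit 0), (nat_lit 3)⟩) (BT.node (nat_lit 20) (BT.leaf ⟨[(nat_lit 2), (nat_lit 1), (nat_lit 2), (nat_lit 2), (nat_lit 2)], (nat_lit 2), (nat_lit 3), (nat_lit 0), (nat_lit 3)⟩) (BT.leaf ⟨[(nat_lit 2), (nat_lit 2), (nat_lit 1), (nat_lit 2), (nat_lit 2)], (nat_lit 2), (nat_lit 2), (nat_lit 0), (nat_lit 3)⟩))) (BT.node (nat_lit 23) (BT.node (nat_lit 22) (BT.leaf ⟨[(nat_lit 2), (nat_lit 4), (nat_lit 2), (nat_lit 1), (nat_lit 4), (nat_lit 3), (nat_lit 1), (nat_lit 4), (nat_lit 3), (nat_lit 4)], (nat_lit 5), (nat_lit 6), (nat_lit 0), (nat_lit 3)⟩) (BT.leaf ⟨[(nat_lit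 2), (nat_lit 4), (nat_lit 1), (nat_lit 2), (nat_lit 4), (nat_lit 1), (nat_lit 3), (nat_lit 4), (nat_lit 3), (nat_lit 4)], (nat_lit 15), (nat_lit 5), (nat_lit 0), (nat_lit 3)⟩)) (BT.node (nat_lit 24) (BT.leaf ⟨[(nat_lit 4), (nat_lit 1), (nat_lit 3), (nat_lit 4), (nat_lit 3), (nat_lit 4), (nat_lit 2), (nat_lit 4), (nat_lit 1), (nat_lit 2)], (nat_lit 15), (nat_lit 9), (nat_lit 0), (nat_lit 3)⟩) (BT.leaf ⟨[(nat_lit 2), (nat_lit 1), (nat_lit 4), (nat_lit 3), (nat_lit 1), (nat_lit 4), (nat_lit 3), (nat_lit 4), (nat_lit 2), (nat_lit 4)], (nat_lit 5), (nat_lit 8), (nat_lit 0), (nat_lit 3)⟩))))))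
noncomputable def e_1_hcs : List CW := [⟨[(nat_lit 2)], (nat_lit 0), (nat_lit 0), (nat_lit 0), (nat_lit 0)⟩, ⟨[(nat_lit 1)], (nat_lit 1), (nat_lit 0), (nat_lit 0), (nat_lit 0)⟩, ⟨[(nat_lit 3)], (nat_lit 2), (nat_lit 0), (nat_lit 0), (nat_lit 0)⟩, ⟨[(nat_lit 1)], (nat_lit 3), (nat_lit 0), (nat_lit 0), (nat_lit 0)⟩]
noncomputable def e_1_H (x j : Nat) : Bx (Nat → Nat → Nat) := mkH e_1_L e_1_pb.1 e_1_e.get (lmap CW.w e_1_hcs) (nat_lit 27) (nat_lit 28) (nat_lit 5) (nat_lit 32) (nat_lit 1024) (nat_lit 2047) x (e_1_rots.get j)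
noncomputable def e_1_F (x b : Nat) : Bool := blkOK e_1_H e_1_ch (nat_lit 28) (nat_lit 32) (nat_lit 32) (nat_lit 8) (nat_lit 255) (nat_lit 14) (nat_lit 16383) x b

theorem e_1_k0_0 : allFrom (e_1_F (nat_lit 0)) (nat_lit 0) (nat_lit 4) = true := by decide +kernel
theorem e_1_k1_0 : allFrom (e_1_F (nat_lit 1)) (nat_lit 0) (nat_lit 4) = true := by decide +kernel
theorem e_1_k2_0 : allFrom (e_1_F (nat_lit 2)) (nat_lit 0) (nat_lit 4) = true := by decide +kernel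
theorem e_1_k3_0 : allFrom (e_1_F (nat_lit 3)) (nat_lit 0) (nat_lit 4) = true := by decide +kernel
theorem e_1_k4_0 : allFrom (e_1_F (nat_lit 4)) (nat_lit 0) (nat_lit 4) = true := by decide +kernel

noncomputable def e_2_c0 : BT (Bx Nat) := (BT.leaf (Bx.mk (nat_lit 0x0)))
noncomputable def e_2_c1 : BT (Bx Nat) := (BT.leaf (Bx.mk (nat_lit 0x341488b23a7930baa0ae30afa0ac7a7528bc7b2d917ba0aa7a703a77a83870b3a83690a9a831996b9208896588a480a79166a0a2a823a8610000)))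
noncomputable def e_2_c2 : BT (Bx Nat) := (BT.leaf (Bx.mk (nat_lit 0xa0f3993c38f8a0ee50f630fa40ef78f02c4da0ea20f4a83b88f538f972cc70f1a837a0e5a83290e78248a0e3992ba0e2a829a826a824a8610000)))
noncomputable def e_2_c3 : BT (Bx Nat) := (BT.leaf (Bx.mk (nat_lit 0x90dba0d13957414f41daa0cc5bb891d02c72a83ca0ca7b4d81d54bd6a83920d468ce90c6a833a0c478c89949a0c3a82ba0c2a827a825a0c10000)))
noncomputable def e_2_c4 : BT (Bx Nat) := (BT.leaf (Bx.mk (nat_lit 0x2bf7831b21107af97916211c81980912a10b691113f571932c3aa109a107a106a105a834a104a82fa103a82ea82da82ca82aa8288982a8610000)))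
noncomputable def e_2_c5 : BT (Bx Nat) := (BT.leaf (Bx.mk (nat_lit 0x50975899a08f637b7ab859bc7a96a08b1b92639310947ab1a089a83a71ed688e71eaa835688ca830908380868a27908499a599e8a081a8220000)))
noncomputable def e_2_p : BT (Bx Nat) := (BT.leaf (Bx.mk (nat_lit 0x2cc3b10abc5ae0eb818c0a3018b162c48a0e2828a0624589121c48611944650d90464098c4630d8c2420d08242048450000000)))
noncomputable def e_2_e0 : BT Nat := (BT.node (nat_lit 66) (BT.leaf (nat_lit 524290)) (BT.node (nat_lit 68) (BT.leaf (nat_lit 262146)) (BT.leaf (nat_lit 2))))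
noncomputable def e_2_e : BT Nat := e_2_e0
noncomputable def e_2_cols : List (BT (Bx Nat)) := [e_2_c0, e_2_c1, e_2_c2, e_2_c3, e_2_c4, e_2_c5]
noncomputable def e_2_ch (x j : Nat) : Bx Nat := chunkG e_2_cols (nat_lit 1) x j
noncomputable def e_2_L (x : Nat) : Bx (Nat → Nat) := lookG e_2_ch (nat_lit 8) (nat_lit 255) (nat_lit 16) (nat_lit 65535) x
noncomputable def e_2_pc (_ j : Nat) : Bx Nat := e_2_p.get j
noncomputable def e_2_pb : Bx (Nat → Nat) := lookG e_2_pc (nat_lit 8) (nat_lit 255) (nat_lit 14) (nat_lit 16383) (nat_lit 0)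
noncomputable def e_2_rots : BT CW := (BT.node (nat_lit 17) (BT.node (nat_lit 8) (BT.node (nat_lit 4) (BT.node (nat_lit 2) (BT.node (nat_lit 1) (BT.leaf ⟨[], (nat_lit 1000000), (nat_lit 0), (nat_lit 0), (nat_lit 0)⟩) (BT.leaf ⟨[], (nat_lit 1000000), (nat_lit 0), (nat_lit 0), (nat_lit 1)⟩)) (BT.node (nat_lit 3) (BT.leaf ⟨[], (nat_lit 1000000), (nat_lit 0), (nat_lit 0), (nat_lit 2)⟩) (BT.leaf ⟨[(nat_lit 5), (nat_lit 5)], (nat_lit 6), (nat_lit 0), (nat_lit 0), (nat_lit 3)⟩))) (BT.node (nat_lit 6) (BT.node (nat_lit 5) (BT.leaf ⟨[(nat_lit 1), (nat_lit 1)], (nat_lit 0), (nat_lit 0), (nat_lit 0), (nat_lit 3)⟩) (BT.leaf ⟨[(nat_lit 3), (nat_lit 2)], (nat_lit 12), (nat_lit 1), (nat_lit 0), (nat_lit 3)⟩)) (BT.node (nat_lit 7) (BT.leaf ⟨[(nat_lit 2), (nat_lit 3)], (nat_lit 12), (nat_lit 0), (nat_lit 0), (nat_lit 3)⟩) (BT.leaf ⟨[(nat_lit 4), (nat_lit 4)], (nat_lit 3), (nat_lit 0), (nat_lit 0), (nat_lit 3)⟩))))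 (BT.node (nat_lit 12) (BT.node (nat_lit 10) (BT.node (nat_lit 9) (BT.leaf ⟨[(nat_lit 2), (nat_lit 2), (nat_lit 2), (nat_lit 1), (nat_lit 2)], (nat_lit 2), (nat_lit 1), (nat_lit 0), (nat_lit 3)⟩) (BT.leaf ⟨[(nat_lit 3), (nat_lit 3), (nat_lit 3), (nat_lit 1), (nat_lit 3)], (nat_lit 16), (nat_lit 2), (nat_lit 0), (nat_lit 3)⟩)) (BT.node (nat_lit 11) (BT.leaf ⟨[(nat_lit 1), (nat_lit 2), (nat_lit 2), (nat_lit 2), (nat_lit 2)], (nat_lit 2), (nat_lit 4), (nat_lit 0), (nat_lit 3)⟩) (BT.leaf ⟨[(nat_lit 4), (nat_lit 1), (nat_lit 4), (nat_lit 1), (nat_lit 4), (nat_lit 1)], (nat_lit 4), (nat_lit 0), (nat_lit 0), (nat_lit 3)⟩))) (BT.node (nat_lit 14) (BT.node (nat_lit 13) (BT.leaf ⟨[(nat_lit 5), (nat_lit 2), (nat_lit 5), (nat_lit 2), (nat_lit 5), (nat_lit 2)], (nat_lit 7), (nat_lit 0), (nat_lit 0), (nat_lit 3)⟩) (BT.leaf ⟨[(nat_lit 3), (nat_lit 5), (nat_lit 3), (nat_lit 5), (nat_lit 3), (nat_lit 5)], (nat_lit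 21), (nat_lit 0), (nat_lit 0), (nat_lit 3)⟩)) (BT.node (nat_lit 15) (BT.leaf ⟨[(nat_lit 5), (nat_lit 4), (nat_lit 1), (nat_lit 5), (nat_lit 1), (nat_lit 4), (nat_lit 1), (nat_lit 5), (nat_lit 1)], (nat_lit 9), (nat_lit 2), (nat_lit 0), (nat_lit 3)⟩) (BT.node (nat_lit 16) (BT.leaf ⟨[(nat_lit 1), (nat_lit 4), (nat_lit 1), (nat_lit 5), (nat_lit 1), (nat_lit 4), (nat_lit 5), (nat_lit 1), (nat_lit 5)], (nat_lit 23), (nat_lit 0), (nat_lit 0), (nat_lit 3)⟩) (BT.leaf ⟨[(nat_lit 5), (nat_lit 2), (nat_lit 1), (nat_lit 5), (nat_lit 2), (nat_lit 1), (nat_lit 5), (nat_lit 2), (nat_lit 1)], (nat_lit 8), (nat_lit 0), (nat_lit 0), (nat_lit 3)⟩)))))) (BT.node (nat_lit 26) (BT.node (nat_lit 21) (BT.node (nat_lit 19) (BT.node (nat_lit 18) (BT.leaf ⟨[(nat_lit 2), (nat_lit 5), (nat_lit 2), (nat_lit 5), (nat_lit 2), (nat_lit 5)], (nat_lit 7), (nat_lit 1), (nat_lit 0), (nat_lit 3)⟩) (BT.leaf ⟨[(nat_lit 1), (nat_lit 3),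 (nat_lit 3), (nat_lit 3), (nat_lit 3)], (nat_lit 16), (nat_lit 0), (nat_lit 0), (nat_lit 3)⟩)) (BT.node (nat_lit 20) (BT.leaf ⟨[(nat_lit 5), (nat_lit 1), (nat_lit 4), (nat_lit 1), (nat_lit 5), (nat_lit 1), (nat_lit 5), (nat_lit 4), (nat_lit 1)], (nat_lit 9), (nat_lit 5), (nat_lit 0), (nat_lit 3)⟩) (BT.leaf ⟨[(nat_lit 5), (nat_lit 1), (nat_lit 4), (nat_lit 5), (nat_lit 1), (nat_lit 5), (nat_lit 1), (nat_lit 4), (nat_lit 1)], (nat_lit 23), (nat_lit 3), (nat_lit 0), (nat_lit 3)⟩))) (BT.node (nat_lit 23) (BT.node (nat_lit 22) (BT.leaf ⟨[(nat_lit 2), (nat_lit 4), (nat_lit 2), (nat_lit 1), (nat_lit 4), (nat_lit 3), (nat_lit 1), (nat_lit 4), (nat_lit 3), (nat_lit 4)], (nat_lit 5), (nat_lit 6), (nat_lit 0), (nat_lit 3)⟩) (BT.leaf ⟨[(nat_lit 4), (nat_lit 2), (nat_lit 4), (nat_lit 2), (nat_lit 1), (nat_lit 4), (nat_lit 3), (nat_lit 1), (nat_lit 4), (nat_lit 3)], (nat_lit 5), (nat_lit 5), (nat_lit 0), (nat_lit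 3)⟩)) (BT.node (nat_lit 24) (BT.leaf ⟨[(nat_lit 4), (nat_lit 3), (nat_lit 1), (nat_lit 4), (nat_lit 3), (nat_lit 4), (nat_lit 2), (nat_lit 4), (nat_lit 2), (nat_lit 1)], (nat_lit 5), (nat_lit 0), (nat_lit 0), (nat_lit 3)⟩) (BT.node (nat_lit 25) (BT.leaf ⟨[(nat_lit 1), (nat_lit 4), (nat_lit 3), (nat_lit 4), (nat_lit 2), (nat_lit 4), (nat_lit 2), (nat_lit 1), (nat_lit 4), (nat_lit 3)], (nat_lit 5), (nat_lit 2), (nat_lit 0), (nat_lit 3)⟩) (BT.leaf ⟨[(nat_lit 3), (nat_lit 4), (nat_lit 3), (nat_lit 4), (nat_lit 2), (nat_lit 4), (nat_lit 1), (nat_lit 2), (nat_lit 4), (nat_lit 1)], (nat_lit 19), (nat_lit 1), (nat_lit 0), (nat_lit 3)⟩))))) (BT.node (nat_lit 30) (BT.node (nat_lit 28) (BT.node (nat_lit 27) (BT.leaf ⟨[(nat_lit 5), (nat_lit 3), (nat_lit 5), (nat_lit 3), (nat_lit 5), (nat_lit 3)], (nat_lit 21), (nat_lit 1), (nat_lit 0), (nat_lit 3)⟩) (BT.leaf ⟨[(nat_lit 5), (nat_lit 1), (nat_lit 5), (nat_lit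 4), (nat_lit 1), (nat_lit 5), (nat_lit 1), (nat_lit 4), (nat_lit 1)], (nat_lit 9), (nat_lit 0), (nat_lit 0), (nat_lit 3)⟩)) (BT.node (nat_lit 29) (BT.leaf ⟨[(nat_lit 3), (nat_lit 5), (nat_lit 1), (nat_lit 3), (nat_lit 5), (nat_lit 1), (nat_lit 3), (nat_lit 5), (nat_lit 1)], (nat_lit 22), (nat_lit 1), (nat_lit 0), (nat_lit 3)⟩) (BT.leaf ⟨[(nat_lit 3), (nat_lit 4), (nat_lit 2), (nat_lit 4), (nat_lit 1), (nat_lit 2), (nat_lit 4), (nat_lit 1), (nat_lit 3), (nat_lit 4)], (nat_lit 19), (nat_lit 3), (nat_lit 0), (nat_lit 3)⟩))) (BT.node (nat_lit 32) (BT.node (nat_lit 31) (BT.leaf ⟨[(nat_lit 4), (nat_lit 1), (nat_lit 5), (nat_lit 1), (nat_lit 4), (nat_lit 1), (nat_lit 5), (nat_lit 1), (nat_lit 5)], (nat_lit 9), (nat_lit 3), (nat_lit 0), (nat_lit 3)⟩) (BT.leaf ⟨[(nat_lit 1), (nat_lit 4), (nat_lit 1), (nat_lit 5), (nat_lit 1), (nat_lit 5), (nat_lit 4), (nat_lit 1), (nat_lit 5)], (nat_lit 9), (nat_lit 6),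 (nat_lit 0), (nat_lit 3)⟩)) (BT.node (nat_lit 33) (BT.leaf ⟨[(nat_lit 4), (nat_lit 5), (nat_lit 1), (nat_lit 5), (nat_lit 1), (nat_lit 4), (nat_lit 1), (nat_lit 5), (nat_lit 1)], (nat_lit 23), (nat_lit 5), (nat_lit 0), (nat_lit 3)⟩) (BT.node (nat_lit 34) (BT.leaf ⟨[(nat_lit 2), (nat_lit 2), (nat_lit 2), (nat_lit 2), (nat_lit 1)], (nat_lit 2), (nat_lit 0), (nat_lit 0), (nat_lit 3)⟩) (BT.leaf ⟨[(nat_lit 3), (nat_lit 3), (nat_lit 3), (nat_lit 3), (nat_lit 1)], (nat_lit 16), (nat_lit 1), (nat_lit 0), (nat_lit 3)⟩)))))))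
noncomputable def e_2_hcs : List CW := [⟨[(nat_lit 4)], (nat_lit 0), (nat_lit 0), (nat_lit 0), (nat_lit 0)⟩, ⟨[(nat_lit 2)], (nat_lit 1), (nat_lit 0), (nat_lit 0), (nat_lit 0)⟩, ⟨[(nat_lit 1)], (nat_lit 2), (nat_lit 0), (nat_lit 0), (nat_lit 0)⟩, ⟨[(nat_lit 4)], (nat_lit 3), (nat_lit 0), (nat_lit 0), (nat_lit 0)⟩, ⟨[(nat_lit 3)], (nat_lit 4), (nat_lit 0), (nat_lit 0), (nat_lit 0)⟩, ⟨[(nat_lit 1)], (nat_lit 5), (nat_lit 0), (nat_lit 0), (nat_lit 0)⟩]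
noncomputable def e_2_H (x j : Nat) : Bx (Nat → Nat → Nat) := mkH e_2_L e_2_pb.1 e_2_e.get (lmap CW.w e_2_hcs) (nat_lit 28) (nat_lit 29) (nat_lit 6) (nat_lit 32) (nat_lit 2048) (nat_lit 2047) x (e_2_rots.get j)
noncomputable def e_2_F (x b : Nat) : Bool := blkOK e_2_H e_2_ch (nat_lit 29) (nat_lit 32) (nat_lit 64) (nat_lit 8) (nat_lit 255) (nat_lit 16) (nat_lit 65535) x b

theorem e_2_k0_0 : allFrom (e_2_F (nat_lit 0)) (nat_lit 0) (nat_lit 4) = true := by decide +kernel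
theorem e_2_k1_0 : allFrom (e_2_F (nat_lit 1)) (nat_lit 0) (nat_lit 4) = true := by decide +kernel
theorem e_2_k2_0 : allFrom (e_2_F (nat_lit 2)) (nat_lit 0) (nat_lit 4) = true := by decide +kernel
theorem e_2_k3_0 : allFrom (e_2_F (nat_lit 3)) (nat_lit 0) (nat_lit 4) = true := by decide +kernel
theorem e_2_k4_0 : allFrom (e_2_F (nat_lit 4)) (nat_lit 0) (nat_lit 4) = true := by decide +kernel
theorem e_2_k5_0 : allFrom (e_2_F (nat_lit 5)) (nat_lit 0) (nat_lit 4) = true := by decide +kernel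

noncomputable def C : List Lvl := [⟨(nat_lit 0), [[(nat_lit 7)],
  [(nat_lit 5)],
  [(nat_lit 3)],
  [(nat_lit 1)]], (nat_lit 3)⟩,
  ⟨(nat_lit 1), [[(nat_lit 5)],
  [(nat_lit 3)],
  [(nat_lit 1)]], (nat_lit 5)⟩,
  ⟨(nat_lit 2), [[(nat_lit 3)],
  [(nat_lit 1)]], (nat_lit 3)⟩]

noncomputable def N2_0 : Net := (Net.cons (nat_lit 1) (nat_lit 0x1551400451441051110045054000005051140) (Net.cons (nat_lit 2) (nat_lit 0x103011030200032332310200122003212010) (Net.cons (nat_lit 4) (nat_lit 0x60f050408000e0e04000c010207020a0900) (Net.cons (nat_lit 8) (nat_lit 0x21006e001800b700410091000000200000) (Net.cons (nat_lit 16) (nat_lit 0x60000e388000011390000101000000000) (Net.cons (nat_lit 32) (nat_lit 0xf1ffee0000000000000000) (Net.cons (nat_lit 64) (nat_lit 196607) (Net.cons (nat_lit 128) (nat_lit 196607) (Net.cons (nat_lit 64) (nat_lit 0xf13d0cd202ffff) (Net.cons (nat_lit 32) (nat_lit 0x8f5ffee0000000042000000)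 (Net.cons (nat_lit 16) (nat_lit 0x60000fa510000c5990000fd5a000008b6) (Net.cons (nat_lit 8) (nat_lit 0x45000d00e400570088009900a60021007e) (Net.cons (nat_lit 4) (nat_lit 0xa0e050a040e0e0d0706090a020f02020900) (Net.cons (nat_lit 2) (nat_lit 0x1102222301122233200111212200221301320) (Net.cons (nat_lit 1) (nat_lit 0x111555010454050454051111410015501010) Net.nil)))))))))))))))
noncomputable def N2_1 : Net := (Net.cons (nat_lit 1) (nat_lit 0x1544514010044004440551514045105050514) (Net.cons (nat_lit 2) (nat_lit 0x310121312133022130212001001202323020) (Net.cons (nat_lit 4) (nat_lit 0x106060608050500090b07060d0309070000) (Net.cons (nat_lit 8) (nat_lit 0x1400c00000007900910051006900080000) (Net.cons (nat_lit 16) (nat_lit 0x200004880000083620000202800000000) (Net.cons (nat_lit 32) (nat_lit 0xd2e65dfb0000000000000000) (Net.cons (nat_lit 64) (nat_lit 515577) (Net.cons (nat_lit 128) (nat_lit 515577) (Net.cons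 (nat_lit 64) (nat_lit 0xd2e00c9b2107ddf9) (Net.cons (nat_lit 32) (nat_lit 0xd6e6dddb0000000060080000) (Net.cons (nat_lit 16) (nat_lit 0x30000ce520000b2fa0000403700009870) (Net.cons (nat_lit 8) (nat_lit 0x800046009b0079009700a300dc001a00fe) (Net.cons (nat_lit 4) (nat_lit 0x40b07020705050f03050608050109040c0c) (Net.cons (nat_lit 2) (nat_lit 0x1100303231130021032001010010121002302) (Net.cons (nat_lit 1) (nat_lit 0x144054015405055454005555411505104) Net.nil)))))))))))))))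
noncomputable def N2_2 : Net := (Net.cons (nat_lit 1) (nat_lit 0x1104454545110015004045010104505151440) (Net.cons (nat_lit 2) (nat_lit 0x222132103212200232233211132302032100) (Net.cons (nat_lit 4) (nat_lit 0x40f0b0a0e09000b0d010505040c070d0100) (Net.cons (nat_lit 8) (nat_lit 0x28008a0048008c00d20011000000f40000) (Net.cons (nat_lit 16) (nat_lit 0x20000584000000fca0000028000000000) (Net.cons (nat_lit 32) (nat_lit 0x3f36f730000000000000000) (Net.cons (nat_lit 64) (nat_lit 224217) (Net.cons (nat_lit 128) (nat_lit 224217) (Net.cons (nat_lit 64) (nat_lit 0x3f10d3300076bd9) (Net.cons (nat_lit 32) (nat_lit 0x73f36f730000000003840000) (Net.cons (nat_lit 16) (nat_lit 0x50000a667000081aa0000d4a50000946a) (Net.cons (nat_lit 8) (nat_lit 0x7900910095008d0009000700e900ac0098) (Net.cons (nat_lit 4) (nat_lit 0x709030e0b08000b03000709070607020600) (Net.cons (nat_lit 2) (nat_lit 0x120103103330312313033022030122122232)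 (Net.cons (nat_lit 1) (nat_lit 0x1444500401144014101004555551000444550) Net.nil)))))))))))))))
noncomputable def N2_3 : Net := (Net.cons (nat_lit 1) (nat_lit 0x1054545144111500011550505155114541404) (Net.cons (nat_lit 2) (nat_lit 0x1213310013221021212012100012222220120) (Net.cons (nat_lit 4) (nat_lit 0x10b02080d02060b0a03040106060c000100) (Net.cons (nat_lit 8) (nat_lit 0x6d00030004000e00bc0037003000680000) (Net.cons (nat_lit 16) (nat_lit 0x40000ee52000018310000802000000000) (Net.cons (nat_lit 32) (nat_lit 0xb98ff570000000000000000) (Net.cons (nat_lit 64) (nat_lit 196183) (Net.cons (nat_lit 128) (nat_lit 196183) (Net.cons (nat_lit 64) (nat_lit 0xb9885430022fe57) (Net.cons (nat_lit 32) (nat_lit 0xab98ef570000000014200000) (Net.cons (nat_lit 16) (nat_lit 0x70000a04100001f18000051ca0000ea02) (Net.cons (nat_lit 8) (nat_lit 0x6a00a200b5004600490096001b002b00c9) (Net.cons (nat_lit 4) (nat_lit 0x20e0f060a04040c040f010b0a0c040007)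 (Net.cons (nat_lit 2) (nat_lit 0x1012303112003133100023302310122010023) (Net.cons (nat_lit 1) (nat_lit 0x1555440114450104455440011441451114400) Net.nil)))))))))))))))
noncomputable def N2_4 : Net := (Net.cons (nat_lit 1) (nat_lit 0x150541140451455445554101450410051100) (Net.cons (nat_lit 2) (nat_lit 0x1022001200230123222223320300102000000) (Net.cons (nat_lit 4) (nat_lit 0xa0606060d000a030e02000f090000060900) (Net.cons (nat_lit 8) (nat_lit 0x2a0029004100eb007f0034009000840000) (Net.cons (nat_lit 16) (nat_lit 0x7000000380000c44a0000400000000000) (Net.cons (nat_lit 32) (nat_lit 0xac437fbf0000000000000000) (Net.cons (nat_lit 64) (nat_lit 30719) (Net.cons (nat_lit 128) (nat_lit 30719) (Net.cons (nat_lit 64) (nat_lit 0xac436a91408077ff) (Net.cons (nat_lit 32) (nat_lit 0xac437bb50000000010800000) (Net.cons (nat_lit 16) (nat_lit 0x70000e0d900004fce0000a19500008d28) (Net.cons (nat_lit 8) (nat_lit 0x4200a000a800cb00660095005700800009)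 (Net.cons (nat_lit 4) (nat_lit 0x6050e00080e0c0007070b0e0400010f0d) (Net.cons (nat_lit 2) (nat_lit 0x202312213302223120331312110103202301) (Net.cons (nat_lit 1) (nat_lit 0x1515504404014140044540551445011105540) Net.nil)))))))))))))))
noncomputable def N2_5 : Net := (Net.cons (nat_lit 1) (nat_lit 0x450114514400115541050054140141040404) (Net.cons (nat_lit 2) (nat_lit 0x3133321030002003000320000302321100) (Net.cons (nat_lit 4) (nat_lit 0x30c0805040c0001080b0b080a0000080502) (Net.cons (nat_lit 8) (nat_lit 0x8100240024008b008300a9008000c30000) (Net.cons (nat_lit 16) (nat_lit 0x4000060880000fb880000204000000000) (Net.cons (nat_lit 32) (nat_lit 0x767b89ad0000000000000000) (Net.cons (nat_lit 64) (nat_lit 254381) (Net.cons (nat_lit 128) (nat_lit 254381) (Net.cons (nat_lit 64) (nat_lit 0x767989040083e1ad) (Net.cons (nat_lit 32) (nat_lit 0x767be92d0000000020c00000) (Net.cons (nat_lit 16) (nat_lit 0x50000670a0000f6be000046860000cb20)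 (Net.cons (nat_lit 8) (nat_lit 0x500e000ab008a008000a400c300c900f0) (Net.cons (nat_lit 4) (nat_lit 0x70e0e080f010005070901060a0400010e0c) (Net.cons (nat_lit 2) (nat_lit 0x1021112211222110033231020000220011022) (Net.cons (nat_lit 1) (nat_lit 0x50500451400511555101054514541040050) Net.nil)))))))))))))))
noncomputable def N2_6 : Net := (Net.cons (nat_lit 1) (nat_lit 0x1051410450405454454055051515005410010) (Net.cons (nat_lit 2) (nat_lit 0x1103133310200021213002322220201200030) (Net.cons (nat_lit 4) (nat_lit 0x70e050308000b04000e0604000002010000) (Net.cons (nat_lit 8) (nat_lit 0x7600b000400025004f0030000200900000) (Net.cons (nat_lit 16) (nat_lit 0x2b0800004e260000080000000000) (Net.cons (nat_lit 32) (nat_lit 0x2a9f3ded0000000000000000) (Net.cons (nat_lit 64) (nat_lit 96685) (Net.cons (nat_lit 128) (nat_lit 96685) (Net.cons (nat_lit 64) (nat_lit 0x2a9e3560000179ad) (Net.cons (nat_lit 32) (nat_lit 0x2a9f77ed0000000042100000)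 (Net.cons (nat_lit 16) (nat_lit 0x6000055aa0000ef06000006510000b540) (Net.cons (nat_lit 8) (nat_lit 0x510009006200b500430082001200b8008c) (Net.cons (nat_lit 4) (nat_lit 0x504010a0d060b0900050c0e0101020e0a0c) (Net.cons (nat_lit 2) (nat_lit 0x1123313032310021201102120321212100220) (Net.cons (nat_lit 1) (nat_lit 0x1054445011444454445504515005000151110) Net.nil)))))))))))))))
noncomputable def N2_7 : Net := (Net.cons (nat_lit 1) (nat_lit 0x45515454000154000514400150005001144) (Net.cons (nat_lit 2) (nat_lit 0x1012210220110231010231200221003301000) (Net.cons (nat_lit 4) (nat_lit 0xa0705010a0a02010a030004070001020200) (Net.cons (nat_lit 8) (nat_lit 0x5400f50080000600520010000200010000) (Net.cons (nat_lit 16) (nat_lit 0x2000006520000d0410000000000004000) (Net.cons (nat_lit 32) (nat_lit 0xf62127730000000000010000) (Net.cons (nat_lit 64) (nat_lit 218995) (Net.cons (nat_lit 128) (nat_lit 218995) (Net.cons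 (nat_lit 64) (nat_lit 0xf621236100035773) (Net.cons (nat_lit 32) (nat_lit 0xf621a7730000000000014000) (Net.cons (nat_lit 16) (nat_lit 0x6000036d20000f2750000223600004734) (Net.cons (nat_lit 8) (nat_lit 0x5c005d00ce000600520010008a001f0066) (Net.cons (nat_lit 4) (nat_lit 0xa0705010a0a02010e0b00040f080100000a) (Net.cons (nat_lit 2) (nat_lit 0x1112331020310331030231201221023311100) (Net.cons (nat_lit 1) (nat_lit 0x45515454000154000514500150001405154) Net.nil)))))))))))))))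
noncomputable def N2_8 : Net := (Net.cons (nat_lit 1) (nat_lit 0x445050515014500155414141050500550500) (Net.cons (nat_lit 2) (nat_lit 0x131010002003222232211020230200120200) (Net.cons (nat_lit 4) (nat_lit 0x40406020c06040801000e050602030600) (Net.cons (nat_lit 8) (nat_lit 0x960014008000ab0025000b000200400000) (Net.cons (nat_lit 16) (nat_lit 0x20000a438000004f40000804000000000) (Net.cons (nat_lit 32) (nat_lit 0xcb5f2790000000000000000) (Net.cons (nat_lit 64) (nat_lit 501305) (Net.cons (nat_lit 128) (nat_lit 501305) (Net.cons (nat_lit 64) (nat_lit 0xcb4d0410007a639) (Net.cons (nat_lit 32) (nat_lit 0xcb7f6f90000000082400000) (Net.cons (nat_lit 16) (nat_lit 0x40a00000a5e0000016590000649a) (Net.cons (nat_lit 8) (nat_lit 0xb7008e001600e2000400100014006000c8) (Net.cons (nat_lit 4) (nat_lit 0x20d08080e0c060f0c0408080806020c0e08) (Net.cons (nat_lit 2) (nat_lit 0x133200312233230003201213321231113112) (Net.cons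 (nat_lit 1) (nat_lit 0x1445115411550505414414040111000055500) Net.nil)))))))))))))))
noncomputable def N2 : List Net := [N2_0, N2_1, N2_2, N2_3, N2_4, N2_5, N2_6, N2_7, N2_8]
noncomputable def W2 : List (List Nat) := [[(nat_lit 8), (nat_lit 4), (nat_lit 4), (nat_lit 4), (nat_lit 7), (nat_lit 7), (nat_lit 7), (nat_lit 1), (nat_lit 3), (nat_lit 5), (nat_lit 7)],
  [(nat_lit 1), (nat_lit 5), (nat_lit 3), (nat_lit 3)],
  [(nat_lit 9), (nat_lit 11), (nat_lit 10), (nat_lit 12), (nat_lit 9), (nat_lit 11)],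
  [(nat_lit 2), (nat_lit 8), (nat_lit 4), (nat_lit 5), (nat_lit 5), (nat_lit 4), (nat_lit 1), (nat_lit 3), (nat_lit 5), (nat_lit 1), (nat_lit 1)],
  [(nat_lit 2), (nat_lit 3), (nat_lit 6), (nat_lit 8), (nat_lit 4), (nat_lit 1), (nat_lit 5), (nat_lit 1), (nat_lit 1), (nat_lit 7), (nat_lit 1), (nat_lit 4)],
  [(nat_lit 17), (nat_lit 15), (nat_lit 17), (nat_lit 17), (nat_lit 17), (nat_lit 15), (nat_lit 17)],
  [(nat_lit 1), (nat_lit 4), (nat_lit 4), (nat_lit 1), (nat_lit 1), (nat_lit 7), (nat_lit 7), (nat_lit 1)],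
  [(nat_lit 8), (nat_lit 5), (nat_lit 7)],
  [(nat_lit 24), (nat_lit 22), (nat_lit 24), (nat_lit 22), (nat_lit 23), (nat_lit 23), (nat_lit 23), (nat_lit 22)]]
noncomputable def KA : List Lvl := [⟨(nat_lit 0), [[(nat_lit 1)],
  [(nat_lit 3)],
  [(nat_lit 5)],
  [(nat_lit 7)]], (nat_lit 3)⟩,
  ⟨(nat_lit 2), [[(nat_lit 9)],
  [(nat_lit 11)]], (nat_lit 5)⟩,
  ⟨(nat_lit 1), [[(nat_lit 13)]], (nat_lit 7)⟩]
noncomputable def KB : List Lvl := [⟨(nat_lit 28), [[(nat_lit 1)],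
  [(nat_lit 3)],
  [(nat_lit 5)],
  [(nat_lit 7)]], (nat_lit 3)⟩,
  ⟨(nat_lit 0), [[(nat_lit 15)],
  [(nat_lit 17)]], (nat_lit 5)⟩,
  ⟨(nat_lit 1), [[(nat_lit 19)]], (nat_lit 3)⟩]
noncomputable def KC : List Lvl := [⟨(nat_lit 91), [[(nat_lit 1)],
  [(nat_lit 3)],
  [(nat_lit 5)],
  [(nat_lit 7)]], (nat_lit 3)⟩,
  ⟨(nat_lit 2), [[(nat_lit 21)],
  [(nat_lit 23)]], (nat_lit 5)⟩,
  ⟨(nat_lit 1), [[(nat_lit 25)]], (nat_lit 3)⟩]
noncomputable def y7 : List Nat := [(nat_lit 6), (nat_lit 3), (nat_lit 7), (nat_lit 1)]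
noncomputable def T7 : Tr := (.base (nat_lit 268435455) (.focus 0 (.sym [[1]] (.cons [] 6 1 (.base (nat_lit 268435454) (.focus 0 (.op 4 0 (.focus 0 (.op 7 1 (.focus 0 (.op 4 1 (.focus 0 (.op 7 1 (.focus 0 (.op 4 1 (.focus 0 (.op 7 1 (.focus 0 (.cons [] 0 1 (.focus 7 (.base (nat_lit 76751876) (.focus 0 (.focus 7 (.focus 5 (.base (nat_lit 16512) (.op 4 0 (.op 4 0 (.focus 0 (.cons [] 0 1 .triv .nil)))))))))) (.cons [4, 1] 0 0 (.base (nat_lit 76751876) (.op 4 1 (.and 1 0 (.dead0 0)))) (.cons [3, 3, 1] 0 0 (.base (nat_lit 76751876) (.op 4 9 (.and 1 0 (.dead0 0)))) (.cons [3, 5, 1] 0 0 (.base (nat_lit 76751876) (.op 4 1 (.and 1 0 (.dead0 0)))) (.cons [1, 4, 1] 0 0 (.base (nat_lit 76751876) (.op 4 1 (.and 1 0 (.dead0 0)))) (.cons [5, 4, 1] 0 0 (.base (nat_lit 76751876) (.op 4 1 (.and 1 0 (.dead0 0)))) (.cons [1, 3, 1] 0 0 (.base (nat_lit 76751876) (.op 4 9 (.and 1 0 (.dead0 0)))) (.cons [4, 4, 1] 0 0 (.base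 (nat_lit 76751876) (.op 4 1 (.and 1 0 (.dead0 0)))) (.cons [5, 1, 4, 1] 0 0 (.base (nat_lit 76751876) (.op 4 1 (.and 1 0 (.dead0 0)))) (.cons [1, 5, 4, 1] 0 0 (.base (nat_lit 76751876) (.op 7 9 (.op 7 0 (.and 2 0 (.dead0 0))))) (.cons [5, 1, 3, 1] 0 0 (.base (nat_lit 76751876) (.op 4 1 (.op 4 0 (.and 2 0 (.dead0 0))))) (.cons [3, 1, 4, 1] 0 0 (.base (nat_lit 76751876) (.op 4 9 (.and 1 0 (.dead0 0)))) (.cons [3, 1, 3, 1] 0 0 (.base (nat_lit 76751876) (.op 4 9 (.and 1 0 (.dead0 0)))) (.cons [1, 3, 3, 1] 0 0 (.base (nat_lit 76751876) (.op 4 1 (.and 1 0 (.dead0 0)))) (.cons [4, 1, 3, 5, 1] 0 0 (.base (nat_lit 76751876) (.op 4 1 (.and 1 0 (.dead0 0)))) (.cons [3, 5, 1, 4, 1] 0 0 (.base (nat_lit 76751876) (.op 4 1 (.and 1 0 (.dead0 0)))) (.cons [3, 5, 1, 3, 1] 0 0 (.base (nat_lit 76751876) (.op 4 1 (.and 1 0 (.dead0 0)))) (.cons [4, 1, 5, 4, 1] 0 0 (.base (nat_lit 76751876) (.op 4 1 (.and 1 0 (.dead0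 0)))) (.cons [4, 4, 1, 4, 1] 0 0 (.base (nat_lit 76751876) (.op 4 1 (.and 1 0 (.dead0 0)))) (.cons [1, 3, 5, 1, 3, 1] 0 0 (.base (nat_lit 76751876) (.op 4 1 (.and 1 0 (.dead0 0)))) (.cons [1, 4, 1, 5, 4, 1] 0 0 (.base (nat_lit 76751876) (.op 4 1 (.and 1 0 (.dead0 0)))) .nil))))))))))))))))))))))))))))))))))) (.cons [5, 1] 6 0 (.base (nat_lit 268435454) (.focus 0 (.op 4 0 (.focus 0 (.op 7 1 (.focus 0 (.op 4 1 (.focus 0 (.op 7 1 (.focus 0 (.op 4 1 (.focus 0 (.op 7 1 (.focus 0 (.cons [] 0 0 (.base (nat_lit 76751876) (.op 4 1 (.and 1 0 (.dead0 0)))) (.cons [5, 1] 0 0 (.base (nat_lit 76751876) (.op 4 1 (.and 1 0 (.dead0 0)))) (.cons [4, 1] 0 0 (.base (nat_lit 76751876) (.op 4 1 (.and 1 0 (.dead0 0)))) (.cons [3, 1] 0 0 (.base (nat_lit 76751876) (.op 4 1 (.and 1 0 (.dead0 0)))) (.cons [3, 5, 1] 0 0 (.base (nat_lit 76751876) (.op 4 1 (.and 1 0 (.dead0 0)))) (.cons [3, 3, 1] 0 0 (.base (nat_lit 76751876)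 (.op 4 9 (.and 1 0 (.dead0 0)))) (.cons [1, 4, 1] 0 0 (.base (nat_lit 76751876) (.op 4 1 (.and 1 0 (.dead0 0)))) (.cons [5, 4, 1] 0 0 (.base (nat_lit 76751876) (.op 4 1 (.and 1 0 (.dead0 0)))) (.cons [1, 3, 3, 1] 0 0 (.base (nat_lit 76751876) (.op 4 9 (.and 1 0 (.dead0 0)))) (.cons [1, 3, 5, 1] 0 0 (.base (nat_lit 76751876) (.op 4 9 (.and 1 0 (.dead0 0)))) (.cons [5, 1, 4, 1] 0 0 (.base (nat_lit 76751876) (.op 4 1 (.and 1 0 (.dead0 0)))) (.cons [5, 1, 3, 1] 0 0 (.base (nat_lit 76751876) (.op 4 9 (.and 1 0 (.dead0 0)))) (.cons [4, 1, 4, 1] 0 0 (.base (nat_lit 76751876) (.op 4 1 (.and 1 0 (.dead0 0)))) (.cons [3, 1, 3, 1] 0 0 (.base (nat_lit 76751876) (.op 4 1 (.and 1 0 (.dead0 0)))) (.cons [1, 5, 1, 3, 1] 0 0 (.base (nat_lit 76751876) (.op 4 1 (.and 1 0 (.dead0 0)))) (.cons [4, 1, 5, 4, 1] 0 0 (.base (nat_lit 76751876) (.op 4 1 (.and 1 0 (.dead0 0)))) (.cons [3, 5, 1, 3, 1] 0 0 (.base (nat_lit 76751876)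 (.op 4 1 (.and 1 0 (.dead0 0)))) (.cons [3, 5, 1, 4, 1] 0 0 (.base (nat_lit 76751876) (.op 4 9 (.and 1 0 (.dead0 0)))) (.cons [4, 1, 3, 5, 1] 0 0 (.base (nat_lit 76751876) (.op 4 1 (.and 1 0 (.dead0 0)))) (.cons [4, 4, 1, 4, 1] 0 0 (.base (nat_lit 76751876) (.op 4 1 (.op 4 0 (.and 2 0 (.dead0 0))))) (.cons [1, 3, 5, 1, 3, 1] 0 0 (.base (nat_lit 76751876) (.op 4 9 (.and 1 0 (.dead0 0)))) .nil))))))))))))))))))))))))))))))))))) (.cons [6, 1] 6 0 (.base (nat_lit 268435454) (.focus 0 (.op 4 0 (.focus 0 (.op 7 1 (.focus 0 (.op 4 1 (.focus 0 (.op 7 1 (.focus 0 (.op 4 1 (.focus 0 (.op 7 1 (.focus 0 (.cons [] 0 0 (.base (nat_lit 76751876) (.op 4 1 (.and 1 0 (.dead0 0)))) (.cons [1] 0 0 (.base (nat_lit 76751876) (.op 4 1 (.and 1 0 (.dead0 0)))) (.cons [5, 1] 0 0 (.base (nat_lit 76751876) (.op 4 1 (.and 1 0 (.dead0 0)))) (.cons [4, 1] 0 0 (.base (nat_lit 76751876) (.op 4 9 (.op 4 0 (.and 2 0 (.dead0 0)))))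 (.cons [3, 1] 0 0 (.base (nat_lit 76751876) (.op 4 1 (.and 1 0 (.dead0 0)))) (.cons [3, 5, 1] 0 0 (.base (nat_lit 76751876) (.op 4 1 (.and 1 0 (.dead0 0)))) (.cons [4, 4, 1] 0 0 (.base (nat_lit 76751876) (.op 4 1 (.and 1 0 (.dead0 0)))) (.cons [5, 4, 1] 0 0 (.base (nat_lit 76751876) (.op 4 1 (.and 1 0 (.dead0 0)))) (.cons [1, 4, 1] 0 0 (.base (nat_lit 76751876) (.op 4 9 (.and 1 0 (.dead0 0)))) (.cons [1, 3, 1] 0 0 (.base (nat_lit 76751876) (.op 4 9 (.op 4 0 (.and 2 0 (.dead0 0))))) (.cons [5, 1, 4, 1] 0 0 (.base (nat_lit 76751876) (.op 4 9 (.and 1 0 (.dead0 0)))) (.cons [1, 3, 3, 1] 0 0 (.base (nat_lit 76751876) (.op 4 1 (.and 1 0 (.dead0 0)))) (.cons [1, 3, 5, 1] 0 0 (.base (nat_lit 76751876) (.op 4 1 (.and 1 0 (.dead0 0)))) (.cons [5, 1, 3, 1] 0 0 (.base (nat_lit 76751876) (.op 4 1 (.and 1 0 (.dead0 0)))) (.cons [3, 1, 4, 1] 0 0 (.base (nat_lit 76751876) (.op 4 1 (.and 1 0 (.dead0 0)))) (.cons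 [4, 1, 3, 5, 1] 0 0 (.base (nat_lit 76751876) (.op 4 1 (.and 1 0 (.dead0 0)))) (.cons [3, 5, 1, 4, 1] 0 0 (.base (nat_lit 76751876) (.op 4 1 (.and 1 0 (.dead0 0)))) (.cons [3, 5, 1, 3, 1] 0 0 (.base (nat_lit 76751876) (.op 4 1 (.and 1 0 (.dead0 0)))) (.cons [4, 4, 1, 4, 1] 0 0 (.base (nat_lit 76751876) (.op 4 1 (.and 1 0 (.dead0 0)))) (.cons [1, 4, 1, 5, 4, 1] 0 0 (.base (nat_lit 76751876) (.op 4 9 (.and 1 0 (.dead0 0)))) (.cons [1, 3, 5, 1, 3, 1] 0 0 (.base (nat_lit 76751876) (.op 4 9 (.and 1 0 (.dead0 0)))) .nil))))))))))))))))))))))))))))))))))) (.cons [6, 6, 1] 6 0 (.base (nat_lit 268435454) (.focus 0 (.op 4 0 (.focus 0 (.op 7 1 (.focus 0 (.op 4 1 (.focus 0 (.op 7 1 (.focus 0 (.op 4 1 (.focus 0 (.op 7 1 (.focus 0 (.cons [1] 0 0 (.base (nat_lit 76751876) (.op 4 1 (.and 1 0 (.dead0 0)))) (.cons [5, 1] 0 0 (.base (nat_lit 76751876) (.op 4 1 (.and 1 0 (.dead0 0)))) (.cons [4, 1] 0 0 (.base (nat_lit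 76751876) (.op 4 1 (.and 1 0 (.dead0 0)))) (.cons [3, 1] 0 0 (.base (nat_lit 76751876) (.op 4 1 (.and 1 0 (.dead0 0)))) (.cons [1, 4, 1] 0 0 (.base (nat_lit 76751876) (.op 4 9 (.and 1 0 (.dead0 0)))) (.cons [3, 3, 1] 0 0 (.base (nat_lit 76751876) (.op 4 9 (.and 1 0 (.dead0 0)))) (.cons [4, 4, 1] 0 0 (.base (nat_lit 76751876) (.op 4 1 (.and 1 0 (.dead0 0)))) (.cons [1, 3, 1] 0 0 (.base (nat_lit 76751876) (.op 4 1 (.and 1 0 (.dead0 0)))) (.cons [5, 4, 1] 0 0 (.base (nat_lit 76751876) (.op 4 9 (.and 1 0 (.dead0 0)))) (.cons [3, 5, 1] 0 0 (.base (nat_lit 76751876) (.op 4 9 (.and 1 0 (.dead0 0)))) (.cons [4, 1, 4, 1] 0 0 (.base (nat_lit 76751876) (.op 4 9 (.and 1 0 (.dead0 0)))) (.cons [1, 3, 3, 1] 0 0 (.base (nat_lit 76751876) (.op 4 1 (.and 1 0 (.dead0 0)))) (.cons [3, 1, 4, 1] 0 0 (.base (nat_lit 76751876) (.op 7 9 (.op 7 0 (.and 2 0 (.dead0 0))))) (.cons [1, 3, 5, 1] 0 0 (.base (nat_lit 76751876)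 (.op 4 9 (.and 1 0 (.dead0 0)))) (.cons [5, 1, 3, 1] 0 0 (.base (nat_lit 76751876) (.op 4 1 (.and 1 0 (.dead0 0)))) (.cons [4, 1, 3, 5, 1] 0 0 (.base (nat_lit 76751876) (.op 4 1 (.and 1 0 (.dead0 0)))) (.cons [4, 4, 1, 4, 1] 0 0 (.base (nat_lit 76751876) (.op 4 9 (.and 1 0 (.dead0 0)))) (.cons [3, 5, 1, 3, 1] 0 0 (.base (nat_lit 76751876) (.op 4 1 (.and 1 0 (.dead0 0)))) (.cons [4, 1, 5, 4, 1] 0 0 (.base (nat_lit 76751876) (.op 4 1 (.and 1 0 (.dead0 0)))) (.cons [1, 3, 5, 1, 3, 1] 0 0 (.base (nat_lit 76751876) (.op 4 1 (.and 1 0 (.dead0 0)))) (.cons [1, 4, 1, 5, 4, 1] 0 0 (.base (nat_lit 76751876) (.op 4 1 (.and 1 0 (.dead0 0)))) .nil))))))))))))))))))))))))))))))))))) .nil)))))))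
noncomputable def T7K : List (List Nat) := [[7, 4, 5, 1, 4, 5]]
noncomputable def T7F : List (List Nat) := [[], [1]]
noncomputable def WU : List (List Nat) := [[(nat_lit 7), (nat_lit 1), (nat_lit 7), (nat_lit 5), (nat_lit 3), (nat_lit 5), (nat_lit 4), (nat_lit 4)],
  [(nat_lit 4), (nat_lit 5), (nat_lit 3), (nat_lit 7), (nat_lit 3), (nat_lit 5), (nat_lit 4), (nat_lit 5), (nat_lit 1)]]
noncomputable def Nν_0 : Net := Net.nil
noncomputable def Nν : List Net := [Nν_0]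

theorem e_0_all : CF.Comp.Cov e_0_F 4 4 0 := by
  have h := CF.Comp.Cov.zero e_0_F 4
  have h := h.blk (b := 4) e_0_k0_0 rfl
  have h := h.next (y := 1) rfl rfl
  have h := h.blk (b := 4) e_0_k1_0 rfl
  have h := h.next (y := 2) rfl rfl
  have h := h.blk (b := 4) e_0_k2_0 rfl
  have h := h.next (y := 3) rfl rfl
  have h := h.blk (b := 4) e_0_k3_0 rfl
  have h := h.next (y := 4) rfl rfl
  exact h

theorem e_0 : Enum R_0 [] (gensW 2) 8 :=
  ⟨e_0_cols, e_0_ch, e_0_L, e_0_H, e_0_pb.1, e_0_e.get, [(nat_lit 0), (nat_lit 1), (nat_lit 3), (nat_lit 4)], (nat_lit 1), (nat_lit 4), e_0_rots, e_0_hcs,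
    (nat_lit 9), (nat_lit 4), (nat_lit 16), (nat_lit 16), (nat_lit 256), (nat_lit 1023), (nat_lit 8), (nat_lit 255), (nat_lit 11), (nat_lit 2047), (nat_lit 1), (nat_lit 4),
    fun _ _ => rfl, fun _ => rfl, fun _ _ => rfl, by decide +kernel, e_0_all.1⟩

theorem e_1_all : CF.Comp.Cov e_1_F 4 5 0 := by
  have h := CF.Comp.Cov.zero e_1_F 4
  have h := h.blk (b := 4) e_1_k0_0 rfl
  have h := h.next (y := 1) rfl rfl
  have h := h.blk (b := 4) e_1_k1_0 rfl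
  have h := h.next (y := 2) rfl rfl
  have h := h.blk (b := 4) e_1_k2_0 rfl
  have h := h.next (y := 3) rfl rfl
  have h := h.blk (b := 4) e_1_k3_0 rfl
  have h := h.next (y := 4) rfl rfl
  have h := h.blk (b := 4) e_1_k4_0 rfl
  have h := h.next (y := 5) rfl rfl
  exact h

theorem e_1 : Enum R_1 (gensW 2) (gensW 3) 27 :=
  ⟨e_1_cols, e_1_ch, e_1_L, e_1_H, e_1_pb.1, e_1_e.get, [(nat_lit 0), (nat_lit 1), (nat_lit 3), (nat_lit 4), (nat_lit 5)], (nat_lit 5), (nat_lit 4), e_1_rots, e_1_hcs,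
    (nat_lit 28), (nat_lit 5), (nat_lit 32), (nat_lit 32), (nat_lit 1024), (nat_lit 2047), (nat_lit 8), (nat_lit 255), (nat_lit 14), (nat_lit 16383), (nat_lit 1), (nat_lit 4),
    fun _ _ => rfl, fun _ => rfl, fun _ _ => rfl, by decide +kernel, e_1_all.1⟩

theorem e_2_all : CF.Comp.Cov e_2_F 4 6 0 := by
  have h := CF.Comp.Cov.zero e_2_F 4
  have h := h.blk (b := 4) e_2_k0_0 rfl
  have h := h.next (y := 1) rfl rfl
  have h := h.blk (b := 4) e_2_k1_0 rfl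
  have h := h.next (y := 2) rfl rfl
  have h := h.blk (b := 4) e_2_k2_0 rfl
  have h := h.next (y := 3) rfl rfl
  have h := h.blk (b := 4) e_2_k3_0 rfl
  have h := h.next (y := 4) rfl rfl
  have h := h.blk (b := 4) e_2_k4_0 rfl
  have h := h.next (y := 5) rfl rfl
  have h := h.blk (b := 4) e_2_k5_0 rfl
  have h := h.next (y := 6) rfl rfl
  exact h

theorem e_2 : Enum rels (gensW 3) (gensW 4) 28 :=
  ⟨e_2_cols, e_2_ch, e_2_L, e_2_H, e_2_pb.1, e_2_e.get, [(nat_lit 0), (nat_lit 1), (nat_lit 3), (nat_lit 4), (nat_lit 5), (nat_lit 7)], (nat_lit 13), (nat_lit 4), e_2_rots, e_2_hcs,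
    (nat_lit 29), (nat_lit 6), (nat_lit 32), (nat_lit 64), (nat_lit 2048), (nat_lit 2047), (nat_lit 8), (nat_lit 255), (nat_lit 16), (nat_lit 65535), (nat_lit 1), (nat_lit 4),
    fun _ _ => rfl, fun _ => rfl, fun _ _ => rfl, by decide +kernel, e_2_all.1⟩

theorem bnd {K : Type*} [Group K] {g : ℕ → K} (hr : ∀ r ∈ rels, ev g r = 1) : Bound g (gensW 4) 6048 :=
  (e_2.bound (rels_sub hr (by decide +kernel))
    (e_1.bound (rels_sub hr (by decide +kernel))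
    (e_0.bound (rels_sub hr (by decide +kernel))
    (bound_nil _))))

theorem okC : (Bool.rec false (Nat.ble 6048 (chainProd N 147 C)) (chainOK N 147 C) : Bool) = true := by decide +kernel
theorem lab : LabOK 147 8 (repl 147 8) (full 146) := labOK_spec (by decide +kernel)
theorem slp2 : Slp (lapp N N2) 147 8 W2 4 := slp_of_slpOK (by decide +kernel)
theorem ok2 : (Bool.rec false (Nat.ble 6048 (chainProd (lapp N N2) 147 C)) (chainOK (lapp N N2) 147 C) : Bool) = true := by decide +kernel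
theorem okA : (Bool.rec false (Nat.ble 6048 (chainProd (lapp N N2) 147 KA)) (chainOK (lapp N N2) 147 KA) : Bool) = true := by decide +kernel
theorem okB : (Bool.rec false (Nat.ble 6048 (chainProd (lapp N N2) 147 KB)) (chainOK (lapp N N2) 147 KB) : Bool) = true := by decide +kernel
theorem okC' : (Bool.rec false (Nat.ble 6048 (chainProd (lapp N N2) 147 KC)) (chainOK (lapp N N2) 147 KC) : Bool) = true := by decide +kernel
theorem c7 : cycOK (lapp N N2) 147 8 (repl 147 8) (full 146) C y7 7 1 T7F T7K T7 = true := by decide +kernel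

theorem exact : Exact (pD N 147) N (pg N) C ⊤ :=
  exact_pg (k := 8) (by decide +kernel) rfl (by decide) (by decide) (bnd (ug_rels _)) (by decide +kernel) okC

theorem card : Nat.card (PG N) = 6048 := card_of_top (exact.card.trans (by decide +kernel))

instance fin : Finite (PG N) := Nat.finite_of_card_ne_zero (by rw [card]; decide)

theorem edge (hG : commutator (PG N) = ⊤) : (∃ d ∈ charDegrees (PG N), 14 ∣ d) ∧ ∃ d ∈ charDegrees (PG N), 21 ∣ d := by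
  have := Fintype.ofFinite (PG N)
  have hE := exact_extend (c' := C) exact (k := 8) (m := 4) (by decide) rfl slp2 card ok2
  have hA := Exact.rebase (c' := KA) hE card okA
  have hB := Exact.rebase (c' := KB) hE card okB
  have hC := Exact.rebase (c' := KC) hE card okC'
  exact edges hG card (fix_one hA (by decide +kernel)) (fix_one hB (by decide +kernel)) (fix_one hC (by decide +kernel))
    (inner_stab hA hA (ps := [(0, 0), (1, 3)]) (by decide +kernel))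
    (inner_stab hB hB (ps := [(28, 0), (29, 2), (30, 3), (31, 3)]) (by decide +kernel))
    (inner_stab hC hC (ps := [(91, 0), (92, 3), (93, 4), (137, 0)]) (by decide +kernel))
    (inner_stab hB hA (ps := [(0, 3), (1, 1)]) (by decide +kernel))
    (inner_stab hC hA (ps := [(0, 0), (1, 3)]) (by decide +kernel))
    (inner_stab hB hC (ps := [(91, 3), (92, 2), (94, 3)]) (by decide +kernel))

theorem equiv {F : Type*} [Field F] [Fintype F] (hF : Fintype.card F = 9) : Nonempty (PG N ≃* PSU 3 F 3) := by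
  have : Finite (PSU 3 F 3) := Nat.finite_of_card_ne_zero (by rw [U33.card hF]; decide)
  obtain ⟨_, hT⟩ := CF.Schur.Pc.exists_ok_nine hF
  obtain ⟨e⟩ := (U33.chU.nonempty_equiv (exact.reps.sub_of_OK (ν := Nν.head (by simp [Nν])) (k := 5) (ws := WU)
    (by decide +kernel) (by decide) (by decide) (by decide +kernel)) (fun _ h => evs_eq_one (ws := WU) h)
    (U33.linU.hasReps_PSU hT (q := 3) hF (by norm_num) U33.memU) (U33.card hF) (H := ⊤) (fun _ => trivial)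
    (Subgroup.card_top.trans card).le).2
  exact ⟨Subgroup.topEquiv.symm.trans e⟩

end CF.Spec.U33D
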